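import Cfsg.Agent.H97.Frame.Mono

/-!
The unit vectors whose reflection, times that of an axis, lies in the subgroup; and the vectors of the Eichler
elements of a given centre in the subgroup.
-/

set_option autoImplicit false

namespace Cfsg.Agent.H97.Frame

open QuadraticMap Module Cfsg.Agent.Orthogonal
open Cfsg.Agent.H98.SubfieldOrth (SIn)

variable {F V ι : Type*} [Field F] [AddCommGroup V] [Module F V] [Fintype ι] [DecidableEq ι]
variable {Q : QuadraticForm F V} {e : ι → V} {c : F} {H : ONB Q e c} {X : Subgroup (O Q)}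

/-- A unit vector whose reflection agrees with those of the axes modulo `X`. -/
def Pt (_H : ONB Q e c) (X : Subgroup (O Q)) (v : V) : Prop :=
  Q v = c ∧ ∀ i, rO Q v * rO Q (e i) ∈ X

theorem Pt.norm {v : V} (h : Pt H X v) : Q v = c := h.1

theorem Pt.mul {v : V} (h : Pt H X v) (i : ι) : rO Q v * rO Q (e i) ∈ X := h.2 i

variable (hX : Over H X)
include hX

theorem Over.pair' (i j : ι) : rO Q (e i) * rO Q (e j) ∈ X := by
  rcases eq_or_ne i j with rfl | h
  · rw [rO_mul_self]; exact X.one_mem
  · exact hX.pair h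

theorem Over.pt_of {v : V} (hv : Q v = c) {i : ι} (h : rO Q v * rO Q (e i) ∈ X) : Pt H X v :=
  ⟨hv, fun j => by
    have := X.mul_mem h (hX.pair' i j)
    rwa [mul_assoc, ← mul_assoc (rO Q (e i)), rO_mul_self, one_mul] at this⟩

theorem Over.pt_e (i : ι) : Pt H X (e i) :=
  hX.pt_of (H.val i) (i := i) (by rw [rO_mul_self]; exact X.one_mem)

theorem Over.pt_neg {v : V} (h : Pt H X v) : Pt H X (-v) := by
  obtain ⟨hv, h⟩ := h
  refine ⟨by rw [← neg_one_smul F v, qmap_smul, hv]; ring, fun i => ?_⟩
  rw [← neg_one_smul F v, rO_smul (neg_ne_zero.2 one_ne_zero)]; exact h i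

omit hX in
theorem Pt.two {v w : V} (hv : Pt H X v) (hw : Pt H X w) (i : ι) : rO Q v * rO Q w ∈ X := by
  have := X.mul_mem (hv.mul i) (X.inv_mem (hw.mul i))
  rwa [mul_inv_rev, rO_inv, rO_inv, mul_assoc, ← mul_assoc (rO Q (e i)), rO_mul_self, one_mul] at this

theorem Over.pt_refl {v w : V} (hw : Pt H X w) (hv : Pt H X v) (i : ι) :
    Pt H X ((rO Q w : V ≃ₗ[F] V) v) := by
  refine hX.pt_of (by rw [O.map_app, hv.norm]) (i := i) ?_
  have h := X.mul_mem (hw.two hv i) (hw.mul i)
  rw [← conj_rO, rO_inv]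
  rwa [show rO Q w * rO Q v * (rO Q w * rO Q (e i)) = rO Q w * rO Q v * rO Q w * rO Q (e i) by group] at h

theorem Over.pt_app {g : O Q} (hg : g ∈ X) {i : ι} (hgi : Pt H X ((g : V ≃ₗ[F] V) (e i))) {v : V}
    (hv : Pt H X v) : Pt H X ((g : V ≃ₗ[F] V) v) := by
  refine hX.pt_of (by rw [O.map_app, hv.norm]) (i := i) ?_
  have h := X.mul_mem (Over.conj hg (hv.mul i)) (hgi.mul i)
  rw [show g * (rO Q v * rO Q (e i)) * g⁻¹ = g * rO Q v * g⁻¹ * (g * rO Q (e i) * g⁻¹) by group, conj_rO,
    conj_rO, mul_assoc, ← mul_assoc (rO Q ((g : V ≃ₗ[F] V) (e i))), rO_mul_self, one_mul] at h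
  exact h

theorem Over.pt_fix {g : O Q} (hg : g ∈ X) {i : ι} (hgi : (g : V ≃ₗ[F] V) (e i) = e i) {v : V}
    (hv : Pt H X v) : Pt H X ((g : V ≃ₗ[F] V) v) :=
  hX.pt_app hg (by rw [hgi]; exact hX.pt_e i) hv

theorem Over.pt_axis {v : V} (hv : H.Ax v) (hn : Q v = c) : Pt H X v := by
  obtain ⟨j, rfl | rfl⟩ := ONB.Ax.eq H hv hn
  exacts [hX.pt_e j, hX.pt_neg (hX.pt_e j)]

/-- Monomial isometries preserve the set when two coordinates vanish. -/
theorem Over.pt_mono {z : O Q} (hz : z ∈ H.mono) {v : V} (hv : Pt H X v) {a b : ι} (hab : a ≠ b)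
    (ha : H.co a v = 0) (hb : H.co b v = 0) : Pt H X ((z : V ≃ₗ[F] V) v) := by
  obtain ⟨k, hk, hks, hzk⟩ := H.adjust hz hab
  have hzkm := H.mono.mul_mem hz hk
  have hfix : (k : V ≃ₗ[F] V) v = v := ONB.Supp.fix H hks fun i hi => by
    rcases Finset.mem_insert.1 hi with rfl | hi
    · exact ha
    · rw [Finset.mem_singleton.1 hi]; exact hb
  have := hX.pt_app (hX.mem _ hzkm hzk) (i := a) (hX.pt_axis (hzkm a) (by rw [O.map_app, H.val])) hv
  rwa [Subgroup.coe_mul, mul_app, hfix] at this

/-- Membership only depends on the squares of the coordinates. -/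
theorem Over.pt_sign {v w : V} (hv : Pt H X v) (h : ∀ i, H.co i w * H.co i w = H.co i v * H.co i v) :
    Pt H X w := by
  suffices key : ∀ S : Finset ι, ∀ v, Pt H X v → (∀ i, H.co i w * H.co i w = H.co i v * H.co i v) →
      (∀ i, i ∉ S → H.co i w = H.co i v) → Pt H X w from
    key Finset.univ v hv h fun i hi => absurd (Finset.mem_univ i) hi
  intro S
  induction S using Finset.induction with
  | empty =>
    intro v hv _ heq
    have : w = v := H.ext_co fun i => heq i (Finset.notMem_empty i)
    exact this ▸ hv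
  | insert a S haS ih =>
    intro v hv hsq heq
    by_cases ha : H.co a w = H.co a v
    · refine ih v hv hsq fun i hi => ?_
      rcases eq_or_ne i a with rfl | hia
      exacts [ha, heq i (by simp [hia, hi])]
    · have hneg : H.co a w = -H.co a v := (mul_self_eq_mul_self_iff.1 (hsq a)).resolve_left ha
      have hflip : ∀ i, H.co i ((rO Q (e a) : V ≃ₗ[F] V) v) = if i = a then -H.co i v else H.co i v := by
        intro i
        rw [H.dot_e_rO_unit (H.val a), show H.dot (e a) v = H.co a v from rfl]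
        split_ifs with hia
        · rw [hia, H.co_self]; ring
        · rw [H.co_ne hia]; ring
      refine ih _ (hX.pt_refl (hX.pt_e a) hv a) (fun i => ?_) fun i hi => ?_
      · rw [hflip, hsq]
        split_ifs <;> ring
      · rw [hflip]
        split_ifs with hia
        · rw [hia]; exact hneg
        · exact heq i (by simp [hia, hi])

/-- Membership only depends on the multiset of the squares of the coordinates. -/
theorem Over.pt_perm {v w : V} (hv : Pt H X v) {a b : ι} (hab : a ≠ b) (ha : H.co a v = 0) (hb : H.co b v = 0)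
    (π : Equiv.Perm ι) (h : ∀ i, H.co (π i) w * H.co (π i) w = H.co i v * H.co i v) : Pt H X w := by
  obtain ⟨z, hz, hzπ⟩ := H.exists_perm_mono π
  refine hX.pt_sign (hX.pt_mono hz hv hab ha hb) fun j => ?_
  obtain ⟨i, rfl⟩ := π.surjective j
  have : H.co (π i) ((z : V ≃ₗ[F] V) v) = H.co i v := by
    rw [ONB.co, ← hzπ i, H.dot_app]
    rfl
  rw [h i, this]

omit hX

/-- Every element of a field of prime order is the image of a natural number. -/
theorem exists_natCast [Fintype F] (hF : (Fintype.card F).Prime) (x : F) : ∃ k : ℕ, (k : F) = x := by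
  have := Fact.mk hF
  have : CharP F (Fintype.card F) := (CharP.charP_iff_prime_eq_zero hF).2 (FiniteField.cast_card_eq_zero F)
  have hinj : Function.Injective (fun j : Fin (Fintype.card F) => ((j : ℕ) : F)) := fun i j h => by
    have h' := (CharP.natCast_eq_natCast F (Fintype.card F)).1 h
    rw [Nat.ModEq, Nat.mod_eq_of_lt i.2, Nat.mod_eq_of_lt j.2] at h'
    exact Fin.ext h'
  obtain ⟨j, hj⟩ := ((Fintype.bijective_iff_injective_and_card _).2 ⟨hinj, by simp⟩).2 x
  exact ⟨j, hj⟩

/-- Over a prime field the vectors at a centre form a subspace. -/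
theorem sIn_smul [Fintype F] (hF : (Fintype.card F).Prime) {u w : V} (h : SIn X u w) (a : F) :
    SIn X u (a • w) := by
  obtain ⟨k, rfl⟩ := exists_natCast hF a
  induction k with
  | zero => rw [Nat.cast_zero, zero_smul]; exact H98.SubfieldOrth.sIn_zero h.singular
  | succ k ih => rw [Nat.cast_succ, add_smul, one_smul]; exact ih.add h

variable (H X) in
/-- The vectors of the Eichler elements of centre `u` in `X`. -/
def wSub [Fintype F] (hF : (Fintype.card F).Prime) {u : V} (hu : Q u = 0) : Submodule F V where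
  carrier := {w | SIn X u w}
  zero_mem' := H98.SubfieldOrth.sIn_zero hu
  add_mem' := fun h h' => h.add h'
  smul_mem' := fun a _ h => sIn_smul hF h a

/-- Two reflections in vectors of `Pt` give an Eichler element. -/
theorem sIn_of_pt [Fintype F] (hF : (Fintype.card F).Prime) (i : ι) {a v : V} {l : F} (ha : Q a = 0)
    (hav : H.dot a v = 0) (hl : l ≠ 0) (hv : Pt H X v) (hv' : Pt H X (v + l • a)) : SIn X a v := by
  have hpol : ∀ x y, polar Q x y = 2 * c * H.dot x y := fun x y => by
    rw [ONB.dot, ← mul_assoc, mul_inv_cancel₀ H.two_c, one_mul]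
  have hw : polar Q a ((-l / c) • v) = 0 := by rw [polar_smul_right', hpol, hav]; ring
  have hmem : SIn X a ((-l / c) • v) := by
    refine ⟨ha, hw, ?_⟩
    have : sie a ((-l / c) • v) ha hw = rO Q v * rO Q (v + l • a) := O.ext_app fun x => by
      rw [sie_app, Subgroup.coe_mul, mul_app, H.rO_unit hv'.norm, H.rO_unit hv.norm, qmap_smul, polar_smul_left',
        hpol, hpol, hv.norm]
      simp only [H.dot_sub_right, H.dot_smul_right, H.dot_add_left, H.dot_add_right, H.dot_smul_left,
        H.dot_comm v a, hav, H.dot_self_unit hv.norm]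
      have hc := H.c0
      match_scalars <;> field_simp <;> ring
    rw [this]
    exact hv.two hv' i
  have h := sIn_smul hF hmem (-c / l)
  rwa [smul_smul, show -c / l * (-l / c) = 1 by field_simp [H.c0, hl], one_smul] at h

end Cfsg.Agent.H97.Frame
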