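import Cfsg.Agent.H97.Frame.Reduce
import Cfsg.Agent.H97.Frame.Pts

/-!
An element carrying the sign change of a pair to a monomial element is monomial.
-/

set_option autoImplicit false

namespace Cfsg.Agent.H97.Frame

open QuadraticMap Module Cfsg.Agent.Orthogonal

variable {F V ι : Type*} [Field F] [AddCommGroup V] [Module F V] [Fintype ι] [DecidableEq ι]
variable {Q : QuadraticForm F V} {e : ι → V} {c : F} {H : ONB Q e c} {X : Subgroup (O Q)}

theorem ONB.app_mem_sub (H : ONB Q e c) {g : O Q} {B C : Finset ι}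
    (h : ∀ b ∈ B, (g : V ≃ₗ[F] V) (e b) ∈ H.sub C) {v : V} (hv : v ∈ H.sub B) :
    (g : V ≃ₗ[F] V) v ∈ H.sub C := by
  rw [H.eq_sum v, map_sum]
  refine Submodule.sum_mem _ fun i _ => ?_
  rw [map_smul]
  by_cases hi : i ∈ B
  · exact Submodule.smul_mem _ _ (h i hi)
  · rw [hv i hi, zero_smul]; exact Submodule.zero_mem _

theorem ONB.IsDiag.subset (H : ONB Q e c) {d : O Q} {A B : Finset ι} (hd : H.IsDiag d B) (hs : H.Supp d A) :
    B ⊆ A := fun i hi => by
  by_contra hiA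
  have h := congrArg (H.co i) ((hd i).symm.trans (hs i hiA))
  rw [if_pos hi, H.co_neg, H.co_self] at h
  exact H.two (by linear_combination -h)

/-- A monomial isometry carries the sign change of a pair to one of a pair. -/
theorem ONB.mono_pair (H : ONB Q e c) {w : O Q} (hw : w ∈ H.mono) {a b : ι} (hab : a ≠ b) :
    ∃ a' b', a' ≠ b' ∧ w * (rO Q (e a) * rO Q (e b)) * w⁻¹ = rO Q (e a') * rO Q (e b') := by
  obtain ⟨σ, hσ⟩ := ONB.IsMono.exists_perm H hw
  refine ⟨σ a, σ b, fun h => hab (σ.injective h), ?_⟩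
  have hr : ∀ i, rO Q ((w : V ≃ₗ[F] V) (e i)) = rO Q (e (σ i)) := fun i => by
    rcases hσ i with h | h
    · rw [h]
    · rw [h, ← neg_one_smul F (e (σ i)), rO_smul (neg_ne_zero.2 one_ne_zero)]
  rw [show w * (rO Q (e a) * rO Q (e b)) * w⁻¹ = w * rO Q (e a) * w⁻¹ * (w * rO Q (e b) * w⁻¹) by group, conj_rO,
    conj_rO, hr, hr]

/-- Reflections in orthogonal vectors commute. -/
theorem ONB.rO_comm (H : ONB Q e c) {u v : V} (h : H.dot u v = 0) : rO Q u * rO Q v = rO Q v * rO Q u := by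
  have h' := conj_rO (rO Q u) v
  rw [rO_fix (H.polar_of_dot h), rO_inv] at h'
  conv_rhs => rw [← h']
  rw [mul_assoc, rO_mul_self, mul_one]

/-- The facts assumed on the small sets for a set of coordinates. -/
structure Ready (H : ONB Q e c) (X : Subgroup (O Q)) (k : ℕ) (A : Finset ι) : Prop where
  below : Below H X k
  five : 5 ≤ A.card
  two : A.card < k + 2
  four : 4 < k
  spare : A.card = 6 ∨ A.card = 8 → (∃ i, i ∉ A) ∧ 5 < k

variable (hX : Over H X)
include hX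

/-- An element with an invariant pair or quad is monomial. -/
theorem Over.split_even [Fintype F] (hF : (Fintype.card F).Prime) {k : ℕ} {A B : Finset ι} (hR : Ready H X k A)
    {g : O Q} (hg : g ∈ X) (hs : H.Supp g A) (hBA : B ⊆ A) (hB : B.card = 2 ∨ B.card = 4)
    (hpres : ∀ b ∈ B, (g : V ≃ₗ[F] V) (e b) ∈ H.sub B) : g ∈ H.mono := by
  have hsd := Finset.card_sdiff_of_subset hBA
  have := hR.two
  have := hR.four
  have := hR.five
  refine hX.split hF hR.below hg hs hBA hpres (by omega) (by omega) fun _ hC => ?_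
  obtain ⟨⟨i, hi⟩, h5⟩ := hR.spare (by omega)
  exact ⟨i, hi, by omega⟩

/-- An element commuting with the sign change of a pair or a quad is monomial. -/
theorem Over.mono_of_comm [Fintype F] (hF : (Fintype.card F).Prime) {k : ℕ} {A B : Finset ι} (hR : Ready H X k A)
    {g : O Q} (hg : g ∈ X) (hs : H.Supp g A) (hBA : B ⊆ A) (hB : B.card = 2 ∨ B.card = 4) {d : O Q}
    (hd : H.IsDiag d B) (hcomm : g * d * g⁻¹ = d) : g ∈ H.mono :=
  hX.split_even hF hR hg hs hBA hB fun _ hb => (H.diag_maps hd hd hcomm).1 hb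

/-- Conjugating a sign change of a pair or a quad to another gives a monomial element. -/
theorem Over.mono_of_diag [Fintype F] (hF : (Fintype.card F).Prime) {k : ℕ} {A B B' : Finset ι}
    (hR : Ready H X k A) {w : O Q} (hw : w ∈ X) (hs : H.Supp w A) {d d' : O Q} (hd : H.IsDiag d B)
    (hd' : H.IsDiag d' B') (hB : B ⊆ A) (hB' : B' ⊆ A) (hc : B.card = 2 ∨ B.card = 4)
    (h : w * d' * w⁻¹ = d) : w ∈ H.mono := by
  have hcard := H.diag_card hd' hd h
  obtain ⟨π, hπX, hπm, hπs, hπ⟩ := hX.exists_move (A := A) (B := B) (B' := B') (by have := hR.five; omega) hB hB'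
    hcard.symm
  have hm : π * w ∈ H.mono := hX.split_even hF hR (X.mul_mem hπX hw) (ONB.Supp.mul H hπs hs) hB' (by omega)
    fun b hb => by
      rw [Subgroup.coe_mul, mul_app]
      exact H.app_mem_sub hπ ((H.diag_maps hd' hd h).1 hb)
  have := H.mono.mul_mem (H.mono.inv_mem hπm) hm
  rwa [inv_mul_cancel_left] at this

/-- The case of two transpositions. -/
theorem Over.weak_two [Fintype F] (hF : (Fintype.card F).Prime) {k : ℕ} {A : Finset ι} (hR : Ready H X k A)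
    {w : O Q} (hw : w ∈ X) (hs : H.Supp w A) {a b : ι} (hab : a ≠ b)
    (hcase : ((∀ i, Pt H X ((w : V ≃ₗ[F] V) (e i))) ∧ (A.card = 5 ∨ 5 < k)) ∨ 6 < k)
    {j₁ j₂ j₃ j₄ : ι} {δ δ' : F} {u u' v v' : V} (hu : u = e j₁ - δ • e j₂) (hv : v = e j₁ + δ • e j₂)
    (hu' : u' = e j₃ - δ' • e j₄) (hv' : v' = e j₃ + δ' • e j₄) (hδ : δ * δ = 1) (hδ' : δ' * δ' = 1)
    (hj12 : j₁ ≠ j₂) (hdisJ : Disjoint ({j₁, j₂} : Finset ι) {j₃, j₄}) (hj34 : j₃ ≠ j₄)
    (hjA : ({j₁, j₂} : Finset ι) ⊆ A) (hjA' : ({j₃, j₄} : Finset ι) ⊆ A) {α β : ι} (hαβ : α ≠ β)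
    (hαab : α ∈ A \ {a, b}) (hβab : β ∈ A \ {a, b}) (hlS : ((w⁻¹ : O Q) : V ≃ₗ[F] V) v ∈ H.sub {α, β})
    (hlα : H.co α (((w⁻¹ : O Q) : V ≃ₗ[F] V) v) ≠ 0) (hlβ : H.co β (((w⁻¹ : O Q) : V ≃ₗ[F] V) v) ≠ 0)
    {C : Finset ι} (hSS : Disjoint ({α, β} : Finset ι) C) (hv'S : ((w⁻¹ : O Q) : V ≃ₗ[F] V) v' ∈ H.sub C)
    (huab : ((w⁻¹ : O Q) : V ≃ₗ[F] V) u ∈ H.sub {a, b}) (hu'ab : ((w⁻¹ : O Q) : V ≃ₗ[F] V) u' ∈ H.sub {a, b})
    (hwaJ : (w : V ≃ₗ[F] V) (e a) ∈ H.sub ({j₁, j₂} ∪ {j₃, j₄})) : False := by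
  classical
  set J : Finset ι := {j₁, j₂} ∪ {j₃, j₄} with hJ
  have hJA : J ⊆ A := Finset.union_subset hjA hjA'
  have hJc : J.card = 4 := by rw [hJ, Finset.card_union_of_disjoint hdisJ, Finset.card_pair hj12, Finset.card_pair hj34]
  have hvs : v ∈ H.sub {j₁, j₂} := by
    rw [hv]; exact add_mem (H.e_mem_sub (by simp)) (Submodule.smul_mem _ _ (H.e_mem_sub (by simp)))
  have hvA := H.sub_mono hjA hvs
  have hlf : ∀ z, ((w⁻¹ : O Q) : V ≃ₗ[F] V) ((w : V ≃ₗ[F] V) z) = z := fun z => by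
    rw [← mul_app, ← Subgroup.coe_mul, inv_mul_cancel]; rfl
  have hwl : (w : V ≃ₗ[F] V) (((w⁻¹ : O Q) : V ≃ₗ[F] V) v) = v := by
    rw [← mul_app, ← Subgroup.coe_mul, mul_inv_cancel]; rfl
  have hv'A : v' ∈ H.sub A := by
    rw [hv']; exact add_mem (H.e_mem_sub (hjA' (by simp))) (Submodule.smul_mem _ _ (H.e_mem_sub (hjA' (by simp))))
  set l := ((w⁻¹ : O Q) : V ≃ₗ[F] V) v with hl
  set f := H.co β l • e α - H.co α l • e β with hf
  have hfS : f ∈ H.sub {α, β} :=
    sub_mem (Submodule.smul_mem _ _ (H.e_mem_sub (by simp))) (Submodule.smul_mem _ _ (H.e_mem_sub (by simp)))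
  have hdαβ : H.dot (e α) (e β) = 0 := H.co_ne hαβ
  have hdβα : H.dot (e β) (e α) = 0 := H.co_ne (Ne.symm hαβ)
  have hfl : H.dot f l = 0 := by
    rw [hf, H.dot_sub_left, H.dot_smul_left, H.dot_smul_left]
    exact (by ring : H.co β l * H.co α l - H.co α l * H.co β l = 0)
  have hll : H.dot l l = H.co α l * H.co α l + H.co β l * H.co β l := by
    rw [H.dot_mem_sub hlS, Finset.sum_pair hαβ]
  have hQv : Q v = 2 * c := by
    rw [hv]
    have h := H.qmap_swp hj12 (ε := -δ) (by rw [neg_mul_neg]; exact hδ)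
    rwa [neg_smul, sub_neg_eq_add] at h
  have hN : H.dot l l ≠ 0 := by
    rw [hl, H.dot_app, H.dot_self, hQv]; exact mul_ne_zero (inv_ne_zero H.c0) H.two_c
  have hff : H.dot f f = H.dot l l := by
    rw [hll, hf]
    simp only [H.dot_sub_left, H.dot_sub_right, H.dot_smul_left, H.dot_smul_right, H.dot_self_unit (H.val _), hdαβ,
      hdβα]
    ring
  set p := (w : V ≃ₗ[F] V) f with hp
  have hplf : ∀ z, H.dot p z = H.dot f (((w⁻¹ : O Q) : V ≃ₗ[F] V) z) := fun z => by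
    conv_lhs => rw [← H.dot_app w⁻¹, hp, hlf]
  have hfab : ∀ {z : V}, z ∈ H.sub {a, b} → H.dot f z = 0 := fun hz =>
    H.dot_eq_zero_of_disjoint (by
      have h1 := (Finset.mem_sdiff.1 hαab).2
      have h2 := (Finset.mem_sdiff.1 hβab).2
      simp only [Finset.mem_insert, Finset.mem_singleton, not_or] at h1 h2
      simp [h1.1, h1.2, h2.1, h2.2, Ne.symm h1.1, Ne.symm h1.2, Ne.symm h2.1, Ne.symm h2.2]) hfS hz
  have hp1 : H.dot p v = 0 := by rw [hplf]; exact hfl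
  have hp2 : H.dot p u = 0 := by rw [hplf]; exact hfab huab
  have hp3 : H.dot p v' = 0 := by
    rw [hplf]; exact H.dot_eq_zero_of_disjoint hSS hfS hv'S
  have hp4 : H.dot p u' = 0 := by rw [hplf]; exact hfab hu'ab
  have hpA : p ∈ H.sub A := ONB.Supp.app_mem H hs (H.sub_mono (by
    simp [Finset.insert_subset_iff, (Finset.mem_sdiff.1 hαab).1, (Finset.mem_sdiff.1 hβab).1]) hfS)
  have hpR : p ∈ H.sub (A \ J) := by
    intro i hi
    by_cases hiA : i ∈ A
    · have hiJ : i ∈ J := by_contra fun h => hi (Finset.mem_sdiff.2 ⟨hiA, h⟩)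
      rw [hv, H.dot_add_right, H.dot_smul_right, H.dot_comm p, H.dot_comm p] at hp1
      rw [hu, H.dot_sub_right, H.dot_smul_right, H.dot_comm p, H.dot_comm p] at hp2
      rw [hv', H.dot_add_right, H.dot_smul_right, H.dot_comm p, H.dot_comm p] at hp3
      rw [hu', H.dot_sub_right, H.dot_smul_right, H.dot_comm p, H.dot_comm p] at hp4
      change H.co j₁ p + δ * H.co j₂ p = 0 at hp1
      change H.co j₁ p - δ * H.co j₂ p = 0 at hp2
      change H.co j₃ p + δ' * H.co j₄ p = 0 at hp3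
      change H.co j₃ p - δ' * H.co j₄ p = 0 at hp4
      have g1 : 2 * H.co j₁ p = 0 := by linear_combination hp1 + hp2
      have g2 : 2 * H.co j₂ p = 0 := by linear_combination δ * hp1 - δ * hp2 - 2 * H.co j₂ p * hδ
      have g3 : 2 * H.co j₃ p = 0 := by linear_combination hp3 + hp4
      have g4 : 2 * H.co j₄ p = 0 := by linear_combination δ' * hp3 - δ' * hp4 - 2 * H.co j₄ p * hδ'
      simp only [hJ, Finset.mem_union, Finset.mem_insert, Finset.mem_singleton] at hiJ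
      rcases hiJ with (rfl | rfl) | (rfl | rfl)
      exacts [(mul_eq_zero.1 g1).resolve_left H.two, (mul_eq_zero.1 g2).resolve_left H.two,
        (mul_eq_zero.1 g3).resolve_left H.two, (mul_eq_zero.1 g4).resolve_left H.two]
    · exact hpA i hiA
  have hQf : Q f ≠ 0 := fun h => hN (by rw [← hff, H.dot_self, h, mul_zero])
  have hQl : Q l ≠ 0 := fun h => hN (by rw [H.dot_self, h, mul_zero])
  have hy : rO Q p * rO Q v ∈ X := by
    have hd := H.isDiag_plane hαβ hfS hlS hQf hQl hfl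
    have h := Over.conj hw (hX.pair hαβ)
    rw [← ONB.IsDiag.unique H hd (H.isDiag_pair hαβ),
      show w * (rO Q f * rO Q l) * w⁻¹ = w * rO Q f * w⁻¹ * (w * rO Q l * w⁻¹) by group, conj_rO, conj_rO, hwl,
      ← hp] at h
    exact h
  have hvJ : v ∈ H.sub J := H.sub_mono Finset.subset_union_left hvs
  have hsupp : H.Supp (rO Q p * rO Q v) A :=
    ONB.Supp.mul H (ONB.Supp.anti H (H.rO_supp hpR) Finset.sdiff_subset)
      (ONB.Supp.anti H (H.rO_supp hvJ) hJA)
  have hym := hX.split_even hF hR hy hsupp hJA (Or.inr hJc) fun i hi => by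
    rw [Subgroup.coe_mul, mul_app]
    have h1 : (rO Q v : V ≃ₗ[F] V) (e i) ∈ H.sub J := by
      rw [rO_app]; exact sub_mem (H.e_mem_sub hi) (Submodule.smul_mem _ _ hvJ)
    rw [rO_fix (H.polar_of_dot (H.dot_eq_zero_of_disjoint Finset.sdiff_disjoint hpR h1))]
    exact h1
  have hQp : Q p ≠ 0 := by rw [hp, O.map_app]; exact hQf
  set Sp := (A \ J).filter (fun i => H.co i p ≠ 0) with hSp
  have hSp2 : Sp.card ≤ 2 := H.card_supp_le_two hQp hym
    (fun i hi => hvJ i (Finset.mem_sdiff.1 (Finset.mem_filter.1 hi).1).2) (fun i hi => (Finset.mem_filter.1 hi).2)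
  have hpSp : p ∈ H.sub Sp := fun i hi => by
    by_contra h
    exact hi (Finset.mem_filter.2 ⟨by_contra fun h' => h (hpR i h'), h⟩)
  obtain ⟨r, hr⟩ : Sp.Nonempty := by
    rcases Sp.eq_empty_or_nonempty with h | h
    · exfalso
      have h0 := H.dot_mem_sub hpSp (v := p)
      rw [h, Finset.sum_empty, H.dot_self, mul_eq_zero] at h0
      exact hQp (h0.resolve_left (inv_ne_zero H.c0))
    · exact h
  obtain ⟨hrAJ, hrne⟩ := Finset.mem_filter.1 hr
  obtain ⟨hrA, hrJ⟩ := Finset.mem_sdiff.1 hrAJ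
  set x := (w : V ≃ₗ[F] V) (e α) with hxdef
  have hxdec : x = (H.co α l / H.dot l l) • v + (H.co β l / H.dot l l) • p := by
    have hdec : e α = (H.co α l / H.dot l l) • l + (H.co β l / H.dot l l) • f := by
      refine H.ext_co fun i => ?_
      rw [H.co_add, H.co_smul, H.co_smul, hf, H.co_sub, H.co_smul, H.co_smul, H.co_e, H.co_e]
      rcases eq_or_ne i α with rfl | hiα
      · rw [if_pos rfl, if_neg hαβ]
        field_simp
        rw [hll]; ring
      rcases eq_or_ne i β with rfl | hiβ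
      · rw [if_neg hiα, if_pos rfl]
        field_simp
        ring
      · rw [hlS i (by simp [hiα, hiβ]), if_neg hiα, if_neg hiβ]; ring
    rw [hxdef, hdec, map_add, map_smul, map_smul, hwl, hp]
  have hxs : x ∈ H.sub ({j₁, j₂} ∪ Sp) := by
    rw [hxdec]
    exact add_mem (Submodule.smul_mem _ _ (H.sub_mono Finset.subset_union_left hvs))
      (Submodule.smul_mem _ _ (H.sub_mono Finset.subset_union_right hpSp))
  have hj₁J : j₁ ∈ J := by simp [hJ]
  have hj₂J : j₂ ∈ J := by simp [hJ]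
  have hj₁ : H.co j₁ x ≠ 0 := by
    rw [hxdec, H.co_add, H.co_smul, H.co_smul, hpR j₁ (fun h => (Finset.mem_sdiff.1 h).2 hj₁J), hv, H.co_add,
      H.co_smul, H.co_self, H.co_ne hj12]
    simpa using div_ne_zero hlα hN
  have hj₂ : H.co j₂ x ≠ 0 := by
    rw [hxdec, H.co_add, H.co_smul, H.co_smul, hpR j₂ (fun h => (Finset.mem_sdiff.1 h).2 hj₂J), hv, H.co_add,
      H.co_smul, H.co_self, H.co_ne (Ne.symm hj12)]
    have hδ0 : δ ≠ 0 := fun h => by rw [h, zero_mul] at hδ; exact zero_ne_one hδ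
    simpa [hδ0] using div_ne_zero hlα hN
  have hrx : H.co r x ≠ 0 := by
    rw [hxdec, H.co_add, H.co_smul, H.co_smul, hvJ r hrJ, mul_zero, zero_add]
    exact mul_ne_zero (div_ne_zero hlβ hN) hrne
  have hxQ : Q x ≠ 0 := by rw [hxdef, O.map_app]; rw [H.val]; exact H.c0
  have hfin : ∀ {z : V} {T : Finset ι}, rO Q x * rO Q z ∈ X → H.co r z = 0 → x ∈ H.sub T → z ∈ H.sub T →
      T.card < k → False := by
    intro z T hm hz hxT hzT hT
    exact H.no_three hxQ (hR.below T hT _ hm (ONB.Supp.mul H (H.rO_supp hxT) (H.rO_supp hzT))) hz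
      (fun h => hrJ (h ▸ hj₁J)) (fun h => hrJ (h ▸ hj₂J)) hj12 hrx hj₁ hj₂
  have hcardU : ({j₁, j₂} ∪ Sp : Finset ι).card ≤ 2 + Sp.card :=
    (Finset.card_union_le _ _).trans (by rw [Finset.card_pair hj12])
  rcases hcase with ⟨hcols, hk⟩ | hk6
  · obtain ⟨j, hj⟩ : ∃ j, j ∉ ({j₁, j₂} ∪ Sp : Finset ι) := by
      by_contra! h
      have h' := Finset.card_le_univ A
      rw [Finset.eq_univ_iff_forall.2 h, Finset.card_univ] at hcardU
      have := hR.five
      omega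
    have hSpA : Sp.card + 4 ≤ A.card := by
      have h : Sp.card ≤ (A \ J).card := Finset.card_le_card (Finset.filter_subset _ _)
      rw [Finset.card_sdiff_of_subset hJA, hJc] at h
      have := hR.five
      omega
    refine hfin (z := e j) (T := insert j ({j₁, j₂} ∪ Sp)) ((hcols α).mul j) (H.co_ne fun h => hj ?_)
      (H.sub_mono (Finset.subset_insert _ _) hxs) (H.e_mem_sub (Finset.mem_insert_self _ _)) ?_
    · rw [← h]; exact Finset.mem_union_right _ hr
    · rw [Finset.card_insert_of_notMem hj]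
      have := hR.four
      omega
  · set y := (w : V ≃ₗ[F] V) (e a) with hydef
    have hyJ : y ∈ H.sub J := hwaJ
    have hαa : α ≠ a := fun h => (Finset.mem_sdiff.1 hαab).2 (by simp [h])
    have hm : rO Q x * rO Q y ∈ X := by
      have h := Over.conj hw (hX.pair hαa)
      rw [show w * (rO Q (e α) * rO Q (e a)) * w⁻¹ = w * rO Q (e α) * w⁻¹ * (w * rO Q (e a) * w⁻¹) by group,
        conj_rO, conj_rO] at h
      exact h
    refine hfin (z := y) (T := J ∪ Sp) hm (hyJ r hrJ)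
      (H.sub_mono (Finset.union_subset_union Finset.subset_union_left subset_rfl) hxs)
      (H.sub_mono Finset.subset_union_left hyJ) ?_
    have := Finset.card_union_le J Sp
    omega


/-- An element carrying the sign change of a pair to a monomial element is monomial. -/
theorem Over.weak [Fintype F] (hF : (Fintype.card F).Prime) {k : ℕ} {A : Finset ι} (hR : Ready H X k A)
    {w : O Q} (hw : w ∈ X) (hs : H.Supp w A) {a b : ι} (ha : a ∈ A) (hb : b ∈ A) (hab : a ≠ b)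
    (hcase : ((∀ i, Pt H X ((w : V ≃ₗ[F] V) (e i))) ∧ (A.card = 5 ∨ 5 < k)) ∨ 6 < k)
    (ht : w * (rO Q (e a) * rO Q (e b)) * w⁻¹ ∈ H.mono) : w ∈ H.mono := by
  classical
  set s := rO Q (e a) * rO Q (e b) with hsdef
  set t := w * s * w⁻¹ with htdef
  have hsd : H.IsDiag s {a, b} := H.isDiag_pair hab
  have habA : ({a, b} : Finset ι) ⊆ A := by simp [Finset.insert_subset_iff, ha, hb]
  have hne : ∀ i, Q (e i) ≠ 0 := fun i => by rw [H.val]; exact H.c0
  have hss : H.Supp s A := ONB.Supp.anti H (ONB.IsDiag.supp H hsd) habA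
  have hts : H.Supp t A := ONB.Supp.conj H hs hss
  have hwX' := X.inv_mem hw
  have hws' := ONB.Supp.inv H hs
  have hww : ∀ v, (w : V ≃ₗ[F] V) (((w⁻¹ : O Q) : V ≃ₗ[F] V) v) = v := fun v => by
    rw [← mul_app, ← Subgroup.coe_mul, mul_inv_cancel]; rfl
  -- negated and fixed vectors of `t` pull back to the pair and its complement
  have hneg : ∀ {v : V}, (t : V ≃ₗ[F] V) v = -v → ((w⁻¹ : O Q) : V ≃ₗ[F] V) v ∈ H.sub {a, b} := by
    intro v hv
    refine H.app_neg_mem hsd ?_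
    rw [← map_neg, ← hv, ← mul_app, ← mul_app, ← Subgroup.coe_mul, ← Subgroup.coe_mul, htdef]
    group
  have hfix : ∀ {v : V}, v ∈ H.sub A → (t : V ≃ₗ[F] V) v = v →
      ((w⁻¹ : O Q) : V ≃ₗ[F] V) v ∈ H.sub (A \ {a, b}) := by
    intro v hvA hv i hi
    by_cases hiA : i ∈ A
    · refine H.app_fix_mem hsd ?_ i (by_contra fun h => hi (Finset.mem_sdiff.2 ⟨hiA, h⟩))
      conv_rhs => rw [← hv]
      rw [← mul_app, ← mul_app, ← Subgroup.coe_mul, ← Subgroup.coe_mul, htdef]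
      group
    · exact ONB.Supp.app_mem H hws' hvA i hiA
  set lf : V → V := fun L => ((w⁻¹ : O Q) : V ≃ₗ[F] V) L with hlf
  set S : V → Finset ι := fun L => (A \ {a, b}).filter (fun i => H.co i (lf L) ≠ 0) with hSdef
  have hdotlf : ∀ u v, H.dot (lf u) (lf v) = H.dot u v := fun u v => H.dot_app _ _ _
  have hQlf : ∀ u, Q (lf u) = Q u := fun u => O.map_app _ _
  have hSsub : ∀ {L : V}, L ∈ H.sub A → (t : V ≃ₗ[F] V) L = L → lf L ∈ H.sub (S L) := by
    intro L hL htL i hi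
    by_contra h
    exact hi (Finset.mem_filter.2 ⟨by_contra fun h' => h (hfix hL htL i h'), h⟩)
  -- the line lemma
  have hline : ∀ {L P : V}, L ∈ H.sub A → P ∈ H.sub A → (t : V ≃ₗ[F] V) L = L → (t : V ≃ₗ[F] V) P = -P →
      Q L ≠ 0 → rO Q L * rO Q P ∈ X → (S L).card ≤ 2 := by
    intro L P hL hP htL htP hQL hy
    have hl := hfix hL htL
    have hp := hneg htP
    have hy' : rO Q (lf L) * rO Q (lf P) ∈ X := by
      rw [← conj_rO, ← conj_rO]
      convert Over.conj hwX' hy using 1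
      group
    have hsupp : H.Supp (rO Q (lf L) * rO Q (lf P)) A :=
      ONB.Supp.mul H (ONB.Supp.anti H (H.rO_supp hl) Finset.sdiff_subset) (ONB.Supp.anti H (H.rO_supp hp) habA)
    have hm := hX.split_even hF hR hy' hsupp habA (Or.inl (Finset.card_pair hab)) fun i hi => by
      rw [Subgroup.coe_mul, mul_app]
      have h1 : (rO Q (lf P) : V ≃ₗ[F] V) (e i) ∈ H.sub {a, b} := by
        rw [rO_app]; exact sub_mem (H.e_mem_sub hi) (Submodule.smul_mem _ _ hp)
      rw [rO_fix (H.polar_of_dot (H.dot_eq_zero_of_disjoint Finset.sdiff_disjoint hl h1))]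
      exact h1
    exact H.card_supp_le_two (by rw [hQlf]; exact hQL) hm
      (fun i hi => hp i fun h => (Finset.mem_sdiff.1 (Finset.mem_filter.1 hi).1).2 h)
      (fun i hi => (Finset.mem_filter.1 hi).2)
  -- two lines on the same two coordinates
  have hU : ∀ {L L' : V}, L ∈ H.sub A → L' ∈ H.sub A → (t : V ≃ₗ[F] V) L = L → (t : V ≃ₗ[F] V) L' = L' →
      Q L ≠ 0 → Q L' ≠ 0 → H.dot L L' = 0 → (S L ∪ S L').card ≤ 2 →
      H.IsDiag (rO Q (lf L) * rO Q (lf L')) (S L ∪ S L') ∧ (S L ∪ S L').card = 2 ∧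
        (S L ∪ S L') ⊆ A \ {a, b} := by
    intro L L' hL hL' htL htL' hQ hQ' hd hU
    have h1 := H.sub_mono Finset.subset_union_left (hSsub hL htL) (B := S L) (C := S L ∪ S L')
    have h2 := H.sub_mono Finset.subset_union_right (hSsub hL' htL') (B := S L') (C := S L ∪ S L')
    have hge : 2 ≤ (S L ∪ S L').card := by
      have := H.card_le_of_orth (S := (Finset.univ : Finset (Fin 2))) (f := ![lf L, lf L']) (T := S L ∪ S L')
        (fun i _ => by fin_cases i <;> simp [hQlf, hQ, hQ'])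
        (fun i _ j _ hij => by
          fin_cases i <;> fin_cases j <;>
            simp [hdotlf, hd, H.dot_comm L' L] at hij ⊢)
        (fun i _ => by fin_cases i <;> simp [h1, h2])
      simpa using this
    obtain ⟨i, j, hij, heq⟩ := Finset.card_eq_two.1 (le_antisymm hU hge)
    refine ⟨?_, le_antisymm hU hge, Finset.union_subset (Finset.filter_subset _ _) (Finset.filter_subset _ _)⟩
    rw [heq] at h1 h2 ⊢
    exact H.isDiag_plane hij h1 h2 (by rw [hQlf]; exact hQ) (by rw [hQlf]; exact hQ') (by rw [hdotlf]; exact hd)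
  have hdoneTwo : ∀ {L L' : V} {B : Finset ι}, L ∈ H.sub A → L' ∈ H.sub A → (t : V ≃ₗ[F] V) L = L →
      (t : V ≃ₗ[F] V) L' = L' → Q L ≠ 0 → Q L' ≠ 0 → H.dot L L' = 0 → H.IsDiag (rO Q L * rO Q L') B → B ⊆ A →
      B.card = 2 → (S L ∪ S L').card ≤ 2 → w ∈ H.mono := by
    intro L L' B hL hL' htL htL' hQ hQ' hd hB hBA hBc hU'
    obtain ⟨hdiag, hUc, hUA⟩ := hU hL hL' htL htL' hQ hQ' hd hU'
    refine hX.mono_of_diag hF hR hw hs hB hdiag hBA (hUA.trans Finset.sdiff_subset) (Or.inl hBc) ?_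
    rw [show w * (rO Q (lf L) * rO Q (lf L')) * w⁻¹ = w * rO Q (lf L) * w⁻¹ * (w * rO Q (lf L') * w⁻¹) by group,
      conj_rO, conj_rO, hlf, hww, hww]
  have hdoneFour : ∀ {L L' P P' : V} {B B' : Finset ι}, L ∈ H.sub A → L' ∈ H.sub A → (t : V ≃ₗ[F] V) L = L →
      (t : V ≃ₗ[F] V) L' = L' → (t : V ≃ₗ[F] V) P = -P → (t : V ≃ₗ[F] V) P' = -P' → Q L ≠ 0 → Q L' ≠ 0 →
      Q P ≠ 0 → Q P' ≠ 0 → H.dot L L' = 0 → H.dot P P' = 0 → H.IsDiag (rO Q L * rO Q P) B →
      H.IsDiag (rO Q L' * rO Q P') B' → Disjoint B B' → B ⊆ A → B' ⊆ A → B.card = 2 → B'.card = 2 →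
      (S L ∪ S L').card ≤ 2 → w ∈ H.mono := by
    intro L L' P P' B B' hL hL' htL htL' htP htP' hQ hQ' hQP hQP' hd hdP hB hB' hdis hBA hBA' hBc hBc' hU'
    obtain ⟨hdiag, hUc, hUA⟩ := hU hL hL' htL htL' hQ hQ' hd hU'
    have hpp := H.isDiag_plane hab (hneg htP) (hneg htP') (by rw [O.map_app]; exact hQP)
      (by rw [O.map_app]; exact hQP') (by rw [H.dot_app]; exact hdP)
    have hdiag' := ONB.IsDiag.mul H hdiag hpp
    rw [(Finset.disjoint_of_subset_left hUA Finset.sdiff_disjoint).symmDiff_eq_sup, Finset.sup_eq_union] at hdiag'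
    have hall := ONB.IsDiag.mul H hB hB'
    rw [hdis.symmDiff_eq_sup, Finset.sup_eq_union] at hall
    refine hX.mono_of_diag hF hR hw hs hall hdiag' (Finset.union_subset hBA hBA')
      (Finset.union_subset (hUA.trans Finset.sdiff_subset) habA)
      (Or.inr (by rw [Finset.card_union_of_disjoint hdis, hBc, hBc'])) ?_
    have hc : rO Q L' * rO Q P = rO Q P * rO Q L' := H.rO_comm (by
      rw [← hdotlf L' P]
      exact H.dot_eq_zero_of_disjoint Finset.sdiff_disjoint (hfix hL' htL') (hneg htP))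
    rw [show w * (rO Q (lf L) * rO Q (lf L') * (rO Q (lf P) * rO Q (lf P'))) * w⁻¹ =
      w * rO Q (lf L) * w⁻¹ * (w * rO Q (lf L') * w⁻¹ * (w * rO Q (lf P) * w⁻¹) * (w * rO Q (lf P') * w⁻¹)) by group,
      conj_rO, conj_rO, conj_rO, conj_rO, hlf, hww, hww, hww, hww, hc]
    group
  -- the form of `t`
  obtain ⟨σ, hσ⟩ := ONB.IsMono.exists_perm H ht
  have hsig : ∀ i, ∃ ε : F, ε * ε = 1 ∧ (t : V ≃ₗ[F] V) (e i) = ε • e (σ i) := fun i => by
    rcases hσ i with h | h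
    · exact ⟨1, one_mul 1, by rw [h, one_smul]⟩
    · exact ⟨-1, by norm_num, by rw [h, neg_one_smul]⟩
  choose ε hε hεσ using hsig
  have htt : ∀ v, (t : V ≃ₗ[F] V) ((t : V ≃ₗ[F] V) v) = v := fun v => by
    rw [← mul_app, ← Subgroup.coe_mul, show t * t = 1 by
      rw [htdef, show w * s * w⁻¹ * (w * s * w⁻¹) = w * (s * s) * w⁻¹ by group, ONB.IsDiag.sq H hsd, mul_one,
        mul_inv_cancel]]
    rfl
  have hinv : ∀ i, σ (σ i) = i ∧ ε (σ i) = ε i := by
    intro i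
    have h := htt (e i)
    rw [hεσ, map_smul, hεσ, smul_smul] at h
    have h' := congrArg (H.co i) h
    rw [H.co_smul, H.co_self] at h'
    rcases eq_or_ne (σ (σ i)) i with e1 | e1
    · rw [e1, H.co_self, mul_one] at h'
      exact ⟨e1, by linear_combination ε i * h' - ε (σ i) * hε i⟩
    · rw [H.co_ne (Ne.symm e1), mul_zero] at h'; exact absurd h' zero_ne_one
  have hmvA : ∀ {i}, (t : V ≃ₗ[F] V) (e i) ≠ e i → i ∈ A := fun {i} h => by_contra fun hi => h (hts i hi)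
  by_cases hσ1 : ∀ i, σ i = i
  · -- sign changes only
    set B := Finset.univ.filter (fun i => ε i = -1) with hBdef
    have hB : H.IsDiag t B := fun i => by
      rw [hεσ, hσ1 i]
      rcases mul_self_eq_one_iff.1 (hε i) with h | h
      · rw [if_neg, h, one_smul]
        simp only [hBdef, Finset.mem_filter, Finset.mem_univ, true_and, h]
        exact fun h' => H.two (by linear_combination h')
      · rw [if_pos (by simp [hBdef, h]), h, neg_one_smul]
    exact hX.mono_of_diag hF hR hw hs hB hsd (ONB.IsDiag.subset H hB hts) habA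
      (Or.inl (by rw [← H.diag_card hsd hB rfl, Finset.card_pair hab])) rfl
  push Not at hσ1
  obtain ⟨i₁, hi₁⟩ := hσ1
  set i₂ := σ i₁ with hi₂def
  set ε₁ := ε i₁ with hε₁def
  have hσ2 : σ i₂ = i₁ := (hinv i₁).1
  have t1 : (t : V ≃ₗ[F] V) (e i₁) = ε₁ • e i₂ := hεσ i₁
  have t2 : (t : V ≃ₗ[F] V) (e i₂) = ε₁ • e i₁ := by rw [hεσ, hσ2, (hinv i₁).2]
  have h12 : i₁ ≠ i₂ := Ne.symm hi₁
  have hi₁A : i₁ ∈ A := hmvA (fun h => by
    rw [t1] at h
    have h' := congrArg (H.co i₁) h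
    rw [H.co_smul, H.co_self, H.co_ne h12, mul_zero] at h'
    exact zero_ne_one h')
  have hi₂A : i₂ ∈ A := hmvA (fun h => by
    rw [t2] at h
    have h' := congrArg (H.co i₂) h
    rw [H.co_smul, H.co_self, H.co_ne (Ne.symm h12), mul_zero] at h'
    exact zero_ne_one h')
  set u₁ := e i₁ - ε₁ • e i₂ with hu₁
  set v₁ := e i₁ + ε₁ • e i₂ with hv₁
  have tu1 : (t : V ≃ₗ[F] V) u₁ = -u₁ := by
    rw [hu₁, map_sub, map_smul, t1, t2, smul_smul, hε i₁, one_smul]; abel
  have tv1 : (t : V ≃ₗ[F] V) v₁ = v₁ := by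
    rw [hv₁, map_add, map_smul, t1, t2, smul_smul, hε i₁, one_smul]; abel
  have hd12 : H.dot (e i₁) (e i₂) = 0 := H.co_ne h12
  have hd21 : H.dot (e i₂) (e i₁) = 0 := H.co_ne (Ne.symm h12)
  have hQu1 : Q u₁ = 2 * c := H.qmap_swp h12 (hε i₁)
  have hQv1 : Q v₁ = 2 * c := by
    have h := H.qmap_swp h12 (ε := -ε₁) (by rw [neg_mul_neg]; exact hε i₁)
    rwa [neg_smul, sub_neg_eq_add] at h
  have huv1 : H.dot v₁ u₁ = 0 := by
    simp only [hu₁, hv₁, H.dot_add_left, H.dot_sub_right, H.dot_smul_left, H.dot_smul_right,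
      H.dot_self_unit (H.val _), hd12, hd21]
    linear_combination -hε i₁
  have hu1s : u₁ ∈ H.sub {i₁, i₂} :=
    sub_mem (H.e_mem_sub (by simp)) (Submodule.smul_mem _ _ (H.e_mem_sub (by simp)))
  have hv1s : v₁ ∈ H.sub {i₁, i₂} :=
    add_mem (H.e_mem_sub (by simp)) (Submodule.smul_mem _ _ (H.e_mem_sub (by simp)))
  have h12A : ({i₁, i₂} : Finset ι) ⊆ A := by simp [Finset.insert_subset_iff, hi₁A, hi₂A]
  have hdiag1 : H.IsDiag (rO Q v₁ * rO Q u₁) {i₁, i₂} :=
    H.isDiag_plane h12 hv1s hu1s (by rw [hQv1]; exact H.two_c) (by rw [hQu1]; exact H.two_c) huv1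
  have hy1 : rO Q v₁ * rO Q u₁ ∈ X := by
    rw [ONB.IsDiag.unique H hdiag1 (H.isDiag_pair h12)]; exact hX.pair h12
  -- a second moved axis
  obtain ⟨i₃, hi₃, h31, h32⟩ : ∃ j, (t : V ≃ₗ[F] V) (e j) ≠ e j ∧ j ≠ i₁ ∧ j ≠ i₂ := by
    by_contra! hcon
    have hone : ∀ {v : V}, (t : V ≃ₗ[F] V) v = -v → v = H.co i₁ v • u₁ := by
      intro v hv
      refine H.ext_co fun l => ?_
      rw [H.co_smul, hu₁, H.co_sub, H.co_smul]
      rcases eq_or_ne l i₁ with rfl | hl1
      · rw [H.co_self, H.co_ne h12]; ring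
      rcases eq_or_ne l i₂ with rfl | hl2
      · have h := H.dot_app t (e i₁) v
        rw [t1, hv, H.dot_smul_left, H.dot_neg_right] at h
        rw [H.co_self, H.co_ne (Ne.symm h12)]
        have h' : ε₁ * -H.co i₂ v = H.co i₁ v := h
        linear_combination -ε₁ * h' - H.co i₂ v * hε i₁
      · have hfx : (t : V ≃ₗ[F] V) (e l) = e l := by_contra fun h => hl2 (hcon l h hl1)
        have h := H.dot_app t (e l) v
        rw [hfx, hv, H.dot_neg_right] at h
        have h' : -H.co l v = H.co l v := h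
        have h0 : H.co l v = 0 := by
          have : (2 : F) * H.co l v = 0 := by linear_combination -h'
          exact (mul_eq_zero.1 this).resolve_left H.two
        rw [h0, H.co_ne hl1, H.co_ne hl2]; ring
    have hnegw : ∀ i ∈ ({a, b} : Finset ι), (t : V ≃ₗ[F] V) ((w : V ≃ₗ[F] V) (e i)) = -(w : V ≃ₗ[F] V) (e i) := by
      intro i hi
      rw [htdef, ← mul_app, ← Subgroup.coe_mul, inv_mul_cancel_right, Subgroup.coe_mul, mul_app, hsd i, if_pos hi,
        map_neg]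
    have h0 : H.dot ((w : V ≃ₗ[F] V) (e a)) ((w : V ≃ₗ[F] V) (e b)) = 0 := by
      rw [H.dot_app]; exact H.co_ne hab
    rw [hone (hnegw a (by simp)), hone (hnegw b (by simp)), H.dot_smul_left, H.dot_smul_right, H.dot_self, hQu1] at h0
    simp only [mul_eq_zero, inv_eq_zero, H.c0, H.two, or_false, false_or] at h0
    rcases h0 with h | h
    · have := hone (hnegw a (by simp))
      rw [h, zero_smul, LinearEquiv.map_eq_zero_iff] at this
      exact H.e_ne_zero a this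
    · have := hone (hnegw b (by simp))
      rw [h, zero_smul, LinearEquiv.map_eq_zero_iff] at this
      exact H.e_ne_zero b this
  have hi₃A : i₃ ∈ A := hmvA hi₃
  set i₄ := σ i₃ with hi₄def
  have h41 : i₄ ≠ i₁ := fun h => h32 (by rw [← (hinv i₃).1, ← hi₄def, h])
  have h42 : i₄ ≠ i₂ := fun h => h31 (by rw [← (hinv i₃).1, ← hi₄def, h, hσ2])
  have hotherfix : ∀ l, l ∉ ({i₁, i₂, i₃, i₄} : Finset ι) → (t : V ≃ₗ[F] V) (e l) = e l := by
    intro l hl
    by_contra hmv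
    simp only [Finset.mem_insert, Finset.mem_singleton, not_or] at hl
    have hl' : σ l ≠ i₁ ∧ σ l ≠ i₂ ∧ σ l ≠ i₃ ∧ σ l ≠ i₄ := by
      refine ⟨fun h => hl.2.1 ?_, fun h => hl.1 ?_, fun h => hl.2.2.2 ?_, fun h => hl.2.2.1 (σ.injective h)⟩
      · rw [← (hinv l).1, h]
      · rw [← (hinv l).1, h, hσ2]
      · rw [← (hinv l).1, h]
    have hneg' : ∀ i, (t : V ≃ₗ[F] V) (e i - (t : V ≃ₗ[F] V) (e i)) = -(e i - (t : V ≃ₗ[F] V) (e i)) := fun i => by
      rw [map_sub, htt]; abel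
    have hsub : ∀ i, e i - (t : V ≃ₗ[F] V) (e i) ∈ H.sub {i, σ i} := fun i => by
      rw [hεσ]; exact sub_mem (H.e_mem_sub (by simp)) (Submodule.smul_mem _ _ (H.e_mem_sub (by simp)))
    have hQ : ∀ i, (t : V ≃ₗ[F] V) (e i) ≠ e i → Q (e i - (t : V ≃ₗ[F] V) (e i)) ≠ 0 := by
      intro i hi
      rcases eq_or_ne (σ i) i with h | h
      · rcases mul_self_eq_one_iff.1 (hε i) with h' | h'
        · exact absurd (by rw [hεσ, h, h', one_smul]) hi
        · rw [hεσ, h, h', neg_one_smul, sub_neg_eq_add, ← two_smul F, qmap_smul, H.val]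
          exact mul_ne_zero (pow_ne_zero 2 H.two) H.c0
      · rw [hεσ, H.qmap_swp (Ne.symm h) (hε i)]; exact H.two_c
    have hmv1 : (t : V ≃ₗ[F] V) (e i₁) ≠ e i₁ := fun h => by
      rw [t1] at h
      have h' := congrArg (H.co i₁) h
      rw [H.co_smul, H.co_self, H.co_ne h12, mul_zero] at h'
      exact zero_ne_one h'
    have hdis : ∀ {i j : ι}, Disjoint ({i, σ i} : Finset ι) {j, σ j} →
        H.dot (e i - (t : V ≃ₗ[F] V) (e i)) (e j - (t : V ≃ₗ[F] V) (e j)) = 0 := fun {i j} h =>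
      H.dot_eq_zero_of_disjoint h (hsub i) (hsub j)
    have h13 : Disjoint ({i₁, σ i₁} : Finset ι) {i₃, σ i₃} := by
      simp [← hi₂def, ← hi₄def, Ne.symm h31, Ne.symm h32, Ne.symm h41, Ne.symm h42, h31, h32, h41, h42]
    have h1l : Disjoint ({i₁, σ i₁} : Finset ι) {l, σ l} := by
      simp [← hi₂def, hl.1, hl.2.1, hl'.1, hl'.2.1, Ne.symm hl.1, Ne.symm hl.2.1, Ne.symm hl'.1, Ne.symm hl'.2.1]
    have h3l : Disjoint ({i₃, σ i₃} : Finset ι) {l, σ l} := by
      simp [← hi₄def, hl.2.2.1, hl.2.2.2, hl'.2.2.1, hl'.2.2.2, Ne.symm hl.2.2.1, Ne.symm hl.2.2.2,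
        Ne.symm hl'.2.2.1, Ne.symm hl'.2.2.2]
    have := H.card_le_of_orth (S := (Finset.univ : Finset (Fin 3)))
      (f := fun i => lf (e (![i₁, i₃, l] i) - (t : V ≃ₗ[F] V) (e (![i₁, i₃, l] i)))) (T := {a, b})
      (fun i _ => by rw [hQlf]; refine hQ _ ?_; fin_cases i; exacts [hmv1, hi₃, hmv])
      (fun i _ j _ hij => by
        rw [hdotlf]
        fin_cases i <;> fin_cases j <;>
          first
            | exact absurd rfl hij
            | exact hdis h13
            | exact hdis h1l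
            | exact hdis h3l
            | exact hdis h13.symm
            | exact hdis h1l.symm
            | exact hdis h3l.symm)
      (fun i _ => hneg (hneg' _))
    rw [Finset.card_univ, Fintype.card_fin, Finset.card_pair hab] at this
    omega
  have hnonempty : ∀ {L : V}, L ∈ H.sub A → (t : V ≃ₗ[F] V) L = L → Q L ≠ 0 → (S L).Nonempty := by
    intro L hL htL hQ
    rcases (S L).eq_empty_or_nonempty with h | h
    · exfalso
      have h0 := H.dot_mem_sub (hSsub hL htL) (v := lf L)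
      rw [h, Finset.sum_empty, hdotlf, H.dot_self, mul_eq_zero] at h0
      exact hQ (h0.resolve_left (inv_ne_zero H.c0))
    · exact h
  have hdisj : ∀ {L L' : V}, L ∈ H.sub A → L' ∈ H.sub A → (t : V ≃ₗ[F] V) L = L → (t : V ≃ₗ[F] V) L' = L' →
      H.dot L L' = 0 → (S L).card ≤ 2 → (S L').card ≤ 2 → ¬ (S L ∪ S L').card ≤ 2 → Disjoint (S L) (S L') := by
    intro L L' hL hL' htL htL' hd hc hc' hU
    by_contra hdis
    obtain ⟨i, hi, hi'⟩ := Finset.not_disjoint_iff.1 hdis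
    have h := Finset.card_union_add_card_inter (S L) (S L')
    have h1 : 1 ≤ (S L ∩ S L').card := Finset.card_pos.2 ⟨i, Finset.mem_inter.2 ⟨hi, hi'⟩⟩
    have hone : S L ∩ S L' = {i} := (Finset.eq_of_subset_of_card_le
      (Finset.singleton_subset_iff.2 (Finset.mem_inter.2 ⟨hi, hi'⟩)) (by rw [Finset.card_singleton]; omega)).symm
    have h0 := hdotlf L L'
    rw [hd, H.dot_mem_sub (hSsub hL htL), Finset.sum_eq_single i (fun j hj hji => by
      rw [hSsub hL' htL' j fun hj' => hji (Finset.mem_singleton.1 (hone ▸ Finset.mem_inter.2 ⟨hj, hj'⟩)), mul_zero])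
      (fun h => absurd hi h), mul_eq_zero] at h0
    rcases h0 with h0 | h0
    · exact (Finset.mem_filter.1 hi).2 h0
    · exact (Finset.mem_filter.1 hi').2 h0
  have hv1A := H.sub_mono h12A hv1s
  have hu1A := H.sub_mono h12A hu1s
  have hQv1' : Q v₁ ≠ 0 := by rw [hQv1]; exact H.two_c
  by_cases h34 : i₄ = i₃
  · -- a transposition and a sign change
    have t3 : (t : V ≃ₗ[F] V) (e i₃) = -e i₃ := by
      rcases mul_self_eq_one_iff.1 (hε i₃) with h | h
      · exact absurd (by rw [hεσ, ← hi₄def, h34, h, one_smul]) hi₃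
      · rw [hεσ, ← hi₄def, h34, h, neg_one_smul]
    set K : Finset ι := A \ {i₁, i₃} with hK
    let L : ι → V := fun x => if x = i₂ then v₁ else e x
    let P : ι → V := fun x => if x = i₂ then u₁ else e i₃
    have hKx : ∀ x ∈ K, x ∈ A ∧ x ≠ i₁ ∧ x ≠ i₃ := fun x hx => by simpa [hK] using hx
    have hxfix : ∀ x ∈ K, x ≠ i₂ → (t : V ≃ₗ[F] V) (e x) = e x := fun x hx h2 => hotherfix x (by
      simp [h34, h2, (hKx x hx).2.1, (hKx x hx).2.2])
    have hLA : ∀ x ∈ K, L x ∈ H.sub A ∧ (t : V ≃ₗ[F] V) (L x) = L x ∧ Q (L x) ≠ 0 ∧ (S (L x)).card ≤ 2 := by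
      intro x hx
      simp only [L]
      split_ifs with h
      · exact ⟨hv1A, tv1, hQv1', hline hv1A hu1A tv1 tu1 hQv1' hy1⟩
      · have hxA := H.e_mem_sub (hKx x hx).1
        exact ⟨hxA, hxfix x hx h, hne x,
          hline hxA (H.e_mem_sub hi₃A) (hxfix x hx h) t3 (hne x) (hX.pair (hKx x hx).2.2)⟩
    have hLd : ∀ x ∈ K, ∀ y ∈ K, x ≠ y → H.dot (L x) (L y) = 0 := by
      intro x hx y hy hxy
      simp only [L]
      split_ifs with h h' h'
      · exact absurd (h.trans h'.symm) hxy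
      · exact H.dot_eq_zero_of_disjoint (C := {y}) (by simp [(hKx y hy).2.1, h', Ne.symm (hKx y hy).2.1, Ne.symm h']) hv1s
          (H.e_mem_sub (by simp))
      · exact H.dot_eq_zero_of_disjoint (B := {x}) (by simp [(hKx x hx).2.1, h])
          (H.e_mem_sub (by simp)) hv1s
      · exact H.co_ne hxy
    by_contra hwm
    have hU3 : ∀ x ∈ K, ∀ y ∈ K, x ≠ y → ¬ (S (L x) ∪ S (L y)).card ≤ 2 := by
      intro x hx y hy hxy hle
      apply hwm
      have hd3 : ∀ z, z ≠ i₃ → z ∈ A → H.IsDiag (rO Q (e z) * rO Q (e i₃)) {z, i₃} := fun z hz _ => H.isDiag_pair hz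
      obtain ⟨hx1, hx2, hx3, -⟩ := hLA x hx
      obtain ⟨hy1', hy2, hy3, -⟩ := hLA y hy
      have hd := hLd x hx y hy hxy
      simp only [L] at hle hx1 hx2 hx3 hy1' hy2 hy3 hd
      have hmix : ∀ z ∈ K, z ≠ i₂ → (S v₁ ∪ S (e z)).card ≤ 2 → w ∈ H.mono := fun z hz hz2 hzle => by
        refine hdoneFour hv1A (H.e_mem_sub (hKx z hz).1) tv1 (hxfix z hz hz2) tu1 t3 hQv1' (hne z)
          (by rw [hQu1]; exact H.two_c) (hne i₃) ?_ ?_ hdiag1 (H.isDiag_pair (hKx z hz).2.2) ?_ h12A ?_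
          (Finset.card_pair h12) (Finset.card_pair (hKx z hz).2.2) hzle
        · exact H.dot_eq_zero_of_disjoint (C := {z}) (by simp [(hKx z hz).2.1, hz2, Ne.symm (hKx z hz).2.1, Ne.symm hz2]) hv1s
            (H.e_mem_sub (by simp))
        · exact H.dot_eq_zero_of_disjoint (C := {i₃}) (by simp [h31, h32, Ne.symm h31, Ne.symm h32]) hu1s
            (H.e_mem_sub (by simp))
        · simp [(hKx z hz).2.1, hz2, h31, h32, Ne.symm (hKx z hz).2.1, Ne.symm hz2, Ne.symm h31, Ne.symm h32]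
        · simp [Finset.insert_subset_iff, (hKx z hz).1, hi₃A]
      by_cases hx2' : x = i₂
      · rw [if_pos hx2', if_neg (fun h => hxy (hx2'.trans h.symm))] at hle
        exact hmix y hy (fun h => hxy (hx2'.trans h.symm)) hle
      by_cases hy2' : y = i₂
      · rw [if_neg hx2', if_pos hy2', Finset.union_comm] at hle
        exact hmix x hx hx2' hle
      rw [if_neg hx2'] at hle hx1 hx2 hx3 hd
      rw [if_neg hy2'] at hle hy1' hy2 hy3 hd
      exact hdoneTwo hx1 hy1' hx2 hy2 hx3 hy3 hd (H.isDiag_pair hxy)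
        (by simp [Finset.insert_subset_iff, (hKx x hx).1, (hKx y hy).1]) (Finset.card_pair hxy) hle
    have hcount : ∑ x ∈ K, (S (L x)).card ≤ K.card := by
      rw [← Finset.card_biUnion fun x hx y hy hxy => hdisj (hLA x hx).1 (hLA y hy).1 (hLA x hx).2.1 (hLA y hy).2.1
        (hLd x hx y hy hxy) (hLA x hx).2.2.2 (hLA y hy).2.2.2 (hU3 x hx y hy hxy)]
      refine le_trans (Finset.card_le_card (t := A \ {a, b}) ?_) ?_
      · exact Finset.biUnion_subset.2 fun x _ => Finset.filter_subset _ _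
      · rw [hK, Finset.card_sdiff_of_subset habA, Finset.card_sdiff_of_subset (by
          simp [Finset.insert_subset_iff, hi₁A, hi₃A]), Finset.card_pair hab, Finset.card_pair (Ne.symm h31)]
    have hsingle : (K.filter fun x => (S (L x)).card ≤ 1).card ≤ 1 := Finset.card_le_one.2 fun x hx y hy => by
      by_contra hxy
      obtain ⟨hx, hx'⟩ := Finset.mem_filter.1 hx
      obtain ⟨hy, hy'⟩ := Finset.mem_filter.1 hy
      exact hU3 x hx y hy hxy ((Finset.card_union_le _ _).trans (by omega))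
    have hlow : ∀ x ∈ K, 2 ≤ (S (L x)).card + (if (S (L x)).card ≤ 1 then 1 else 0) := fun x hx => by
      have := Finset.card_pos.2 (hnonempty (hLA x hx).1 (hLA x hx).2.1 (hLA x hx).2.2.1)
      split_ifs <;> omega
    have h := Finset.sum_le_sum hlow
    rw [Finset.sum_add_distrib, ← Finset.card_filter, Finset.sum_const, smul_eq_mul] at h
    have hKc : K.card + 2 = A.card := by
      rw [hK, Finset.card_sdiff_of_subset (by simp [Finset.insert_subset_iff, hi₁A, hi₃A]),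
        Finset.card_pair (Ne.symm h31)]
      have := hR.five
      omega
    have := hR.five
    omega
  -- two transpositions
  set ε₃ := ε i₃ with hε₃def
  have t3 : (t : V ≃ₗ[F] V) (e i₃) = ε₃ • e i₄ := hεσ i₃
  have t4 : (t : V ≃ₗ[F] V) (e i₄) = ε₃ • e i₃ := by rw [hεσ, (hinv i₃).1, (hinv i₃).2]
  have hi₄A : i₄ ∈ A := hmvA (fun h => by
    rw [t4] at h
    have h' := congrArg (H.co i₄) h
    rw [H.co_smul, H.co_self, H.co_ne h34, mul_zero] at h'
    exact zero_ne_one h')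
  set u₃ := e i₃ - ε₃ • e i₄ with hu₃
  set v₃ := e i₃ + ε₃ • e i₄ with hv₃
  have tu3 : (t : V ≃ₗ[F] V) u₃ = -u₃ := by
    rw [hu₃, map_sub, map_smul, t3, t4, smul_smul, hε i₃, one_smul]; abel
  have tv3 : (t : V ≃ₗ[F] V) v₃ = v₃ := by
    rw [hv₃, map_add, map_smul, t3, t4, smul_smul, hε i₃, one_smul]; abel
  have h34' : i₃ ≠ i₄ := Ne.symm h34
  have hd34 : H.dot (e i₃) (e i₄) = 0 := H.co_ne h34'
  have hd43 : H.dot (e i₄) (e i₃) = 0 := H.co_ne h34
  have hQu3 : Q u₃ = 2 * c := H.qmap_swp h34' (hε i₃)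
  have hQv3 : Q v₃ = 2 * c := by
    have h := H.qmap_swp h34' (ε := -ε₃) (by rw [neg_mul_neg]; exact hε i₃)
    rwa [neg_smul, sub_neg_eq_add] at h
  have huv3 : H.dot v₃ u₃ = 0 := by
    simp only [hu₃, hv₃, H.dot_add_left, H.dot_sub_right, H.dot_smul_left, H.dot_smul_right,
      H.dot_self_unit (H.val _), hd34, hd43]
    linear_combination -hε i₃
  have hu3s : u₃ ∈ H.sub {i₃, i₄} :=
    sub_mem (H.e_mem_sub (by simp)) (Submodule.smul_mem _ _ (H.e_mem_sub (by simp)))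
  have hv3s : v₃ ∈ H.sub {i₃, i₄} :=
    add_mem (H.e_mem_sub (by simp)) (Submodule.smul_mem _ _ (H.e_mem_sub (by simp)))
  have h34A : ({i₃, i₄} : Finset ι) ⊆ A := by simp [Finset.insert_subset_iff, hi₃A, hi₄A]
  have hdiag3 : H.IsDiag (rO Q v₃ * rO Q u₃) {i₃, i₄} :=
    H.isDiag_plane h34' hv3s hu3s (by rw [hQv3]; exact H.two_c) (by rw [hQu3]; exact H.two_c) huv3
  have hy3 : rO Q v₃ * rO Q u₃ ∈ X := by
    rw [ONB.IsDiag.unique H hdiag3 (H.isDiag_pair h34')]; exact hX.pair h34'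
  have hv3A := H.sub_mono h34A hv3s
  have hu3A := H.sub_mono h34A hu3s
  have hQv3' : Q v₃ ≠ 0 := by rw [hQv3]; exact H.two_c
  have hdisB : Disjoint ({i₁, i₂} : Finset ι) {i₃, i₄} := by
    simp [Ne.symm h31, Ne.symm h32, Ne.symm h41, Ne.symm h42, h31, h32, h41, h42]
  have hdv13 : H.dot v₁ v₃ = 0 := H.dot_eq_zero_of_disjoint hdisB hv1s hv3s
  have hc1 := hline hv1A hu1A tv1 tu1 hQv1' hy1
  have hc3 := hline hv3A hu3A tv3 tu3 hQv3' hy3
  by_cases hsame : (S v₁ ∪ S v₃).card ≤ 2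
  · exact hdoneFour hv1A hv3A tv1 tv3 tu1 tu3 hQv1' hQv3' (by rw [hQu1]; exact H.two_c)
      (by rw [hQu3]; exact H.two_c) hdv13 (H.dot_eq_zero_of_disjoint hdisB hu1s hu3s) hdiag1 hdiag3 hdisB h12A h34A
      (Finset.card_pair h12) (Finset.card_pair h34') hsame
  have hdis13 := hdisj hv1A hv3A tv1 tv3 hdv13 hc1 hc3 hsame
  suffices hmain : ∀ (j₁ j₂ j₃ j₄ : ι) (δ δ' : F) (u u' v v' : V), u = e j₁ - δ • e j₂ → v = e j₁ + δ • e j₂ →
      u' = e j₃ - δ' • e j₄ → v' = e j₃ + δ' • e j₄ → δ * δ = 1 → δ' * δ' = 1 → j₁ ≠ j₂ → j₃ ≠ j₄ →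
      Disjoint ({j₁, j₂} : Finset ι) {j₃, j₄} → (t : V ≃ₗ[F] V) u = -u → (t : V ≃ₗ[F] V) u' = -u' →
      (t : V ≃ₗ[F] V) v = v → (t : V ≃ₗ[F] V) v' = v' → ({j₁, j₂} : Finset ι) ⊆ A → ({j₃, j₄} : Finset ι) ⊆ A →
      (∀ l, l ∉ ({j₁, j₂, j₃, j₄} : Finset ι) → (t : V ≃ₗ[F] V) (e l) = e l) →
      (S v).card = 2 → Disjoint (S v) (S v') → False by
    exfalso
    have hpos1 := Finset.card_pos.2 (hnonempty hv1A tv1 hQv1')
    have hpos3 := Finset.card_pos.2 (hnonempty hv3A tv3 hQv3')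
    rw [Finset.card_union_of_disjoint hdis13] at hsame
    rcases Nat.lt_or_ge (S v₁).card 2 with h | h
    · refine hmain i₃ i₄ i₁ i₂ ε₃ ε₁ u₃ u₁ v₃ v₁ hu₃ hv₃ hu₁ hv₁ (hε i₃) (hε i₁) h34' h12 hdisB.symm tu3 tu1 tv3
        tv1 h34A h12A ?_ (by omega) hdis13.symm
      intro l hl
      refine hotherfix l fun hl' => hl ?_
      clear * - hl'
      simp only [Finset.mem_insert, Finset.mem_singleton] at hl' ⊢
      rcases hl' with rfl | rfl | rfl | rfl <;> simp
    · exact hmain i₁ i₂ i₃ i₄ ε₁ ε₃ u₁ u₃ v₁ v₃ hu₁ hv₁ hu₃ hv₃ (hε i₁) (hε i₃) h12 h34' hdisB tu1 tu3 tv1 tv3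
        h12A h34A hotherfix (by omega) hdis13
  intro j₁ j₂ j₃ j₄ δ δ' u u' v v' hu hv hu' hv' hδ hδ' hj12 hj34 hdisJ htu htu' htv htv' hjA hjA' hother hSv hSS
  have hvA : v ∈ H.sub A := by
    rw [hv]; exact add_mem (H.e_mem_sub (hjA (by simp))) (Submodule.smul_mem _ _ (H.e_mem_sub (hjA (by simp))))
  have hv'A : v' ∈ H.sub A := by
    rw [hv']; exact add_mem (H.e_mem_sub (hjA' (by simp))) (Submodule.smul_mem _ _ (H.e_mem_sub (hjA' (by simp))))
  obtain ⟨α, β, hαβ, hSαβ⟩ := Finset.card_eq_two.1 hSv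
  have hmα := Finset.mem_filter.1 (show α ∈ S v by rw [hSαβ]; simp)
  have hmβ := Finset.mem_filter.1 (show β ∈ S v by rw [hSαβ]; simp)
  refine hX.weak_two hF hR hw hs hab hcase hu hv hu' hv' hδ hδ' hj12 hdisJ hj34 hjA hjA' hαβ hmα.1 hmβ.1
    (hSαβ ▸ hSsub hvA htv) hmα.2 hmβ.2 (C := S v') (hSαβ ▸ hSS) (hSsub hv'A htv') (hneg htu) (hneg htu')
    fun i hi => ?_
  have hne' : (t : V ≃ₗ[F] V) ((w : V ≃ₗ[F] V) (e a)) = -((w : V ≃ₗ[F] V) (e a)) := by
    rw [htdef, ← mul_app, ← Subgroup.coe_mul, inv_mul_cancel_right, Subgroup.coe_mul, mul_app, hsd a,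
      if_pos (by simp), map_neg]
  have h := H.dot_app t (e i) ((w : V ≃ₗ[F] V) (e a))
  rw [hother i (fun h' => hi (by
    clear * - h'
    simp only [Finset.mem_union, Finset.mem_insert, Finset.mem_singleton] at h' ⊢
    rcases h' with rfl | rfl | rfl | rfl <;> simp)), hne',
    H.dot_neg_right] at h
  have h' : -H.co i ((w : V ≃ₗ[F] V) (e a)) = H.co i ((w : V ≃ₗ[F] V) (e a)) := h
  have : (2 : F) * H.co i ((w : V ≃ₗ[F] V) (e a)) = 0 := by linear_combination -h'
  exact (mul_eq_zero.1 this).resolve_left H.two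

end Cfsg.Agent.H97.Frame
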