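import Cfsg.Agent.H97.Frame.Small
import Cfsg.Agent.H97.Frame.Weak

/-!
A proper subgroup of Ω over the monomial one of a frame of at least seven lines, not eight, is monomial.
-/

set_option autoImplicit false

namespace Cfsg.Agent.H97.Frame

open QuadraticMap Module Cfsg.Agent.Orthogonal

/-- Two nonconjugate involutions have a central involution in the dihedral group they generate. -/
theorem exists_central {G : Type*} [Group G] [Finite G] {s t : G} (hs : s * s = 1) (ht : t * t = 1)
    (hnc : ∀ x ∈ Subgroup.closure ({s, t} : Set G), x * s * x⁻¹ ≠ t) :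
    ∃ z ∈ Subgroup.closure ({s, t} : Set G), z ≠ 1 ∧ s * z = z * s ∧ t * z = z * t ∧
      ((∃ x ∈ Subgroup.closure ({s, t} : Set G), x * s * x⁻¹ = z * s) ∨
        ((∃ x ∈ Subgroup.closure ({s, t} : Set G), x * s * x⁻¹ = z * t) ∧
          ∃ y ∈ Subgroup.closure ({s, t} : Set G), y * t * y⁻¹ = z * s)) := by
  set K := Subgroup.closure ({s, t} : Set G)
  have hsK : s ∈ K := Subgroup.subset_closure (by simp)
  have htK : t ∈ K := Subgroup.subset_closure (by simp)
  set d := s * t with hd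
  have hdK : ∀ k : ℕ, d ^ k ∈ K := fun k => K.pow_mem (K.mul_mem hsK htK) k
  have hflip : ∀ k : ℕ, s * d ^ k = (d ^ k)⁻¹ * s := by
    intro k
    induction k with
    | zero => simp
    | succ k ih =>
      have h1 : s * d = d⁻¹ * s := by
        rw [hd, mul_inv_rev, inv_eq_of_mul_eq_one_right hs, inv_eq_of_mul_eq_one_right ht, ← mul_assoc, hs, one_mul,
          mul_assoc, hs, mul_one]
      rw [pow_succ, ← mul_assoc, ih, mul_assoc, h1, ← mul_assoc, ← mul_inv_rev, ← pow_succ', pow_succ]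
  have hflip' : ∀ k : ℕ, s * (d ^ k)⁻¹ = d ^ k * s := fun k => by
    have := congrArg (fun x => d ^ k * x * (d ^ k)⁻¹) (hflip k)
    simp only [← mul_assoc, mul_inv_cancel, one_mul] at this
    rw [mul_inv_cancel_right] at this
    exact this.symm
  have hconj : ∀ k : ℕ, d ^ k * s * (d ^ k)⁻¹ = d ^ (k + k) * s := fun k => by
    rw [mul_assoc, hflip', ← mul_assoc, ← pow_add]
  have hts : t = d⁻¹ * s := by
    rw [hd, mul_inv_rev, inv_eq_of_mul_eq_one_right hs, mul_assoc, hs, mul_one, inv_eq_of_mul_eq_one_right ht]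
  have hord := orderOf_pos d
  rcases Nat.even_or_odd (orderOf d) with ⟨m, hm⟩ | ⟨m, hm⟩
  swap
  · refine absurd ?_ (hnc _ (hdK m))
    rw [hconj, hts]
    congr 1
    refine eq_inv_of_mul_eq_one_left ?_
    rw [← pow_succ, show m + m + 1 = orderOf d by omega, pow_orderOf_eq_one]
  have hz2 : d ^ m * d ^ m = 1 := by rw [← pow_add, ← hm, pow_orderOf_eq_one]
  have hzinv : (d ^ m)⁻¹ = d ^ m := inv_eq_of_mul_eq_one_right hz2
  have hsz : s * d ^ m = d ^ m * s := by rw [hflip, hzinv]
  refine ⟨d ^ m, hdK m, pow_ne_one_of_lt_orderOf (by omega) (by omega), hsz, ?_, ?_⟩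
  · rw [hts, mul_assoc, hsz, ← mul_assoc, ← mul_assoc, (Commute.inv_left (Commute.self_pow d m)).eq]
  rcases Nat.even_or_odd m with ⟨k, hk⟩ | ⟨k, hk⟩
  · exact Or.inl ⟨_, hdK k, by rw [hconj, ← hk]⟩
  · refine Or.inr ⟨⟨_, hdK k, ?_⟩, _, hdK (k + 1), ?_⟩
    · rw [hconj, hts, hk, show 2 * k + 1 = k + k + 1 by omega, pow_succ, mul_assoc, ← mul_assoc d, mul_inv_cancel,
        one_mul]
    · rw [hts, show d ^ (k + 1) * (d⁻¹ * s) * (d ^ (k + 1))⁻¹ = d⁻¹ * (d ^ (k + 1) * s * (d ^ (k + 1))⁻¹) by group,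
        hconj, hk, show k + 1 + (k + 1) = (2 * k + 1) + 1 by omega, pow_succ', ← mul_assoc, inv_mul_cancel_left]

variable {F V ι : Type*} [Field F] [AddCommGroup V] [Module F V] [Fintype ι] [DecidableEq ι]
variable {Q : QuadraticForm F V} {e : ι → V} {c : F} {H : ONB Q e c} {X : Subgroup (O Q)}

theorem card_symmDiff_add (B C : Finset ι) :
    (symmDiff B C).card + 2 * (B ∩ C).card = B.card + C.card := by
  rw [show symmDiff B C = (B \ C) ∪ (C \ B) from rfl, Finset.card_union_of_disjoint disjoint_sdiff_sdiff]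
  have h1 := Finset.card_sdiff_add_card_inter B C
  have h2 := Finset.card_sdiff_add_card_inter C B
  rw [Finset.inter_comm C B] at h2
  omega

theorem ONB.isDiag_nonempty (H : ONB Q e c) {d : O Q} {B : Finset ι} (hd : H.IsDiag d B) (hne : d ≠ 1) :
    B.Nonempty := by
  rcases B.eq_empty_or_nonempty with rfl | h
  · exact absurd (H.ext_e fun i => by rw [hd i, if_neg (Finset.notMem_empty i)]; simp) hne
  · exact h

variable (hX : Over H X)
include hX

/-- The elements of `X` whose columns all lie in the set. -/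
def Over.colsG : Subgroup (O Q) where
  carrier := {g | g ∈ X ∧ ∀ i, Pt H X ((g : V ≃ₗ[F] V) (e i))}
  one_mem' := ⟨X.one_mem, fun i => by simpa using hX.pt_e i⟩
  mul_mem' := fun {g h} hg hh => ⟨X.mul_mem hg.1 hh.1, fun i => by
    rw [Subgroup.coe_mul, mul_app]; exact hX.pt_app hg.1 (hg.2 i) (hh.2 i)⟩
  inv_mem' := fun {g} hg => ⟨X.inv_mem hg.1, fun i => by
    refine hX.pt_of (by rw [O.map_app, H.val]) (i := i) ?_
    have h := Over.conj (X.inv_mem hg.1) (X.inv_mem ((hg.2 i).mul i))
    rw [mul_inv_rev, rO_inv, rO_inv, inv_inv,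
      show g⁻¹ * (rO Q (e i) * rO Q ((g : V ≃ₗ[F] V) (e i))) * g =
        g⁻¹ * rO Q (e i) * g⁻¹⁻¹ * (g⁻¹ * rO Q ((g : V ≃ₗ[F] V) (e i)) * g⁻¹⁻¹) by group, conj_rO, conj_rO,
      ← mul_app (((g⁻¹ : O Q)) : V ≃ₗ[F] V), ← Subgroup.coe_mul, inv_mul_cancel] at h
    simpa using h⟩

theorem Over.mem_colsG {g : O Q} (hg : g ∈ X) {i : ι} (hi : (g : V ≃ₗ[F] V) (e i) = e i) : g ∈ hX.colsG :=
  ⟨hg, fun j => hX.pt_fix hg hi (hX.pt_e j)⟩

theorem Over.mono_mem_colsG {g : O Q} (hg : g ∈ X) (hm : g ∈ H.mono) : g ∈ hX.colsG :=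
  ⟨hg, fun j => hX.pt_axis (hm j) (by rw [O.map_app, H.val])⟩

theorem Over.quad_mem {i j k l : ι} (hij : i ≠ j) (hkl : k ≠ l) (hd : Disjoint ({i, j} : Finset ι) {k, l}) :
    ∃ f ∈ X, H.IsDiag f ({i, j} ∪ {k, l}) := by
  refine ⟨_, hX.quad hij hkl, ?_⟩
  have := ONB.IsDiag.mul H (H.isDiag_pair hij) (H.isDiag_pair hkl)
  rwa [hd.symmDiff_eq_sup, Finset.sup_eq_union] at this

/-- The step for sets of five or at least seven coordinates. -/
theorem Over.small_main [Fintype F] (hF : (Fintype.card F).Prime) {A : Finset ι} (h5 : 5 ≤ A.card)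
    (h6 : A.card ≠ 6) (h8 : A.card = 8 → A.card < Fintype.card ι) (hn : 7 ≤ Fintype.card ι)
    (hk : Below H X A.card) : Small H X A := by
  classical
  intro g hg hs
  by_contra hgm
  have hfd := H.finite
  have hfin : Finite V := Module.finite_of_finite F
  have : Finite (O Q) := Finite.of_injective (fun g : O Q => fun x => (g : V ≃ₗ[F] V) x)
    fun a b h => O.ext_app fun x => congrFun h x
  have hR : Ready H X A.card A := ⟨hk, h5, by omega, by omega, fun h => by
    refine ⟨?_, by omega⟩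
    by_contra! hall
    have := h8 (by omega)
    rw [Finset.eq_univ_iff_forall.2 hall, Finset.card_univ] at this
    omega⟩
  have hcase : ∀ {x : O Q}, x ∈ X → H.Supp x A →
      ((∀ i, Pt H X ((x : V ≃ₗ[F] V) (e i))) ∧ (A.card = 5 ∨ 5 < A.card)) ∨ 6 < A.card := fun {x} hx hxs => by
    by_cases h : ∃ i, i ∉ A
    · obtain ⟨i, hi⟩ := h
      exact Or.inl ⟨(hX.mem_colsG hx (hxs i hi)).2, by omega⟩
    · push Not at h
      rw [Finset.eq_univ_iff_forall.2 h, Finset.card_univ]
      exact Or.inr (by omega)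
  obtain ⟨L, hLA, hL⟩ := Finset.exists_subset_card_eq h5
  obtain ⟨a, ha, hL4⟩ : ∃ a ∈ L, (L.erase a).card = 4 := by
    obtain ⟨a, ha⟩ := Finset.card_pos.1 (show 0 < L.card by omega)
    exact ⟨a, ha, by rw [Finset.card_erase_of_mem ha, hL]⟩
  obtain ⟨b, p, q, r, hbp, hbq, hbr, hpq, hpr, hqr, hL4'⟩ := Finset.card_eq_four.1 hL4
  have hmem : ∀ x ∈ ({b, p, q, r} : Finset ι), x ∈ A ∧ x ≠ a := fun x hx => by
    rw [← hL4'] at hx
    exact ⟨hLA (Finset.mem_erase.1 hx).2, (Finset.mem_erase.1 hx).1⟩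
  have hb := hmem b (by simp)
  have hp := hmem p (by simp)
  have hq := hmem q (by simp)
  have hr := hmem r (by simp)
  have haA := hLA ha
  have hab : a ≠ b := Ne.symm hb.2
  -- a sign change of a quad with nonmonomial conjugate
  obtain ⟨B, f, hfX, hfd', hBA, hBc, htm⟩ : ∃ B f, f ∈ X ∧ H.IsDiag f B ∧ B ⊆ A ∧ B.card = 4 ∧
      g * f * g⁻¹ ∉ H.mono := by
    by_contra hcon
    push Not at hcon
    obtain ⟨f₁, hf₁X, hf₁⟩ := hX.quad_mem (Ne.symm hp.2) hqr (by
      simp [Ne.symm hq.2, Ne.symm hr.2, hq.2, hr.2, hpq, hpr, hpq.symm, hpr.symm] : Disjoint ({a, p} : Finset ι) {q, r})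
    obtain ⟨f₂, hf₂X, hf₂⟩ := hX.quad_mem hbp hqr (by
      simp [hbq, hbr, hpq, hpr, hbq.symm, hbr.symm, hpq.symm, hpr.symm] : Disjoint ({b, p} : Finset ι) {q, r})
    have hm₁ := hcon _ f₁ hf₁X hf₁ (by simp [Finset.union_subset_iff, Finset.insert_subset_iff, haA, hp.1, hq.1, hr.1])
      (by rw [Finset.card_union_of_disjoint (by
        simp [Ne.symm hq.2, Ne.symm hr.2, hq.2, hr.2, hpq, hpr, hpq.symm, hpr.symm]),
        Finset.card_pair (Ne.symm hp.2), Finset.card_pair hqr])
    have hm₂ := hcon _ f₂ hf₂X hf₂ (by simp [Finset.union_subset_iff, Finset.insert_subset_iff, hb.1, hp.1, hq.1, hr.1])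
      (by rw [Finset.card_union_of_disjoint (by
        simp [hbq, hbr, hpq, hpr, hbq.symm, hbr.symm, hpq.symm, hpr.symm]),
        Finset.card_pair hbp, Finset.card_pair hqr])
    have hprod : f₁ * f₂ = rO Q (e a) * rO Q (e b) := by
      refine ONB.IsDiag.unique H ?_ (H.isDiag_pair hab)
      convert ONB.IsDiag.mul H hf₁ hf₂ using 1
      ext x
      simp only [Finset.mem_symmDiff, Finset.mem_union, Finset.mem_insert, Finset.mem_singleton]
      constructor
      · rintro (rfl | rfl)
        · left; exact ⟨by simp, by simp [hab, Ne.symm hp.2, Ne.symm hq.2, Ne.symm hr.2]⟩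
        · right; exact ⟨by simp, by simp [hab.symm, hbp, hbq, hbr]⟩
      · rintro (⟨(h | h) | (h | h), hn⟩ | ⟨(h | h) | (h | h), hn⟩) <;> simp [h] at hn ⊢
    have h := H.mono.mul_mem hm₁ hm₂
    rw [show g * f₁ * g⁻¹ * (g * f₂ * g⁻¹) = g * (f₁ * f₂) * g⁻¹ by group, hprod] at h
    exact hgm (hX.weak hF hR hg hs haA hb.1 hab (hcase hg hs) h)
  set s := rO Q (e a) * rO Q (e b) with hsdef
  set t := g * f * g⁻¹ with htdef
  have hsd : H.IsDiag s {a, b} := H.isDiag_pair hab
  have habA : ({a, b} : Finset ι) ⊆ A := by simp [Finset.insert_subset_iff, haA, hb.1]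
  have hsX : s ∈ X := hX.pair hab
  have htX : t ∈ X := Over.conj hg hfX
  have hss : H.Supp s A := ONB.Supp.anti H (ONB.IsDiag.supp H hsd) habA
  have hts : H.Supp t A := ONB.Supp.conj H hs (ONB.Supp.anti H (ONB.IsDiag.supp H hfd') hBA)
  have hs2 := ONB.IsDiag.sq H hsd
  have ht2 : t * t = 1 := by
    rw [htdef, show g * f * g⁻¹ * (g * f * g⁻¹) = g * (f * f) * g⁻¹ by group, ONB.IsDiag.sq H hfd', mul_one,
      mul_inv_cancel]
  obtain ⟨z, hz, hz1, hsz, htz, hcl⟩ := exists_central hs2 ht2 fun x _ hx => by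
    have := H.diag_card (g := g⁻¹ * x) hsd hfd' (by
      rw [show g⁻¹ * x * s * (g⁻¹ * x)⁻¹ = g⁻¹ * (x * s * x⁻¹) * g by group, hx, htdef]; group)
    rw [Finset.card_pair hab, hBc] at this
    omega
  have hle : Subgroup.closure ({s, t} : Set (O Q)) ≤ X ⊓ H.suppG A := by
    rw [Subgroup.closure_le]
    rintro x (rfl | rfl)
    exacts [⟨hsX, hss⟩, ⟨htX, hts⟩]
  have hzX := (hle hz).1
  have hzs : H.Supp z A := (hle hz).2
  rcases hcl with ⟨x, hx, hxs⟩ | ⟨⟨x, hx, hxt⟩, -⟩
  · have hzsm : z * s ∈ H.mono := hX.mono_of_comm hF hR (X.mul_mem hzX hsX) (ONB.Supp.mul H hzs hss) habA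
      (Or.inl (Finset.card_pair hab)) hsd (by
        rw [show z * s * s * (z * s)⁻¹ = z * s * z⁻¹ by group, ← hsz, mul_inv_cancel_right])
    have hxm := hX.weak hF hR (hle hx).1 (hle hx).2 haA hb.1 hab (hcase (hle hx).1 (hle hx).2) (by rw [hxs]; exact hzsm)
    obtain ⟨a', b', hab', he⟩ := H.mono_pair hxm hab
    rw [hxs] at he
    have hzd : H.IsDiag z (symmDiff {a', b'} {a, b}) := by
      have hh := ONB.IsDiag.mul H (he ▸ H.isDiag_pair hab') hsd
      rwa [mul_assoc, hs2, mul_one] at hh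
    have hc := card_symmDiff_add ({a', b'} : Finset ι) {a, b}
    rw [Finset.card_pair hab', Finset.card_pair hab] at hc
    have hpos := Finset.card_pos.2 (H.isDiag_nonempty hzd hz1)
    exact htm (hX.mono_of_comm hF hR htX hts (ONB.IsDiag.subset H hzd hzs) (by omega) hzd
      (by rw [htz, mul_inv_cancel_right]))
  · set u := g⁻¹ * (z * t) * g with hu
    have huX : u ∈ X := X.mul_mem (X.mul_mem (X.inv_mem hg) (X.mul_mem hzX htX)) hg
    have hus : H.Supp u A :=
      ONB.Supp.mul H (ONB.Supp.mul H (ONB.Supp.inv H hs) (ONB.Supp.mul H hzs hts)) hs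
    have hfu : f = g⁻¹ * t * g := by rw [htdef]; group
    have hum : u ∈ H.mono := hX.mono_of_comm hF hR huX hus hBA (Or.inr hBc) hfd' (by
      rw [hu, hfu, show g⁻¹ * (z * t) * g * (g⁻¹ * t * g) * (g⁻¹ * (z * t) * g)⁻¹ = g⁻¹ * (z * t * z⁻¹) * g by group,
        ← htz, mul_inv_cancel_right])
    have hyX : g⁻¹ * x ∈ X := X.mul_mem (X.inv_mem hg) (hle hx).1
    have hys : H.Supp (g⁻¹ * x) A := ONB.Supp.mul H (ONB.Supp.inv H hs) (hle hx).2
    have hye : g⁻¹ * x * s * (g⁻¹ * x)⁻¹ = u := by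
      rw [hu, ← hxt]; group
    have hym := hX.weak hF hR hyX hys haA hb.1 hab (hcase hyX hys) (by rw [hye]; exact hum)
    obtain ⟨a', b', hab', he⟩ := H.mono_pair hym hab
    rw [hye] at he
    have hed : H.IsDiag (u * f) (symmDiff {a', b'} B) := ONB.IsDiag.mul H (he ▸ H.isDiag_pair hab') hfd'
    have hez : u * f = g⁻¹ * z * g := by
      rw [hu, hfu, show g⁻¹ * (z * t) * g * (g⁻¹ * t * g) = g⁻¹ * (z * (t * t)) * g by group, ht2, mul_one]
    have heA := ONB.IsDiag.subset H hed (ONB.Supp.mul H hus (ONB.Supp.anti H (ONB.IsDiag.supp H hfd') hBA))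
    have hc := card_symmDiff_add ({a', b'} : Finset ι) B
    rw [Finset.card_pair hab', hBc] at hc
    have hpos := Finset.card_pos.2 (H.isDiag_nonempty hed fun h => hz1 (by
      rw [hez, mul_assoc, inv_mul_eq_one] at h
      exact mul_eq_right.1 h.symm))
    set s' := g⁻¹ * s * g with hs'
    have hs'X : s' ∈ X := X.mul_mem (X.mul_mem (X.inv_mem hg) hsX) hg
    have hs's : H.Supp s' A := ONB.Supp.mul H (ONB.Supp.mul H (ONB.Supp.inv H hs) hss) hs
    have hcomm : s' * (u * f) * s'⁻¹ = u * f := by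
      rw [hez, hs', show g⁻¹ * s * g * (g⁻¹ * z * g) * (g⁻¹ * s * g)⁻¹ = g⁻¹ * (s * z * s⁻¹) * g by group, hsz,
        mul_inv_cancel_right]
    have hs'm : s' ∈ H.mono := by
      rcases Nat.lt_or_ge (symmDiff {a', b'} B).card 5 with hlt | hge
      · exact hX.mono_of_comm hF hR hs'X hs's heA (by omega) hed hcomm
      · have h7 : 7 ≤ A.card := by
          have := Finset.card_le_card heA
          omega
        exact hX.split hF hk hs'X hs's heA (fun i hi => (H.diag_maps hed hed hcomm).1 hi) (by omega)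
          (by rw [Finset.card_sdiff_of_subset heA]; omega) fun h => by omega
    have hgi := hX.weak hF hR (X.inv_mem hg) (ONB.Supp.inv H hs) haA hb.1 hab
      (hcase (X.inv_mem hg) (ONB.Supp.inv H hs)) (by rwa [inv_inv])
    exact hgm (by simpa using H.mono.inv_mem hgi)

/-- The step for sets of six coordinates. -/
theorem Over.small_six [Fintype F] (hF : (Fintype.card F).Prime) {A : Finset ι} (h6 : A.card = 6)
    (hn : 7 ≤ Fintype.card ι) (hk : Below H X 6) : Small H X A := by
  classical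
  intro g hg hs
  by_contra hgm
  have hfd := H.finite
  have hfin : Finite V := Module.finite_of_finite F
  have : Finite (O Q) := Finite.of_injective (fun g : O Q => fun x => (g : V ≃ₗ[F] V) x)
    fun a b h => O.ext_app fun x => congrFun h x
  obtain ⟨i, hi⟩ : ∃ i, i ∉ A := by
    by_contra! h
    rw [Finset.eq_univ_iff_forall.2 h, Finset.card_univ] at h6
    omega
  set A' := insert i A with hA'
  have hAA' : A ⊆ A' := Finset.subset_insert _ _
  have h7 : A'.card = 7 := by rw [hA', Finset.card_insert_of_notMem hi, h6]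
  have hR : Ready H X 6 A := ⟨hk, by omega, by omega, by omega, fun _ => ⟨⟨i, hi⟩, by omega⟩⟩
  have hR' : Ready H X 6 A' := ⟨hk, by omega, by omega, by omega, fun h => by omega⟩
  have hgi : (g : V ≃ₗ[F] V) (e i) = e i := hs i hi
  have hgC := hX.mem_colsG hg hgi
  have hs' : H.Supp g A' := ONB.Supp.anti H hs hAA'
  suffices key : ∀ b ∈ A, ∀ b' ∈ A, b ≠ b' → ∀ j ∈ A,
      H.co j ((g : V ≃ₗ[F] V) (e b)) = 0 ∨ H.co j ((g : V ≃ₗ[F] V) (e b')) = 0 by
    have hcol : ∀ b : A, ∃ j : A, H.co (j : ι) ((g : V ≃ₗ[F] V) (e b)) ≠ 0 := fun b => by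
      by_contra! h
      have h0 : (g : V ≃ₗ[F] V) (e b) = 0 := H.ext_co fun l => by
        rw [H.co_zero]
        by_cases hl : l ∈ A
        exacts [h ⟨l, hl⟩, ONB.Supp.co_app H hs b.2 hl]
      rw [LinearEquiv.map_eq_zero_iff] at h0
      exact H.e_ne_zero _ h0
    choose φ hφ using hcol
    have hinj : Function.Injective φ := fun b b' h => by
      by_contra hne
      rcases key b b.2 b' b'.2 (fun h' => hne (Subtype.ext h')) (φ b) (φ b).2 with h0 | h0
      exacts [hφ b h0, hφ b' (h ▸ h0)]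
    refine hgm fun b => ?_
    by_cases hb : b ∈ A
    swap
    · rw [hs b hb]; exact H.ax_e b
    refine H.ax_of_co (j := (φ ⟨b, hb⟩ : ι)) fun l hl => ?_
    by_cases hlA : l ∈ A
    swap
    · exact ONB.Supp.co_app H hs hb hlA
    obtain ⟨b', hb'⟩ := (Finite.injective_iff_surjective.1 hinj) ⟨l, hlA⟩
    have hne : b ≠ (b' : ι) := fun h => hl (by
      have : b' = ⟨b, hb⟩ := Subtype.ext h.symm
      rw [← this, hb'])
    rcases key b hb b' b'.2 hne l hlA with h0 | h0
    · exact h0
    · exact absurd h0 (by have := hφ b'; rwa [hb'] at this)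
  intro c₁ hc₁ d₁ hd₁ hcd j hj
  by_contra hcon
  push Not at hcon
  set B := A \ {c₁, d₁} with hB
  have hcdA : ({c₁, d₁} : Finset ι) ⊆ A := by simp [Finset.insert_subset_iff, hc₁, hd₁]
  have hBA : B ⊆ A := Finset.sdiff_subset
  have hBc : B.card = 4 := by rw [hB, Finset.card_sdiff_of_subset hcdA, Finset.card_pair hcd, h6]
  obtain ⟨p, q, r, r', hpq, hpr, hpr', hqr, hqr', hrr, hB4⟩ := Finset.card_eq_four.1 hBc
  obtain ⟨f, hfX, hfd'⟩ := hX.quad_mem hpq hrr (by
    simp [hpr, hpr', hqr, hqr', hpr.symm, hpr'.symm, hqr.symm, hqr'.symm] : Disjoint ({p, q} : Finset ι) {r, r'})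
  rw [show ({p, q} ∪ {r, r'} : Finset ι) = B by rw [hB4]; ext x; simp; tauto] at hfd'
  -- the sign change of all six
  set D := f * (rO Q (e c₁) * rO Q (e d₁)) with hD
  have hDd : H.IsDiag D A := by
    have := ONB.IsDiag.mul H hfd' (H.isDiag_pair hcd)
    rwa [(Finset.sdiff_disjoint : Disjoint B {c₁, d₁}).symmDiff_eq_sup, Finset.sup_eq_union,
      Finset.sdiff_union_of_subset hcdA] at this
  clear_value D
  have hgD : g * D * g⁻¹ = D := by
    rw [mul_inv_eq_iff_eq_mul]
    refine H.ext_e fun l => ?_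
    rw [Subgroup.coe_mul, Subgroup.coe_mul, mul_app, mul_app, hDd l]
    by_cases hl : l ∈ A
    · rw [if_pos hl, map_neg]
      have hv := ONB.Supp.app_mem H hs (H.e_mem_sub hl)
      conv_rhs => rw [H.eq_sum ((g : V ≃ₗ[F] V) (e l)), map_sum]
      conv_lhs => rw [H.eq_sum ((g : V ≃ₗ[F] V) (e l)), ← Finset.sum_neg_distrib]
      refine Finset.sum_congr rfl fun m _ => ?_
      rw [map_smul, hDd m]
      split_ifs with hm
      · rw [smul_neg]
      · rw [hv m hm, zero_smul, neg_zero]
    · rw [if_neg hl, hs l hl, hDd l, if_neg hl]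
  set t := g * f * g⁻¹ with htdef
  have htm : t ∉ H.mono := fun htm => hgm (hX.weak hF hR hg hs hc₁ hd₁ hcd (Or.inl ⟨hgC.2, Or.inr (by omega)⟩) (by
    have h := H.mono.mul_mem htm (ONB.IsDiag.mono H hDd)
    rw [← hgD, htdef, show g * f * g⁻¹ * (g * D * g⁻¹) = g * (f * D) * g⁻¹ by group, hD, ← mul_assoc f f,
      ONB.IsDiag.sq H hfd', one_mul] at h
    exact h))
  have hji : j ≠ i := fun h => hi (h ▸ hj)
  set s := rO Q (e j) * rO Q (e i) with hsdef
  have hsd : H.IsDiag s {j, i} := H.isDiag_pair hji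
  have hjA' : ({j, i} : Finset ι) ⊆ A' := by simp [hA', Finset.insert_subset_iff, hj]
  have hjm : j ∈ A' := hAA' hj
  have him : i ∈ A' := Finset.mem_insert_self _ _
  have hsX : s ∈ X := hX.pair hji
  have htX : t ∈ X := Over.conj hg hfX
  have hss : H.Supp s A' := ONB.Supp.anti H (ONB.IsDiag.supp H hsd) hjA'
  have hts : H.Supp t A := ONB.Supp.conj H hs (ONB.Supp.anti H (ONB.IsDiag.supp H hfd') hBA)
  have hts' : H.Supp t A' := ONB.Supp.anti H hts hAA'
  have hs2 := ONB.IsDiag.sq H hsd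
  have ht2 : t * t = 1 := by
    rw [htdef, show g * f * g⁻¹ * (g * f * g⁻¹) = g * (f * f) * g⁻¹ by group, ONB.IsDiag.sq H hfd', mul_one,
      mul_inv_cancel]
  obtain ⟨z, hz, hz1, hsz, htz, hcl⟩ := exists_central hs2 ht2 fun x _ hx => by
    have := H.diag_card (g := g⁻¹ * x) hsd hfd' (by
      rw [show g⁻¹ * x * s * (g⁻¹ * x)⁻¹ = g⁻¹ * (x * s * x⁻¹) * g by group, hx, htdef]; group)
    rw [Finset.card_pair hji, hBc] at this
    omega
  have hle : Subgroup.closure ({s, t} : Set (O Q)) ≤ hX.colsG ⊓ H.suppG A' := by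
    rw [Subgroup.closure_le]
    rintro x (rfl | rfl)
    exacts [⟨hX.mono_mem_colsG hsX (ONB.IsDiag.mono H hsd), hss⟩, ⟨hX.mem_colsG htX (hts i hi), hts'⟩]
  have hzX : z ∈ X := (hle hz).1.1
  have hzs : H.Supp z A' := (hle hz).2
  rcases hcl with ⟨x, hx, hxs⟩ | ⟨⟨x, hx, hxt⟩, y, hy, hyt⟩
  · have hzsm : z * s ∈ H.mono := hX.mono_of_comm hF hR' (X.mul_mem hzX hsX) (ONB.Supp.mul H hzs hss) hjA'
      (Or.inl (Finset.card_pair hji)) hsd (by
        rw [show z * s * s * (z * s)⁻¹ = z * s * z⁻¹ by group, ← hsz, mul_inv_cancel_right])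
    have hxm := hX.weak hF hR' (hle hx).1.1 (hle hx).2 hjm him hji (Or.inl ⟨(hle hx).1.2, Or.inr (by omega)⟩)
      (by rw [hxs]; exact hzsm)
    obtain ⟨a', b', hab', he⟩ := H.mono_pair hxm hji
    rw [hxs] at he
    have hzd : H.IsDiag z (symmDiff {a', b'} {j, i}) := by
      have hh := ONB.IsDiag.mul H (he ▸ H.isDiag_pair hab') hsd
      rwa [mul_assoc, hs2, mul_one] at hh
    have hc := card_symmDiff_add ({a', b'} : Finset ι) {j, i}
    rw [Finset.card_pair hab', Finset.card_pair hji] at hc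
    have hpos := Finset.card_pos.2 (H.isDiag_nonempty hzd hz1)
    exact htm (hX.mono_of_comm hF hR' htX hts' (ONB.IsDiag.subset H hzd hzs) (by omega) hzd
      (by rw [htz, mul_inv_cancel_right]))
  · set u := g⁻¹ * (z * t) * g with hu
    have huX : u ∈ X := X.mul_mem (X.mul_mem (X.inv_mem hg) (X.mul_mem hzX htX)) hg
    have hus : H.Supp u A' :=
      ONB.Supp.mul H (ONB.Supp.mul H (ONB.Supp.inv H hs') (ONB.Supp.mul H hzs hts')) hs'
    have hfu : f = g⁻¹ * t * g := by rw [htdef]; group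
    have hBA' : B ⊆ A' := hBA.trans hAA'
    have hum : u ∈ H.mono := hX.mono_of_comm hF hR' huX hus hBA' (Or.inr hBc) hfd' (by
      rw [hu, hfu, show g⁻¹ * (z * t) * g * (g⁻¹ * t * g) * (g⁻¹ * (z * t) * g)⁻¹ = g⁻¹ * (z * t * z⁻¹) * g by group,
        ← htz, mul_inv_cancel_right])
    have hyC : g⁻¹ * x ∈ hX.colsG := mul_mem (inv_mem hgC) (hle hx).1
    have hys : H.Supp (g⁻¹ * x) A' := ONB.Supp.mul H (ONB.Supp.inv H hs') (hle hx).2
    have hye : g⁻¹ * x * s * (g⁻¹ * x)⁻¹ = u := by
      rw [hu, ← hxt]; group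
    have hym := hX.weak hF hR' hyC.1 hys hjm him hji (Or.inl ⟨hyC.2, Or.inr (by omega)⟩) (by rw [hye]; exact hum)
    obtain ⟨a', b', hab', he⟩ := H.mono_pair hym hji
    rw [hye] at he
    have hud : H.IsDiag u {a', b'} := he ▸ H.isDiag_pair hab'
    have hed : H.IsDiag (u * f) (symmDiff {a', b'} B) := ONB.IsDiag.mul H hud hfd'
    have hez : u * f = g⁻¹ * z * g := by
      rw [hu, hfu, show g⁻¹ * (z * t) * g * (g⁻¹ * t * g) = g⁻¹ * (z * (t * t)) * g by group, ht2, mul_one]
    have hfs' : H.Supp f A' := ONB.Supp.anti H (ONB.IsDiag.supp H hfd') hBA'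
    have heA := ONB.IsDiag.subset H hed (ONB.Supp.mul H hus hfs')
    have hc := card_symmDiff_add ({a', b'} : Finset ι) B
    rw [Finset.card_pair hab', hBc] at hc
    have hpos := Finset.card_pos.2 (H.isDiag_nonempty hed fun h => hz1 (by
      rw [hez, mul_assoc, inv_mul_eq_one] at h
      exact mul_eq_right.1 h.symm))
    set s' := g⁻¹ * s * g with hs'def
    have hs'X : s' ∈ X := X.mul_mem (X.mul_mem (X.inv_mem hg) hsX) hg
    have hs's : H.Supp s' A' := ONB.Supp.mul H (ONB.Supp.mul H (ONB.Supp.inv H hs') hss) hs'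
    have hcomm : s' * (u * f) * s'⁻¹ = u * f := by
      rw [hez, hs'def, show g⁻¹ * s * g * (g⁻¹ * z * g) * (g⁻¹ * s * g)⁻¹ = g⁻¹ * (s * z * s⁻¹) * g by group, hsz,
        mul_inv_cancel_right]
    rcases Nat.lt_or_ge (symmDiff {a', b'} B).card 5 with hlt | hge
    · have hgi' := hX.weak hF hR' (X.inv_mem hg) (ONB.Supp.inv H hs') hjm him hji
        (Or.inl ⟨((inv_mem hgC : g⁻¹ ∈ hX.colsG)).2, Or.inr (by omega)⟩) (by
          rw [inv_inv]
          exact hX.mono_of_comm hF hR' hs'X hs's heA (by omega) hed hcomm)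
      exact hgm (by simpa using H.mono.inv_mem hgi')
    have hdis : Disjoint ({a', b'} : Finset ι) B := by
      rw [Finset.disjoint_iff_inter_eq_empty, ← Finset.card_eq_zero]; omega
    rw [hdis.symmDiff_eq_sup, Finset.sup_eq_union] at hed
    have huA := ONB.IsDiag.subset H hud hus
    have hmem' : ∀ x ∈ ({a', b'} : Finset ι), x = c₁ ∨ x = d₁ ∨ x = i := fun x hx => by
      have h1 := huA hx
      have h2 := Finset.disjoint_left.1 hdis hx
      rw [hA', Finset.mem_insert] at h1
      simp only [hB, Finset.mem_sdiff, Finset.mem_insert, Finset.mem_singleton] at h2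
      rcases h1 with h1 | h1
      · exact Or.inr (Or.inr h1)
      · rcases not_and_or.1 h2 with h2 | h2
        · exact absurd h1 h2
        · rcases not_not.1 h2 with h3 | h3
          exacts [Or.inl h3, Or.inr (Or.inl h3)]
    by_cases hiu : i ∈ ({a', b'} : Finset ι)
    swap
    · -- all six
      have hsub : ({a', b'} : Finset ι) ⊆ {c₁, d₁} := fun x hx => by
        rcases hmem' x hx with h | h | h
        · simp [h]
        · simp [h]
        · exact absurd (h ▸ hx) hiu
      rw [Finset.eq_of_subset_of_card_le hsub (by rw [Finset.card_pair hab', Finset.card_pair hcd]),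
        Finset.union_comm, hB, Finset.sdiff_union_of_subset hcdA] at hed
      have hzD : z = D := by
        have h := ONB.IsDiag.unique H hed hDd
        rw [hez] at h
        calc z = g * (g⁻¹ * z * g) * g⁻¹ := by group
          _ = D := by rw [h, hgD]
      have hsix := ONB.IsDiag.mul H hDd hsd
      rw [← hzD] at hsix
      have h46 := H.diag_card (g := y * g) hfd' hsix (by
        rw [show y * g * f * (y * g)⁻¹ = y * (g * f * g⁻¹) * y⁻¹ by group, ← htdef, hyt])
      have hc' := card_symmDiff_add A ({j, i} : Finset ι)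
      rw [Finset.card_pair hji] at hc'
      have hone : A ∩ {j, i} = {j} := by
        ext x
        simp only [Finset.mem_inter, Finset.mem_insert, Finset.mem_singleton]
        constructor
        · rintro ⟨hxA, hxj | hxi⟩
          exacts [hxj, absurd (hxi ▸ hxA) hi]
        · rintro rfl; exact ⟨hj, Or.inl rfl⟩
      rw [hone, Finset.card_singleton] at hc'
      omega
    -- one coordinate is left out
    obtain ⟨q₁, hq₁, hq₁u⟩ : ∃ q₁, (q₁ = c₁ ∨ q₁ = d₁) ∧ q₁ ∉ ({a', b'} : Finset ι) := by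
      by_contra! h
      have hsub : ({c₁, d₁, i} : Finset ι) ⊆ {a', b'} := by
        intro x hx
        simp only [Finset.mem_insert, Finset.mem_singleton] at hx
        rcases hx with rfl | rfl | rfl
        exacts [h _ (Or.inl rfl), h _ (Or.inr rfl), hiu]
      have := Finset.card_le_card hsub
      rw [Finset.card_insert_of_notMem (by simp [hcd]; exact fun h => hi (h ▸ hc₁)), Finset.card_pair (fun h => hi (by
        rw [← h]; exact hd₁)), Finset.card_pair hab'] at this
      omega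
    have hqA : q₁ ∈ A := by rcases hq₁ with rfl | rfl <;> assumption
    have hqB : q₁ ∉ B := by rcases hq₁ with rfl | rfl <;> simp [hB]
    have hqe : q₁ ∉ ({a', b'} : Finset ι) ∪ B := by simp only [Finset.mem_union, not_or]; exact ⟨hq₁u, hqB⟩
    have hcard' : (({a', b'} : Finset ι) ∪ B).card = 6 := by
      rw [Finset.card_union_of_disjoint hdis, Finset.card_pair hab', hBc]
    rw [hdis.symmDiff_eq_sup, Finset.sup_eq_union] at heA
    have hax : H.Ax ((s' : V ≃ₗ[F] V) (e q₁)) := by
      refine H.ax_of_co (j := q₁) fun l hl => ?_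
      by_cases hle' : l ∈ ({a', b'} : Finset ι) ∪ B
      · exact (H.diag_maps hed hed hcomm).2 hqe l hle'
      · refine ONB.Supp.co_app H hs's (hAA' hqA) fun hlA => ?_
        have hsub : insert l (insert q₁ (({a', b'} : Finset ι) ∪ B)) ⊆ A' :=
          Finset.insert_subset hlA (Finset.insert_subset (hAA' hqA) heA)
        have := Finset.card_le_card hsub
        rw [Finset.card_insert_of_notMem (by simp only [Finset.mem_insert, not_or]; exact ⟨hl, hle'⟩),
          Finset.card_insert_of_notMem hqe, hcard'] at this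
        omega
    obtain ⟨m, hm⟩ := ONB.Ax.eq H hax (by rw [O.map_app, H.val])
    set v := (g : V ≃ₗ[F] V) (e q₁) with hv
    have hvj : H.co j v ≠ 0 := by rcases hq₁ with rfl | rfl <;> [exact hcon.1; exact hcon.2]
    have hsv : ∀ l, H.co l ((s : V ≃ₗ[F] V) v) = if l ∈ ({j, i} : Finset ι) then -H.co l v else H.co l v := by
      intro l
      have h := H.dot_app s (e l) v
      rw [hsd l] at h
      split_ifs at h ⊢ with hl
      · rw [H.dot_neg_left] at h
        exact neg_eq_iff_eq_neg.1 h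
      · exact h
    have hs'v : (s : V ≃ₗ[F] V) v = (g : V ≃ₗ[F] V) ((s' : V ≃ₗ[F] V) (e q₁)) := by
      rw [hv, hs'def, ← mul_app, ← mul_app, ← Subgroup.coe_mul, ← Subgroup.coe_mul]
      group
    have hmq : m = q₁ := by
      by_contra hne
      have hd1 : H.co m ((s' : V ≃ₗ[F] V) (e q₁)) = 0 := by
        by_cases hle' : m ∈ ({a', b'} : Finset ι) ∪ B
        · exact (H.diag_maps hed hed hcomm).2 hqe m hle'
        · refine ONB.Supp.co_app H hs's (hAA' hqA) fun hmA => ?_
          have hsub : insert m (insert q₁ (({a', b'} : Finset ι) ∪ B)) ⊆ A' :=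
            Finset.insert_subset hmA (Finset.insert_subset (hAA' hqA) heA)
          have := Finset.card_le_card hsub
          rw [Finset.card_insert_of_notMem (by simp only [Finset.mem_insert, not_or]; exact ⟨hne, hle'⟩),
            Finset.card_insert_of_notMem hqe, hcard'] at this
          omega
      rcases hm with h' | h' <;> rw [h'] at hd1 <;> simp [H.co_self, H.co_neg] at hd1
    subst hmq
    have hpm : (s : V ≃ₗ[F] V) v = v ∨ (s : V ≃ₗ[F] V) v = -v := by
      rcases hm with h' | h'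
      · left; rw [hs'v, h', ← hv]
      · right; rw [hs'v, h', map_neg, ← hv]
    have hvj' : v ∈ H.sub {j} := by
      have hneg : (s : V ≃ₗ[F] V) v = -v := by
        refine hpm.resolve_left fun h => hvj ?_
        have h2 := hsv j
        rw [h, if_pos (by simp)] at h2
        have : (2 : F) * H.co j v = 0 := by linear_combination h2
        exact (mul_eq_zero.1 this).resolve_left H.two
      intro l hl
      rw [Finset.mem_singleton] at hl
      by_cases hlA : l ∈ A
      · have h2 := hsv l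
        rw [hneg, H.co_neg, if_neg (by
          simp only [Finset.mem_insert, Finset.mem_singleton, not_or]
          exact ⟨hl, fun h => hi (h ▸ hlA)⟩)] at h2
        have : (2 : F) * H.co l v = 0 := by linear_combination -h2
        exact (mul_eq_zero.1 this).resolve_left H.two
      · exact ONB.Supp.co_app H hs hqA hlA
    obtain ⟨π, hπX, hπm, hπs, hπ⟩ := hX.exists_move (A := A) (B := {j}) (B' := {m}) (by omega) (by simpa using hj)
      (by simpa using hqA) (by simp)
    have hm' := hX.split hF hk (X.mul_mem hπX hg) (ONB.Supp.mul H hπs hs) (B := {m}) (by simpa using hqA)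
      (fun b hb => by
        rw [Finset.mem_singleton.1 hb, Subgroup.coe_mul, mul_app, ← hv]
        exact H.app_mem_sub hπ hvj') (by simp) (by
        rw [Finset.card_sdiff_of_subset (by simpa using hqA), Finset.card_singleton]; omega)
      (fun h => by simp at h)
    exact hgm (by simpa using H.mono.mul_mem (H.mono.inv_mem hπm) hm')

/-- A subgroup over the monomial one without all Eichler transformations is monomial. -/
theorem Over.le_mono [Fintype F] (hF : (Fintype.card F).Prime) (hn : Fintype.card ι = 7 ∨ 9 ≤ Fintype.card ι)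
    (hns : ¬ sieGroup Q ≤ X) : X ≤ H.mono := by
  have hn7 : 7 ≤ Fintype.card ι := by omega
  have key : ∀ m, ∀ A : Finset ι, A.card = m → Small H X A := by
    intro m
    induction m using Nat.strong_induction_on with
    | _ m ih =>
      intro A hA
      have hbelow : Below H X A.card := fun A' hA' => ih A'.card (hA ▸ hA') A' rfl
      rcases Nat.lt_or_ge A.card 5 with h4 | h5
      · intro g hg hs
        by_contra hgm
        exact hns (hX.sieGroup_le hF hn7 hg hgm hs (by omega))
      rcases eq_or_ne A.card 6 with h6 | h6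
      · exact hX.small_six hF h6 hn7 (hbelow.anti (by omega))
      · refine hX.small_main hF h5 h6 (fun h8 => ?_) hn7 hbelow
        have := Finset.card_le_univ A
        omega
  intro g hg
  exact key _ Finset.univ rfl g hg fun i hi => absurd (Finset.mem_univ i) hi

end Cfsg.Agent.H97.Frame
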