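import Cfsg.Agent.H97.Frame.Window
import Cfsg.Agent.H98.OrthMax.Roots

/-!
A subgroup over the monomial one with a nonmonomial element on at most four coordinates contains all Eichler
transformations.
-/

set_option autoImplicit false

namespace Cfsg.Agent.H97.Frame

open QuadraticMap Module Cfsg.Agent.Orthogonal
open Cfsg.Agent.H98.SubfieldOrth (SIn)

variable {F V ι : Type*} [Field F] [AddCommGroup V] [Module F V] [Fintype ι] [DecidableEq ι]
variable {Q : QuadraticForm F V} {e : ι → V} {c : F} {H : ONB Q e c} {X : Subgroup (O Q)}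
variable (hX : Over H X)
include hX

/-- Every nonaxial image of an axis is a vector of the set, and some such image exists. -/
theorem Over.exists_column {g : O Q} (hg : g ∈ X) (hgm : g ∉ H.mono) {A : Finset ι} (hs : H.Supp g A)
    (hA : A.card < Fintype.card ι) :
    ∃ v, Pt H X v ∧ v ∈ H.sub A ∧ ¬ H.Ax v ∧ ∃ b ∈ A, v = (g : V ≃ₗ[F] V) (e b) := by
  obtain ⟨b, hb⟩ : ∃ b, ¬ H.Ax ((g : V ≃ₗ[F] V) (e b)) := by
    by_contra! h
    exact hgm h
  have hbA : b ∈ A := by_contra fun h => hb (by rw [hs b h]; exact H.ax_e b)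
  obtain ⟨i, hi⟩ : ∃ i, i ∉ A := by
    by_contra! h
    exact absurd (Finset.eq_univ_iff_forall.2 h) fun hA' => by rw [hA', Finset.card_univ] at hA; exact hA.false
  exact ⟨_, hX.pt_fix hg (hs i hi) (hX.pt_e b), ONB.Supp.app_mem H hs (H.e_mem_sub hbA), hb, b, hbA, rfl⟩

/-- The set contains all the units of a suitable ternary subspace. -/
theorem Over.three_apply [Fintype F] (hF : (Fintype.card F).Prime) (h5 : 5 ≤ Fintype.card F) {q : F} (hq : q ≠ 0)
    (i₀ : ι) {f₀ f₁ f₂ : V} (h00 : H.dot f₀ f₀ = 1) (h11 : H.dot f₁ f₁ = 1) (h22 : H.dot f₂ f₂ = q)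
    (h01 : H.dot f₀ f₁ = 0) (h02 : H.dot f₀ f₂ = 0) (h12 : H.dot f₁ f₂ = 0)
    (p0 : Pt H X f₀) (p1 : Pt H X f₁) {d x : F} (pv : Pt H X (d • f₀ + x • f₂)) (hd : d ≠ 0) (hd1 : d * d ≠ 1)
    (hd2 : 2 * (d * d) ≠ 1) {w₀ w₁ w₂ : F} (pw : Pt H X (w₀ • f₀ + w₁ • f₁ + w₂ • f₂)) (hw1 : w₁ ≠ 0)
    (hw2 : w₀ ≠ 0 ∨ w₂ ≠ 0) {t₀ t₁ t₂ : F} (ht : t₀ * t₀ + t₁ * t₁ + q * (t₂ * t₂) = 1) :
    Pt H X (t₀ • f₀ + t₁ • f₁ + t₂ • f₂) := by
  let u : (Fin 3 → F) → V := fun t => t 0 • f₀ + t 1 • f₁ + t 2 • f₂
  have hdot : ∀ s t, H.dot (u s) (u t) = Three.D q s t := by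
    intro s t
    simp only [u, Three.D, H.dot_add_left, H.dot_add_right, H.dot_smul_left, H.dot_smul_right, h00, h11, h22, h01,
      h02, h12, H.dot_comm f₁ f₀, H.dot_comm f₂ f₀, H.dot_comm f₂ f₁]
    ring
  have h : Pt H X (u ![t₀, t₁, t₂]) := by
    refine Three.mem_of_unit (S := fun t => Pt H X (u t)) hq hF h5 (fun t ht => ?_) (fun a b ha hb => ?_) ?_ ?_
      (d := d) (x := x) ?_ hd hd1 hd2 (w := ![w₀, w₁, w₂]) ?_ (by simpa using hw1) (by simpa using hw2)
      (v₀ := ![t₀, t₁, t₂]) (by simpa [Three.D] using ht)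
    · rw [← hdot]; exact H.dot_self_unit ht.norm
    · have h' := hX.pt_refl ha hb i₀
      rw [H.rO_unit ha.norm, hdot] at h'
      convert h' using 1
      simp only [u, Pi.sub_apply, Pi.smul_apply, smul_eq_mul]
      module
    · simpa [u] using p0
    · simpa [u] using p1
    · simpa [u] using pv
    · simpa [u] using pw
  simpa [u] using h

omit hX in
/-- The coordinates of a unit vector with at most four of them: a good one exists, or they form a balanced pair. -/
theorem good_or_pair [Fintype F] (hF : (Fintype.card F).Prime) (h5 : 5 ≤ Fintype.card F) {v : V} (hv : Q v = c)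
    {A : Finset ι} (hA : A.card ≤ 4) (hs : v ∈ H.sub A) (hax : ¬ H.Ax v) :
    (∃ a ∈ A, H.co a v ≠ 0 ∧ H.co a v * H.co a v ≠ 1 ∧ 2 * (H.co a v * H.co a v) ≠ 1) ∨
      ∃ i j, i ≠ j ∧ v ∈ H.sub {i, j} ∧ 2 * (H.co i v * H.co i v) = 1 ∧ 2 * (H.co j v * H.co j v) = 1 := by
  classical
  have := Fact.mk hF
  have hchar : CharP F (Fintype.card F) :=
    (CharP.charP_iff_prime_eq_zero hF).2 (FiniteField.cast_card_eq_zero F)
  refine or_iff_not_imp_left.2 fun hbad => ?_
  push Not at hbad
  set S := A.filter (fun a => H.co a v ≠ 0) with hS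
  set K := S.filter (fun a => H.co a v * H.co a v = 1) with hK
  set L := S.filter (fun a => ¬ H.co a v * H.co a v = 1) with hL
  have hval : ∀ a ∈ L, 2 * (H.co a v * H.co a v) = 1 := fun a ha => by
    obtain ⟨haS, hne⟩ := Finset.mem_filter.1 ha
    obtain ⟨haA, h0⟩ := Finset.mem_filter.1 haS
    exact hbad a haA h0 hne
  have hsub : v ∈ H.sub S := fun i hi => by
    by_contra h
    exact hi (Finset.mem_filter.2 ⟨by_contra fun hiA => h (hs i hiA), h⟩)
  have hsum : ((2 * K.card + L.card : ℕ) : F) = ((2 : ℕ) : F) := by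
    have h := H.dot_self_unit hv
    rw [H.dot_mem_sub hsub, ← Finset.sum_filter_add_sum_filter_not S (fun a => H.co a v * H.co a v = 1)] at h
    have e1 : ∑ a ∈ K, H.co a v * H.co a v = K.card := by
      rw [Finset.sum_congr rfl (g := fun _ => (1 : F)) fun a ha => (Finset.mem_filter.1 ha).2, Finset.sum_const,
        nsmul_one]
    have e2 : 2 * ∑ a ∈ L, H.co a v * H.co a v = L.card := by
      rw [Finset.mul_sum, Finset.sum_congr rfl (g := fun _ => (1 : F)) hval]
      simp
    rw [← hK, ← hL, e1] at h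
    push_cast
    linear_combination 2 * h - e2
  have hmod := (CharP.natCast_eq_natCast F (Fintype.card F)).1 hsum
  have hcard : K.card + L.card ≤ 4 := by
    rw [hK, hL, Finset.card_filter_add_card_filter_not]
    exact (Finset.card_filter_le _ _).trans hA
  have hS2 : 2 ≤ K.card + L.card := by
    rw [hK, hL, Finset.card_filter_add_card_filter_not]
    by_contra h
    rcases S.eq_empty_or_nonempty with h0 | ⟨j, hj⟩
    · have hh := H.dot_self_unit hv
      rw [H.dot_mem_sub hsub, h0, Finset.sum_empty] at hh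
      exact zero_ne_one hh
    · exact hax (H.ax_of_co (j := j) fun i hi => hsub i fun hiS =>
        hi (Finset.card_le_one.1 (by omega) i hiS j hj))
  have hp7 : Fintype.card F ≠ 6 := fun h => by rw [h] at hF; norm_num at hF
  have hdvd : K.card = 0 ∧ L.card = 2 ∨ (Fintype.card F = 5 ∧ L.card ≠ 0) := by
    rcases Nat.lt_or_ge (2 * K.card + L.card) 2 with hlt | hge
    · omega
    · obtain ⟨m, hm⟩ := (Nat.modEq_iff_dvd' hge).1 hmod.symm
      rcases m with _ | m
      · omega
      · rcases m with _ | m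
        · omega
        · have : 10 ≤ Fintype.card F * (m + 1 + 1) := by nlinarith
          omega
  rcases hdvd with ⟨hK0, hL2⟩ | ⟨hp, hL0⟩
  · obtain ⟨i, j, hij, hLij⟩ := Finset.card_eq_two.1 hL2
    refine ⟨i, j, hij, fun l hl => hsub l fun hlS => hl ?_, hval i (by simp [hLij]), hval j (by simp [hLij])⟩
    rw [← hLij]
    refine Finset.mem_filter.2 ⟨hlS, fun h1 => ?_⟩
    have : l ∈ K := Finset.mem_filter.2 ⟨hlS, h1⟩
    rw [Finset.card_eq_zero.1 hK0] at this
    exact Finset.notMem_empty _ this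
  · exfalso
    obtain ⟨a, ha⟩ := Finset.card_pos.1 (Nat.pos_of_ne_zero hL0)
    have h2 : IsSquare (2 : F) := by
      refine ⟨2 * H.co a v, ?_⟩
      linear_combination (-2 : F) * hval a ha
    rw [FiniteField.isSquare_two_iff, hp] at h2
    exact h2.2 (by norm_num)

/-- A vector of the set with a good coordinate and at most four coordinates. -/
theorem Over.exists_good [Fintype F] (hF : (Fintype.card F).Prime) (h5 : 5 ≤ Fintype.card F)
    (hn : 7 ≤ Fintype.card ι) {g : O Q} (hg : g ∈ X) (hgm : g ∉ H.mono) {A : Finset ι} (hs : H.Supp g A)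
    (hA : A.card ≤ 4) :
    ∃ v a, Pt H X v ∧ (∃ A' : Finset ι, A'.card ≤ 4 ∧ v ∈ H.sub A') ∧ H.co a v ≠ 0 ∧
      H.co a v * H.co a v ≠ 1 ∧ 2 * (H.co a v * H.co a v) ≠ 1 := by
  classical
  obtain ⟨v, hv, hvA, hvax, b, hb, rfl⟩ := hX.exists_column hg hgm hs (by omega)
  rcases good_or_pair hF h5 hv.norm hA hvA hvax with ⟨a, -, h⟩ | ⟨α, β, hαβ, hvαβ, hα, hβ⟩
  · exact ⟨_, a, hv, ⟨A, hA, hvA⟩, h⟩
  have hαA : α ∈ A := by_contra fun h => by rw [hvA α h] at hα; simp at hα
  have hβA : β ∈ A := by_contra fun h => by rw [hvA β h] at hβ; simp at hβ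
  obtain ⟨i, hi⟩ : ∃ i, i ∉ A := by
    by_contra! h
    have := Finset.eq_univ_iff_forall.2 h
    rw [this, Finset.card_univ] at hA
    omega
  set u := ((g⁻¹ : O Q) : V ≃ₗ[F] V) (e α) with hu
  have hsi : H.Supp g⁻¹ A := ONB.Supp.inv H hs
  have huPt : Pt H X u := hX.pt_fix (X.inv_mem hg) (hsi i hi) (hX.pt_e α)
  have huA : u ∈ H.sub A := ONB.Supp.app_mem H hsi (H.e_mem_sub hαA)
  have hgu : (g : V ≃ₗ[F] V) u = e α := by rw [hu, ← mul_app, ← Subgroup.coe_mul, mul_inv_cancel]; rfl
  have hub : H.co b u = H.co α ((g : V ≃ₗ[F] V) (e b)) := by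
    rw [ONB.co, ONB.co, ← H.dot_app g, hgu, H.dot_comm]
  have huax : ¬ H.Ax u := fun h => by
    obtain ⟨j, hj⟩ := ONB.Ax.eq H h huPt.norm
    have hval : H.co b u = 0 ∨ H.co b u * H.co b u = 1 := by
      rcases eq_or_ne b j with rfl | hbj
      · right
        rcases hj with h' | h' <;> rw [h'] <;> simp [H.co_self, H.co_neg]
      · left
        rcases hj with h' | h' <;> rw [h'] <;> simp [H.co_ne hbj, H.co_neg]
    rw [← hub] at hα
    rcases hval with h' | h' <;> rw [h'] at hα
    · simp at hα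
    · exact one_ne_zero (α := F) (by linear_combination hα)
  rcases good_or_pair hF h5 huPt.norm hA huA huax with ⟨a, -, h⟩ | ⟨a, a', haa, huaa, ha, ha'⟩
  · exact ⟨_, a, huPt, ⟨A, hA, huA⟩, h⟩
  obtain ⟨a', hba', hua', hsu⟩ : ∃ a', b ≠ a' ∧ u ∈ H.sub {b, a'} ∧ 2 * (H.co a' u * H.co a' u) = 1 := by
    have hbm : b ∈ ({a, a'} : Finset ι) := by_contra fun h => by
      rw [← hub, huaa b h] at hα; simp at hα
    rcases Finset.mem_insert.1 hbm with rfl | hbm
    · exact ⟨a', haa, huaa, ha'⟩
    · rw [Finset.mem_singleton] at hbm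
      subst hbm
      exact ⟨a, haa.symm, by rwa [Finset.pair_comm], ha⟩
  have ha'A : a' ∈ A := by_contra fun h => by rw [huA a' h] at hsu; simp at hsu
  obtain ⟨x, hx, y, hy, hxy⟩ := Finset.one_lt_card.1 (show 1 < Aᶜ.card by rw [Finset.card_compl]; omega)
  rw [Finset.mem_compl] at hx hy
  have hne : a' ≠ x ∧ a' ≠ y ∧ b ≠ x ∧ b ≠ y ∧ α ≠ x ∧ β ≠ x :=
    ⟨fun h => hx (h ▸ ha'A), fun h => hy (h ▸ ha'A), fun h => hx (h ▸ hb), fun h => hy (h ▸ hb),
      fun h => hx (h ▸ hαA), fun h => hx (h ▸ hβA)⟩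
  obtain ⟨cb, -, -, cfix⟩ := H.cyc_app (H.val a') (H.val x) (H.val y) (H.co_ne hne.1) (H.co_ne hne.2.1) (H.co_ne hxy)
  have hcm : rO Q (e a' - e x) * rO Q (e x - e y) ∈ H.mono := H.mono.mul_mem
    (H.isMono_sub (H.ax_e a') (H.ax_e x) (H.val a') (H.val x) (H.co_ne hne.1))
    (H.isMono_sub (H.ax_e x) (H.ax_e y) (H.val x) (H.val y) (H.co_ne hxy))
  have hcX := hX.cyc (H.val a') (H.val x) (H.val y) (H.co_ne hne.1) (H.co_ne hxy) hcm
  set σ := rO Q (e a' - e x) * rO Q (e x - e y) with hσ
  have hcu := hX.pt_app hcX (i := a') (by rw [cb]; exact hX.pt_e x) huPt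
  have hudec : u = H.co b u • e b + H.co a' u • e a' := H.ext_co fun l => by
    rw [H.co_add, H.co_smul, H.co_smul, H.co_e, H.co_e]
    by_cases h1 : l = b
    · subst h1; simp [hba']
    by_cases h2 : l = a'
    · subst h2; simp [h1]
    · simp [h1, h2, hua' l (by simp [h1, h2])]
  have hσu : (σ : V ≃ₗ[F] V) u = H.co b u • e b + H.co a' u • e x := by
    conv_lhs => rw [hudec]
    rw [map_add, map_smul, map_smul, cb, cfix _ (H.co_ne hba'.symm) (H.co_ne hne.2.2.1.symm) (H.co_ne hne.2.2.2.1.symm)]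
  rw [hσu] at hcu
  have hw := hX.pt_fix hg (hs i hi) hcu
  rw [map_add, map_smul, map_smul, hs x hx] at hw
  have hco : ∀ l, H.co l (H.co b u • (g : V ≃ₗ[F] V) (e b) + H.co a' u • e x) =
      H.co b u * H.co l ((g : V ≃ₗ[F] V) (e b)) + (if l = x then H.co a' u else 0) := fun l => by
    rw [H.co_add, H.co_smul, H.co_smul, H.co_e]
    split_ifs <;> ring
  have h4 : (4 : F) ≠ 0 := by rw [show (4 : F) = 2 * 2 by norm_num]; exact mul_ne_zero H.two H.two
  have hsq : 4 * (H.co α (H.co b u • (g : V ≃ₗ[F] V) (e b) + H.co a' u • e x) *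
      H.co α (H.co b u • (g : V ≃ₗ[F] V) (e b) + H.co a' u • e x)) = 1 := by
    rw [hco, if_neg hne.2.2.2.2.1, add_zero, hub]
    linear_combination (2 * (H.co α ((g : V ≃ₗ[F] V) (e b)) * H.co α ((g : V ≃ₗ[F] V) (e b))) + 1) * hα
  refine ⟨_, α, hw, ⟨{α, β, x}, Finset.card_le_three.trans (by norm_num), fun l hl => ?_⟩, fun h0 => ?_, fun h1 => ?_,
    fun h2 => ?_⟩
  · simp only [Finset.mem_insert, Finset.mem_singleton, not_or] at hl
    rw [hco, if_neg hl.2.2, hvαβ l (by simp [hl.1, hl.2.1])]
    ring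
  · rw [h0] at hsq; simp at hsq
  · rw [h1] at hsq
    have h30 : ((3 : ℕ) : F) = 0 := by push_cast; linear_combination hsq
    have := Fact.mk hF
    have hchar : CharP F (Fintype.card F) :=
      (CharP.charP_iff_prime_eq_zero hF).2 (FiniteField.cast_card_eq_zero F)
    have := Nat.le_of_dvd (by norm_num) ((CharP.cast_eq_zero_iff F (Fintype.card F) 3).1 h30)
    omega
  · exact one_ne_zero (α := F) (by linear_combination hsq - 2 * h2)

/-- A centre with enough vectors: three coordinates. -/
theorem Over.full_triple [Fintype F] (hF : (Fintype.card F).Prime) {a : V} {i j k : ι} (hij : i ≠ j) (hik : i ≠ k)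
    (hjk : j ≠ k) {a₁ a₂ a₃ : F} (ha : a = a₁ • e i + a₂ • e j + a₃ • e k) (ha2 : a₂ ≠ 0) (ha3 : a₃ ≠ 0)
    (haQ : Q a = 0) (hx : ∀ x, x ≠ i → x ≠ j → x ≠ k → SIn X a (e x)) (h0 : SIn X a (a₂ • e i - a₁ • e j)) :
    H98.OrthMax.Full X a := by
  intro w hu hw
  suffices h : w ∈ wSub X hF haQ from h.2.2
  set W := wSub X hF haQ
  have haW : a ∈ W := by
    have h := (H98.SubfieldOrth.sIn_zero (X := X) haQ).add_smul 1
    rwa [zero_add, one_smul] at h
  have hd := H.dot_of_polar hw
  rw [ha, H.dot_add_left, H.dot_add_left, H.dot_smul_left, H.dot_smul_left, H.dot_smul_left] at hd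
  change a₁ * H.co i w + a₂ * H.co j w + a₃ * H.co k w = 0 at hd
  have hsq : a₁ * a₁ + a₂ * a₂ + a₃ * a₃ = 0 := by
    have h := H.dot_self a
    rw [haQ, mul_zero, ha, H.dot_add_left, H.dot_add_left, H.dot_add_right, H.dot_add_right, H.dot_add_right,
      H.dot_add_right, H.dot_add_right, H.dot_add_right] at h
    simpa [H.dot_smul_left, H.dot_smul_right, H.dot_self_unit (H.val _),
      show H.dot (e i) (e j) = 0 from H.co_ne hij, show H.dot (e j) (e i) = 0 from H.co_ne hij.symm,
      show H.dot (e i) (e k) = 0 from H.co_ne hik, show H.dot (e k) (e i) = 0 from H.co_ne hik.symm,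
      show H.dot (e j) (e k) = 0 from H.co_ne hjk, show H.dot (e k) (e j) = 0 from H.co_ne hjk.symm] using h
  set al := H.co k w / a₃ with hal
  set be := (H.co i w - al * a₁) / a₂ with hbe
  have hrest : ∑ x ∈ ({i, j, k} : Finset ι)ᶜ, H.co x w • e x ∈ W := W.sum_mem fun x hx' => W.smul_mem _ (by
    simp only [Finset.mem_compl, Finset.mem_insert, Finset.mem_singleton, not_or] at hx'
    exact hx x hx'.1 hx'.2.1 hx'.2.2)
  have hw' : w = al • a + be • (a₂ • e i - a₁ • e j) + ∑ x ∈ ({i, j, k} : Finset ι)ᶜ, H.co x w • e x := by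
    refine H.ext_co fun l => ?_
    have hsum : H.co l (∑ x ∈ ({i, j, k} : Finset ι)ᶜ, H.co x w • e x) =
        if l ∈ ({i, j, k} : Finset ι) then 0 else H.co l w := by
      rw [ONB.co, ONB.dot, ← polarBilin_apply' Q, map_sum, Finset.mul_sum]
      split_ifs with hl
      · refine Finset.sum_eq_zero fun x hx' => ?_
        rw [polarBilin_apply', polar_smul_right', H.orth l x fun h => Finset.mem_compl.1 hx' (h ▸ hl)]
        ring
      · rw [Finset.sum_eq_single l]
        · rw [polarBilin_apply', polar_smul_right', polar_self', H.val]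
          field_simp [H.two, H.c0]
        · intro x _ hxl
          rw [polarBilin_apply', polar_smul_right', H.orth l x hxl.symm]
          ring
        · exact fun h => absurd (Finset.mem_compl.2 hl) h
    rw [H.co_add, H.co_add, H.co_smul, H.co_smul, hsum, ha, H.co_add, H.co_add, H.co_sub, H.co_smul, H.co_smul,
      H.co_smul, H.co_smul, H.co_smul, H.co_e, H.co_e, H.co_e]
    by_cases hl : l ∈ ({i, j, k} : Finset ι)
    · rw [if_pos hl]
      simp only [Finset.mem_insert, Finset.mem_singleton] at hl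
      rcases hl with rfl | rfl | rfl
      · simp only [if_true, if_neg hij, if_neg hik]
        rw [hbe]; field_simp; ring
      · simp only [if_true, if_neg hij.symm, if_neg hjk]
        rw [hbe, hal]; field_simp
        linear_combination a₃ * hd - H.co k w * hsq
      · simp only [if_true, if_neg hik.symm, if_neg hjk.symm]
        rw [hal]; field_simp; ring
    · rw [if_neg hl]
      simp only [Finset.mem_insert, Finset.mem_singleton, not_or] at hl
      simp [hl.1, hl.2.1, hl.2.2]
  rw [hw']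
  exact add_mem (add_mem (W.smul_mem _ haW) (W.smul_mem _ h0)) hrest

/-- A centre with enough vectors: two coordinates. -/
theorem Over.full_pair [Fintype F] (hF : (Fintype.card F).Prime) {a : V} {i j : ι} (hij : i ≠ j)
    {a₁ a₂ : F} (ha : a = a₁ • e i + a₂ • e j) (ha1 : a₁ ≠ 0) (ha2 : a₂ ≠ 0)
    (haQ : Q a = 0) (hx : ∀ x, x ≠ i → x ≠ j → SIn X a (e x)) : H98.OrthMax.Full X a := by
  intro w hu hw
  suffices h : w ∈ wSub X hF haQ from h.2.2
  set W := wSub X hF haQ
  have haW : a ∈ W := by
    have h := (H98.SubfieldOrth.sIn_zero (X := X) haQ).add_smul 1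
    rwa [zero_add, one_smul] at h
  have hd := H.dot_of_polar hw
  rw [ha, H.dot_add_left, H.dot_smul_left, H.dot_smul_left] at hd
  change a₁ * H.co i w + a₂ * H.co j w = 0 at hd
  have hsq : a₁ * a₁ + a₂ * a₂ = 0 := by
    have h := H.dot_self a
    rw [haQ, mul_zero, ha, H.dot_add_left, H.dot_add_right, H.dot_add_right] at h
    simpa [H.dot_smul_left, H.dot_smul_right, H.dot_self_unit (H.val _),
      show H.dot (e i) (e j) = 0 from H.co_ne hij, show H.dot (e j) (e i) = 0 from H.co_ne hij.symm] using h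
  have hrest : w - (H.co i w / a₁) • a ∈ W := by
    rw [H.eq_sum (w - (H.co i w / a₁) • a)]
    refine W.sum_mem fun x _ => ?_
    by_cases hxi : x = i
    · subst hxi
      rw [H.co_sub, H.co_smul, ha, H.co_add, H.co_smul, H.co_smul, H.co_self, H.co_ne hij]
      convert W.zero_mem using 1
      rw [show H.co x w - H.co x w / a₁ * (a₁ * 1 + a₂ * 0) = 0 by field_simp; ring, zero_smul]
    by_cases hxj : x = j
    · subst hxj
      rw [H.co_sub, H.co_smul, ha, H.co_add, H.co_smul, H.co_smul, H.co_self, H.co_ne (Ne.symm hij)]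
      convert W.zero_mem using 1
      have hx' : H.co x w * a₁ - H.co i w * a₂ = 0 := (mul_eq_zero.1 (show a₂ * (H.co x w * a₁ - H.co i w * a₂) = 0 by
          linear_combination a₁ * hd - H.co i w * hsq)).resolve_left ha2
      rw [show H.co x w - H.co i w / a₁ * (a₁ * 0 + a₂ * 1) = 0 by
        field_simp
        linear_combination hx', zero_smul]
    exact W.smul_mem _ (hx x hxi hxj)
  have h := add_mem hrest (W.smul_mem (H.co i w / a₁) haW)
  rwa [sub_add_cancel] at h

/-- A nonmonomial element on at most four coordinates gives all Eichler transformations. -/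
theorem Over.sieGroup_le [Fintype F] (hF : (Fintype.card F).Prime) (hn : 7 ≤ Fintype.card ι)
    {g : O Q} (hg : g ∈ X) (hgm : g ∉ H.mono) {A : Finset ι} (hs : H.Supp g A) (hA : A.card ≤ 4) :
    sieGroup Q ≤ X := by
  classical
  have := Fact.mk hF
  have hchar : CharP F (Fintype.card F) :=
    (CharP.charP_iff_prime_eq_zero hF).2 (FiniteField.cast_card_eq_zero F)
  have hfd := H.finite
  have hfin : 3 ≤ finrank F V := by rw [H.finrank_eq]; omega
  have hp2 : Fintype.card F ≠ 2 := fun h => H.two (by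
    have := FiniteField.cast_card_eq_zero F
    rwa [h, Nat.cast_two] at this)
  obtain ⟨idx⟩ : Nonempty (Fin 7 ↪ ι) := Function.Embedding.nonempty_of_card_le (by simpa using hn)
  set i := idx 0
  set j := idx 1
  set k := idx 2
  set y := idx 3
  have hij : i ≠ j := fun h => absurd (idx.injective h) (by decide)
  have hik : i ≠ k := fun h => absurd (idx.injective h) (by decide)
  have hjk : j ≠ k := fun h => absurd (idx.injective h) (by decide)
  have hiy : i ≠ y := fun h => absurd (idx.injective h) (by decide)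
  have hjy : j ≠ y := fun h => absurd (idx.injective h) (by decide)
  have hky : k ≠ y := fun h => absurd (idx.injective h) (by decide)
  have hd : ∀ {r s : ι}, r ≠ s → H.dot (e r) (e s) = 0 := fun h => H.co_ne h
  have hQdot : ∀ {v : V}, H.dot v v = 1 → Q v = c := fun {v} h => by
    rw [H.dot_self, inv_mul_eq_one₀ H.c0] at h; exact h.symm
  have hQ0 : ∀ {v : V}, H.dot v v = 0 → Q v = 0 := fun {v} h => by
    rw [H.dot_self, mul_eq_zero] at h; exact h.resolve_left (inv_ne_zero H.c0)
  have hpol : ∀ {u v : V}, H.dot u v ≠ 0 → polar Q u v ≠ 0 := fun h h' => h (H.dot_of_polar h')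
  rcases Nat.lt_or_ge (Fintype.card F) 5 with hp3 | h5
  · -- the prime three
    have hcard : Fintype.card F = 3 := by
      have h4 : Fintype.card F ≠ 4 := fun h => by rw [h] at hF; norm_num at hF
      have := hF.two_le
      omega
    have h3 : (3 : F) = 0 := by
      have := FiniteField.cast_card_eq_zero F
      rw [hcard] at this
      exact_mod_cast this
    have hsq : ∀ x : F, x ≠ 0 → x * x = 1 := fun x hx => by
      have := FiniteField.pow_card_sub_one_eq_one x hx
      rwa [hcard, show 3 - 1 = 2 from rfl, pow_two] at this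
    obtain ⟨v, hv, hvA, hvax, -⟩ := hX.exists_column hg hgm hs (by omega)
    set S := A.filter (fun a => H.co a v ≠ 0) with hS
    have hsub : v ∈ H.sub S := fun l hl => by
      by_contra h
      exact hl (Finset.mem_filter.2 ⟨by_contra fun hlA => h (hvA l hlA), h⟩)
    have hScard : S.card = 4 := by
      have hle : S.card ≤ 4 := (Finset.card_filter_le _ _).trans hA
      have h := H.dot_self_unit hv.norm
      rw [H.dot_mem_sub hsub, Finset.sum_congr rfl (g := fun _ => (1 : F)) fun a ha =>
        hsq _ (Finset.mem_filter.1 ha).2, Finset.sum_const, nsmul_one] at h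
      have hmod : S.card ≡ 1 [MOD 3] := hcard ▸
        ((CharP.natCast_eq_natCast F (Fintype.card F)).1 (by rw [h, Nat.cast_one]))
      have h1 : S.card ≠ 1 := fun h1 => by
        obtain ⟨l, hl⟩ := Finset.card_eq_one.1 h1
        exact hvax (H.ax_of_co (j := l) fun m hm => hsub m (by simp [hl, hm]))
      rw [Nat.ModEq] at hmod
      omega
    have hfour : ∀ {w : V} {T : Finset ι}, T.card = 4 → w ∈ H.sub T → (∀ l ∈ T, H.co l w ≠ 0) → Pt H X w := by
      intro w T hT hw hne
      obtain ⟨a, ha, b, hb, hab⟩ := Finset.one_lt_card.1 (show 1 < Sᶜ.card by rw [Finset.card_compl]; omega)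
      rw [Finset.mem_compl] at ha hb
      refine hX.pt_perm hv hab (hsub a ha) (hsub b hb) (Finset.equivOfCardEq (hScard.trans hT.symm)).extendSubtype
        fun l => ?_
      by_cases hl : l ∈ S
      · rw [hsq _ (hne _ (Equiv.extendSubtype_mem _ l hl)), hsq _ (Finset.mem_filter.1 hl).2]
      · rw [hw _ (Equiv.extendSubtype_not_mem _ l hl), hsub l hl]
    have hfull : ∀ s : F, s * s = 1 → H98.OrthMax.Full X (e i + e j + s • e k) := by
      intro s hs
      have hs0 : s ≠ 0 := fun h => by rw [h, mul_zero] at hs; exact zero_ne_one hs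
      have haQ : Q (e i + e j + s • e k) = 0 := hQ0 (by
        simp only [H.dot_add_left, H.dot_add_right, H.dot_smul_left, H.dot_smul_right, H.dot_self_unit (H.val _),
          hd hij, hd hij.symm, hd hik, hd hik.symm, hd hjk, hd hjk.symm]
        linear_combination hs + h3)
      have h4 : ∀ {x : ι}, x ≠ i → x ≠ j → x ≠ k → Pt H X (e x + (1 : F) • (e i + e j + s • e k)) := by
        intro x hxi hxj hxk
        refine hfour (T := {x, i, j, k}) (by simp [hxi, hxj, hxk, hij, hik, hjk]) (fun l hl => ?_) fun l hl => ?_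
        · simp only [Finset.mem_insert, Finset.mem_singleton, not_or] at hl
          simp [H.co_add, H.co_smul, H.co_e, hl.1, hl.2.1, hl.2.2.1, hl.2.2.2]
        · simp only [Finset.mem_insert, Finset.mem_singleton] at hl
          rcases hl with rfl | rfl | rfl | rfl <;>
            simp [H.co_add, H.co_smul, H.co_e, hxi, hxj, hxk, Ne.symm hxi, Ne.symm hxj, Ne.symm hxk, hij, hik, hjk,
              hij.symm, hik.symm, hjk.symm, hs0]
      refine hX.full_triple hF hij hik hjk (a₁ := 1) (a₂ := 1) (a₃ := s) (by simp) one_ne_zero hs0 haQ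
        (fun x hxi hxj hxk => ?_) ?_
      · refine sIn_of_pt hF i haQ ?_ one_ne_zero (hX.pt_e x) (h4 hxi hxj hxk)
        simp [H.dot_add_left, H.dot_smul_left, hd (Ne.symm hxi), hd (Ne.symm hxj), hd (Ne.symm hxk)]
      · set z := idx 4
        have hiz : i ≠ z := fun h => absurd (idx.injective h) (by decide)
        have hjz : j ≠ z := fun h => absurd (idx.injective h) (by decide)
        have hkz : k ≠ z := fun h => absurd (idx.injective h) (by decide)
        have hyz : y ≠ z := fun h => absurd (idx.injective h) (by decide)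
        have hb : Pt H X (e i - e j + e y + e z) := by
          refine hfour (T := {i, j, y, z}) (by simp [hij, hiy, hiz, hjy, hjz, hyz]) (fun l hl => ?_) fun l hl => ?_
          · simp only [Finset.mem_insert, Finset.mem_singleton, not_or] at hl
            simp [H.co_add, H.co_sub, H.co_e, hl.1, hl.2.1, hl.2.2.1, hl.2.2.2]
          · simp only [Finset.mem_insert, Finset.mem_singleton] at hl
            rcases hl with rfl | rfl | rfl | rfl <;>
              simp [H.co_add, H.co_sub, H.co_e, hij, hiy, hiz, hjy, hjz, hyz, hij.symm, hiy.symm, hiz.symm, hjy.symm,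
                hjz.symm, hyz.symm]
        have hb' : Pt H X (e i - e j + e y + e z + (1 : F) • (e i + e j + s • e k)) := by
          refine hfour (T := {i, k, y, z}) (by simp [hik, hiy, hiz, hky, hkz, hyz]) (fun l hl => ?_) fun l hl => ?_
          · simp only [Finset.mem_insert, Finset.mem_singleton, not_or] at hl
            simp [H.co_add, H.co_sub, H.co_smul, H.co_e, hl.1, hl.2.1, hl.2.2.1, hl.2.2.2]
          · simp only [Finset.mem_insert, Finset.mem_singleton] at hl
            rcases hl with rfl | rfl | rfl | rfl <;>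
              simp [H.co_add, H.co_sub, H.co_smul, H.co_e, hij, hik, hjk, hiy, hiz, hjy, hjz, hky, hkz, hyz, hij.symm,
                hik.symm, hjk.symm, hiy.symm, hiz.symm, hjy.symm, hjz.symm, hky.symm, hkz.symm, hyz.symm, hs0,
                one_add_one_eq_two, H.two]
        have h := sIn_of_pt hF i haQ (by
          simp [H.dot_add_left, H.dot_add_right, H.dot_sub_right, H.dot_smul_left, H.dot_self_unit (H.val _), hd hij,
            hd hij.symm, hd hiy, hd hiz, hd hjy, hd hjz, hd hik.symm, hd hjk.symm, hd hky, hd hkz]) one_ne_zero hb hb'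
        have hye : SIn X (e i + e j + s • e k) (e y) := sIn_of_pt hF i haQ
          (by simp [H.dot_add_left, H.dot_smul_left, hd hiy, hd hjy, hd hky]) one_ne_zero (hX.pt_e y)
          (h4 hiy.symm hjy.symm hky.symm)
        have hze : SIn X (e i + e j + s • e k) (e z) := sIn_of_pt hF i haQ
          (by simp [H.dot_add_left, H.dot_smul_left, hd hiz, hd hjz, hd hkz]) one_ne_zero (hX.pt_e z)
          (h4 hiz.symm hjz.symm hkz.symm)
        exact ((h.sub hye).sub hze).congr rfl (by simp only [one_smul]; abel)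
    have h1 := hfull 1 (one_mul 1)
    have h2 := hfull (-1) (by ring)
    refine H98.OrthMax.sieGroup_le_of_pair H.nondeg hfin h1 h2 (hQ0 ?_) (hQ0 ?_) (hpol ?_) <;>
      simp only [H.dot_add_left, H.dot_add_right, H.dot_smul_left, H.dot_smul_right, H.dot_self_unit (H.val _),
        hd hij, hd hij.symm, hd hik, hd hik.symm, hd hjk, hd hjk.symm]
    · linear_combination h3
    · linear_combination h3
    · exact fun h => one_ne_zero (α := F) (by linear_combination h)
  -- the larger primes
  obtain ⟨v₀, a₀, hv₀, ⟨A', hA', hv₀A⟩, hd0, hd1, hd2⟩ := hX.exists_good hF h5 hn hg hgm hs hA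
  obtain ⟨A₀, hA'A₀, -, hA₀⟩ := Finset.exists_subsuperset_card_eq (Finset.subset_univ A') hA'
    (show 4 ≤ (Finset.univ : Finset ι).card by rw [Finset.card_univ]; omega)
  have hv₀A₀ : v₀ ∈ H.sub A₀ := H.sub_mono hA'A₀ hv₀A
  -- all the units with three coordinates
  have hthree : ∀ {T : Finset ι} {w : V}, T.card = 3 → w ∈ H.sub T → Q w = c → Pt H X w := by
    intro T w hT hwT hw
    obtain ⟨l, hl⟩ : ∃ l, l ∉ T := by
      by_contra! h
      rw [Finset.eq_univ_iff_forall.2 h, Finset.card_univ] at hT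
      omega
    have hTl : (insert l T).card = 4 := by rw [Finset.card_insert_of_notMem hl, hT]
    have hwT' := H.sub_mono (Finset.subset_insert l T) hwT
    by_cases h5' : Fintype.card F = 5
    · exact hX.three_five h5' idx hv₀ hA₀ hv₀A₀ hd0 hd1 hw hTl hwT' (Finset.mem_insert_self l T) (hwT l hl)
    by_cases h7' : Fintype.card F = 7
    · exact hX.three_seven h7' idx hv₀ hA₀ hv₀A₀ hd0 hd1 hd2 hw hTl hwT' (Finset.mem_insert_self l T) (hwT l hl)
    -- the good vector gives a pair
    set d := H.co a₀ v₀ with hddef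
    have hnz : ∀ m : ℕ, 0 < m → m < 8 → m ≠ 5 → m ≠ 7 → (m : F) ≠ 0 := by
      intro m hm hm8 hm5 hm7 h0
      have hdv := (CharP.cast_eq_zero_iff F (Fintype.card F) m).1 h0
      have hle := Nat.le_of_dvd hm hdv
      have h6 : Fintype.card F ≠ 6 := fun h => by rw [h] at hF; norm_num at hF
      omega
    have h50 : (5 : F) ≠ 0 := by
      intro h0
      have hdv := (CharP.cast_eq_zero_iff F (Fintype.card F) 5).1 (by exact_mod_cast h0)
      exact h5' ((Nat.prime_dvd_prime_iff_eq hF (by norm_num)).1 hdv)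
    have h70 : (7 : F) ≠ 0 := by
      intro h0
      have hdv := (CharP.cast_eq_zero_iff F (Fintype.card F) 7).1 (by exact_mod_cast h0)
      exact h7' ((Nat.prime_dvd_prime_iff_eq hF (by norm_num)).1 hdv)
    have h30 : (3 : F) ≠ 0 := by exact_mod_cast hnz 3 (by norm_num) (by norm_num) (by norm_num) (by norm_num)
    obtain ⟨x, hx⟩ : ∃ x, x ∉ A₀ := by
      by_contra! h
      rw [Finset.eq_univ_iff_forall.2 h, Finset.card_univ] at hA₀
      omega
    have hxv : H.co x v₀ = 0 := hv₀A₀ x hx
    have hax : a₀ ≠ x := fun h => hd0 (by rw [hddef, h, hxv])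
    set u₀ := v₀ - d • e a₀ with hu₀
    have hv₀dot : H.dot v₀ v₀ = 1 := H.dot_self_unit hv₀.norm
    have hdv : H.dot (e a₀) v₀ = d := rfl
    have hqe : H.dot u₀ u₀ = 1 - d * d := by
      rw [hu₀, H.dot_sub_left, H.dot_sub_right, H.dot_sub_right, H.dot_smul_left, H.dot_smul_left, H.dot_smul_right,
        H.dot_smul_right, H.dot_self_unit (H.val a₀), H.dot_comm v₀ (e a₀), hdv, hv₀dot]
      ring
    obtain ⟨l₁, hl₁, l₂, hl₂, hl₁₂⟩ := Finset.one_lt_card.1 (show 1 < (insert x A₀)ᶜ.card by
      rw [Finset.card_compl, Finset.card_insert_of_notMem hx]; omega)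
    simp only [Finset.mem_compl, Finset.mem_insert, not_or] at hl₁ hl₂
    have hw' : Pt H X ((0 : F) • e a₀ + d • e x + (1 : F) • u₀) := by
      refine hX.pt_perm hv₀ hl₁₂ (hv₀A₀ l₁ hl₁.2) (hv₀A₀ l₂ hl₂.2) (Equiv.swap a₀ x) fun m => ?_
      rw [zero_smul, zero_add, one_smul, hu₀, H.co_add, H.co_smul, H.co_sub, H.co_smul, H.co_e, H.co_e]
      rcases eq_or_ne m a₀ with rfl | hm
      · simp [Equiv.swap_apply_left, Ne.symm hax, hxv, hddef]
      rcases eq_or_ne m x with rfl | hm'
      · simp [Equiv.swap_apply_right, hax, hxv, hddef]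
      · simp [Equiv.swap_apply_of_ne_of_ne hm hm', hm, hm']
    have hpair : Pt H X ((3 / 5 : F) • e a₀ + (4 / 5 : F) • e x) := by
      have h := hX.three_apply hF h5 (q := 1 - d * d) (sub_ne_zero.2 (Ne.symm hd1)) a₀ (f₀ := e a₀) (f₁ := e x)
        (f₂ := u₀) (H.dot_self_unit (H.val a₀)) (H.dot_self_unit (H.val x)) hqe (hd hax)
        (by rw [hu₀, H.dot_sub_right, H.dot_smul_right, hdv, H.dot_self_unit (H.val a₀)]; ring)
        (by rw [hu₀, H.dot_sub_right, H.dot_smul_right, hd hax.symm]
            change H.co x v₀ - d * 0 = 0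
            rw [hxv]; ring)
        (hX.pt_e a₀) (hX.pt_e x) (d := d) (x := 1) (by rw [hu₀, one_smul, add_sub_cancel]; exact hv₀) hd0 hd1 hd2
        hw' hd0 (Or.inr one_ne_zero) (t₀ := (3 : F) / 5) (t₁ := (4 : F) / 5) (t₂ := 0) (by field_simp; ring)
      rwa [zero_smul, add_zero] at h
    have hrel : ∀ r s : ι, r ≠ s → Pt H X ((3 / 5 : F) • e r + (4 / 5 : F) • e s) := by
      intro r s hrs
      obtain ⟨m₁, hm₁, m₂, hm₂, hm₁₂⟩ := Finset.one_lt_card.1 (show 1 < ({a₀, x} : Finset ι)ᶜ.card by
        rw [Finset.card_compl, Finset.card_pair hax]; omega)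
      simp only [Finset.mem_compl, Finset.mem_insert, Finset.mem_singleton, not_or] at hm₁ hm₂
      have hπ : ∃ π : Equiv.Perm ι, π a₀ = r ∧ π x = s :=
        ⟨Equiv.swap (Equiv.swap a₀ r x) s * Equiv.swap a₀ r, by
          rw [Equiv.Perm.mul_apply, Equiv.swap_apply_left]
          refine Equiv.swap_apply_of_ne_of_ne ?_ hrs
          intro h
          have := congrArg (Equiv.swap a₀ r) h
          rw [Equiv.swap_apply_right, Equiv.swap_apply_self] at this
          exact hax this, by rw [Equiv.Perm.mul_apply, Equiv.swap_apply_left]⟩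
      obtain ⟨π, hπa, hπx⟩ := hπ
      refine hX.pt_perm hpair hm₁₂ (by simp [H.co_add, H.co_smul, H.co_e, hm₁.1, hm₁.2])
        (by simp [H.co_add, H.co_smul, H.co_e, hm₂.1, hm₂.2]) π fun m => ?_
      simp only [H.co_add, H.co_smul, H.co_e, ← hπa, ← hπx, π.injective.eq_iff]
    obtain ⟨r, s, t, hrs, hrt, hst, hTeq⟩ := Finset.card_eq_three.1 hT
    have hwdec : w = H.co r w • e r + H.co s w • e s + H.co t w • e t := H.ext_co fun m => by
      rw [H.co_add, H.co_add, H.co_smul, H.co_smul, H.co_smul, H.co_e, H.co_e, H.co_e]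
      rcases eq_or_ne m r with rfl | h1
      · simp [hrs, hrt]
      rcases eq_or_ne m s with rfl | h2
      · simp [h1, hst]
      rcases eq_or_ne m t with rfl | h3
      · simp [h1, h2]
      · simp [h1, h2, h3, hwT m (by simp [hTeq, h1, h2, h3])]
    have hwn : H.co r w * H.co r w + H.co s w * H.co s w + 1 * (H.co t w * H.co t w) = 1 := by
      have h := H.dot_self_unit hw
      rw [H.dot_mem_sub hwT, hTeq, Finset.sum_insert (by simp [hrs, hrt]), Finset.sum_pair hst] at h
      linear_combination h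
    rw [hwdec]
    refine hX.three_apply hF h5 (q := 1) one_ne_zero r (H.dot_self_unit (H.val r)) (H.dot_self_unit (H.val s))
      (H.dot_self_unit (H.val t)) (hd hrs) (hd hrt) (hd hst) (hX.pt_e r) (hX.pt_e s) (hrel r t hrt) ?_ ?_ ?_
      (w₀ := 0) (w₁ := 3 / 5) (w₂ := 4 / 5) (by rw [zero_smul, zero_add]; exact hrel s t hst) ?_ ?_ hwn
    · exact div_ne_zero h30 h50
    · intro h; field_simp at h
      exact pow_ne_zero 4 H.two (by linear_combination -h)
    · intro h; field_simp at h
      exact h70 (by linear_combination -h)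
    · exact div_ne_zero h30 h50
    · exact Or.inr (div_ne_zero (by rw [show (4 : F) = 2 * 2 by norm_num]; exact mul_ne_zero H.two H.two) h50)
  by_cases h5' : Fintype.card F = 5
  · -- the prime five: a centre on two coordinates
    have h50 : (5 : F) = 0 := by
      have := FiniteField.cast_card_eq_zero F
      rw [h5'] at this
      exact_mod_cast this
    have hfull : ∀ s : F, s * s = 4 → H98.OrthMax.Full X ((1 : F) • e i + s • e j) := by
      intro s hs
      have haQ : Q ((1 : F) • e i + s • e j) = 0 := hQ0 (by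
        simp only [H.dot_add_left, H.dot_add_right, H.dot_smul_left, H.dot_smul_right, H.dot_self_unit (H.val _),
          hd hij, hd hij.symm]
        linear_combination hs + h50)
      refine hX.full_pair hF hij rfl one_ne_zero (fun h => pow_ne_zero 2 H.two (by rw [h] at hs; linear_combination -hs))
        haQ fun x hxi hxj => sIn_of_pt hF i haQ (l := 1)
          (by simp [H.dot_add_left, H.dot_smul_left, hd (Ne.symm hxi), hd (Ne.symm hxj)]) one_ne_zero (hX.pt_e x)
          (hthree (T := {x, i, j}) (by simp [hxi, hxj, hij]) (fun l hl => ?_) (hQdot ?_))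
      · simp only [Finset.mem_insert, Finset.mem_singleton, not_or] at hl
        simp [H.co_add, H.co_smul, H.co_e, hl.1, hl.2.1, hl.2.2]
      · simp only [one_smul, H.dot_add_left, H.dot_add_right, H.dot_smul_left, H.dot_smul_right,
          H.dot_self_unit (H.val _), hd hij, hd hij.symm, hd hxi, hd hxi.symm, hd hxj, hd hxj.symm]
        linear_combination hs + h50
    refine H98.OrthMax.sieGroup_le_of_pair H.nondeg hfin (hfull 2 (by norm_num)) (hfull (-2) (by norm_num))
      (hQ0 ?_) (hQ0 ?_) (hpol ?_) <;>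
      simp only [H.dot_add_left, H.dot_add_right, H.dot_smul_left, H.dot_smul_right, H.dot_self_unit (H.val _),
        hd hij, hd hij.symm]
    · linear_combination h50
    · linear_combination h50
    · exact fun h => H.two (by linear_combination h + h50)
  -- a singular vector on three coordinates with no zero
  have h50 : (5 : F) ≠ 0 := by
    intro h0
    have hdv := (CharP.cast_eq_zero_iff F (Fintype.card F) 5).1 (by exact_mod_cast h0)
    exact h5' ((Nat.prime_dvd_prime_iff_eq hF (by norm_num)).1 hdv)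
  have h30 : (3 : F) ≠ 0 := by
    intro h0
    have hdv := (CharP.cast_eq_zero_iff F (Fintype.card F) 3).1 (by exact_mod_cast h0)
    have := Nat.le_of_dvd (by norm_num) hdv
    omega
  have h40 : (4 : F) ≠ 0 := by rw [show (4 : F) = 2 * 2 by norm_num]; exact mul_ne_zero H.two H.two
  obtain ⟨a₁, a₂, ha1, ha2, hsum⟩ : ∃ a b : F, a ≠ 0 ∧ b ≠ 0 ∧ a * a + b * b + 1 = 0 := by
    obtain ⟨a, b, hab⟩ := FiniteField.exists_root_sum_quadratic (R := F)
      (f := (Polynomial.X : Polynomial F) ^ 2) (g := Polynomial.X ^ 2 + Polynomial.C 1) (by simp)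
      (by compute_degree!) (Nat.odd_iff.1 (hF.odd_of_ne_two hp2))
    simp at hab
    rcases eq_or_ne a 0 with rfl | ha
    · exact ⟨3 * b / 5, 4 * b / 5, div_ne_zero (mul_ne_zero h30 fun h => by rw [h] at hab; simp at hab) h50,
        div_ne_zero (mul_ne_zero h40 fun h => by rw [h] at hab; simp at hab) h50,
        by field_simp; linear_combination 25 * hab⟩
    rcases eq_or_ne b 0 with rfl | hb
    · exact ⟨3 * a / 5, 4 * a / 5, div_ne_zero (mul_ne_zero h30 ha) h50, div_ne_zero (mul_ne_zero h40 ha) h50,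
        by field_simp; linear_combination 25 * hab⟩
    · exact ⟨a, b, ha, hb, by linear_combination hab⟩
  have hfull : ∀ s : F, s * s = 1 → H98.OrthMax.Full X (a₁ • e i + a₂ • e j + s • e k) := by
    intro s hs
    have hs0 : s ≠ 0 := fun h => by rw [h, mul_zero] at hs; exact zero_ne_one hs
    have haQ : Q (a₁ • e i + a₂ • e j + s • e k) = 0 := hQ0 (by
      simp only [H.dot_add_left, H.dot_add_right, H.dot_smul_left, H.dot_smul_right, H.dot_self_unit (H.val _),
        hd hij, hd hij.symm, hd hik, hd hik.symm, hd hjk, hd hjk.symm]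
      linear_combination hsum + hs)
    have hb : ∀ x, x ≠ i → x ≠ j → x ≠ k → ∀ ν : F, ν * ν = 25 / 16 →
        SIn X (a₁ • e i + a₂ • e j + s • e k)
          ((3 / 4 : F) • (a₂ • e i - a₁ • e j) + ν • e x) := by
      intro x hxi hxj hxk ν hν
      have hν' : ν * ν * 16 = 25 := by rw [hν, div_mul_cancel₀]; rw [show (16 : F) = 4 * 4 by norm_num]
                                       exact mul_ne_zero h40 h40
      refine sIn_of_pt hF i haQ (l := 3 * a₁ / (4 * a₂)) ?_ (div_ne_zero (mul_ne_zero h30 ha1) (mul_ne_zero h40 ha2))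
        (hthree (T := {i, j, x}) (by simp [hij, Ne.symm hxi, Ne.symm hxj]) (fun l hl => ?_) (hQdot ?_))
        (hthree (T := {i, k, x}) (by simp [hik, Ne.symm hxi, Ne.symm hxk]) (fun l hl => ?_) (hQdot ?_))
      · simp only [H.dot_add_left, H.dot_add_right, H.dot_sub_right, H.dot_smul_left, H.dot_smul_right,
          H.dot_self_unit (H.val _), hd hij, hd hij.symm, hd hik.symm, hd hjk.symm, hd (Ne.symm hxi),
          hd (Ne.symm hxj), hd (Ne.symm hxk)]
        ring
      · simp only [Finset.mem_insert, Finset.mem_singleton, not_or] at hl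
        simp [H.co_add, H.co_sub, H.co_smul, H.co_e, hl.1, hl.2.1, hl.2.2]
      · simp only [H.dot_add_left, H.dot_sub_left, H.dot_add_right, H.dot_sub_right, H.dot_smul_left,
          H.dot_smul_right, H.dot_self_unit (H.val _), hd hij, hd hij.symm, hd hxi, hd (Ne.symm hxi), hd hxj,
          hd (Ne.symm hxj)]
        field_simp
        linear_combination 9 * hsum + hν'
      · simp only [Finset.mem_insert, Finset.mem_singleton, not_or] at hl
        rw [H.co_add, H.co_add, H.co_smul, H.co_sub, H.co_smul, H.co_smul, H.co_smul, H.co_smul, H.co_add, H.co_add,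
          H.co_smul, H.co_smul, H.co_smul, H.co_e, H.co_e, H.co_e, H.co_e, if_neg hl.1, if_neg hl.2.1,
          if_neg hl.2.2]
        split_ifs
        · field_simp; ring
        · ring
      · simp only [H.dot_add_left, H.dot_sub_left, H.dot_add_right, H.dot_sub_right, H.dot_smul_left,
          H.dot_smul_right, H.dot_self_unit (H.val _), hd hij, hd hij.symm, hd hxi, hd (Ne.symm hxi), hd hxj,
          hd (Ne.symm hxj), hd hik, hd hik.symm, hd hjk, hd hjk.symm, hd hxk, hd (Ne.symm hxk)]
        field_simp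
        linear_combination (9 * a₂ * a₂ + 9 * a₁ * a₁) * hsum + a₂ * a₂ * hν' + 9 * a₁ * a₁ * hs
    have h16 : ((5 : F) / 4) * (5 / 4) = 25 / 16 := by rw [div_mul_div_comm]; norm_num
    have hxx : ∀ x, x ≠ i → x ≠ j → x ≠ k → SIn X (a₁ • e i + a₂ • e j + s • e k) (e x) := by
      intro x hxi hxj hxk
      have h := sIn_smul hF ((hb x hxi hxj hxk _ h16).sub (hb x hxi hxj hxk (-(5 / 4)) (by linear_combination h16)))
        (2 / 5 : F)
      refine h.congr rfl ?_
      rw [show (3 / 4 : F) • (a₂ • e i - a₁ • e j) + (5 / 4 : F) • e x -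
        ((3 / 4 : F) • (a₂ • e i - a₁ • e j) + (-(5 / 4) : F) • e x) = (5 / 4 + 5 / 4 : F) • e x by module, smul_smul,
        show (2 / 5 : F) * (5 / 4 + 5 / 4) = 1 by field_simp; ring, one_smul]
    refine hX.full_triple hF hij hik hjk rfl ha2 hs0 haQ hxx ?_
    have h := sIn_smul hF ((hb y hiy.symm hjy.symm hky.symm _ h16).sub
      (sIn_smul hF (hxx y hiy.symm hjy.symm hky.symm) (5 / 4 : F))) (4 / 3 : F)
    refine h.congr rfl ?_
    rw [add_sub_cancel_right, smul_smul, show (4 / 3 : F) * (3 / 4) = 1 by field_simp, one_smul]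
  refine H98.OrthMax.sieGroup_le_of_pair H.nondeg hfin (hfull 1 (one_mul 1)) (hfull (-1) (by ring)) (hQ0 ?_) (hQ0 ?_)
    (hpol ?_) <;>
    simp only [H.dot_add_left, H.dot_add_right, H.dot_smul_left, H.dot_smul_right, H.dot_self_unit (H.val _),
      hd hij, hd hij.symm, hd hik, hd hik.symm, hd hjk, hd hjk.symm]
  · linear_combination hsum
  · linear_combination hsum
  · exact fun h => H.two (by linear_combination hsum - h)

end Cfsg.Agent.H97.Frame
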