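import Cfsg.Agent.H97.Frame.Basic

/-!
Elementary facts on monomial isometries and on invariant coordinate subspaces of a frame.
-/

set_option autoImplicit false

namespace Cfsg.Agent.H97.Frame

open QuadraticMap Module Cfsg.Agent.Orthogonal

variable {F V ι : Type*} [Field F] [AddCommGroup V] [Module F V] [Fintype ι] [DecidableEq ι]
variable {Q : QuadraticForm F V} {e : ι → V} {c : F}

namespace ONB

variable (H : ONB Q e c)
include H

omit H in
/-- The vectors supported on a set of coordinates. -/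
def sub (H : ONB Q e c) (B : Finset ι) : Submodule F V where
  carrier := {v | ∀ i, i ∉ B → H.co i v = 0}
  zero_mem' := fun i _ => H.co_zero i
  add_mem' := fun {u v} hu hv i hi => by rw [H.co_add, hu i hi, hv i hi, add_zero]
  smul_mem' := fun a v hv i hi => by rw [H.co_smul, hv i hi, mul_zero]

theorem mem_sub {B : Finset ι} {v : V} : v ∈ H.sub B ↔ ∀ i, i ∉ B → H.co i v = 0 := Iff.rfl

theorem e_mem_sub {B : Finset ι} {b : ι} (hb : b ∈ B) : e b ∈ H.sub B := fun i hi =>
  H.co_ne fun h => hi (h ▸ hb)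

theorem sub_mono {B C : Finset ι} (h : B ⊆ C) : H.sub B ≤ H.sub C := fun _ hv i hi => hv i fun h' => hi (h h')

theorem dot_mem_sub {B : Finset ι} {u v : V} (hu : u ∈ H.sub B) :
    H.dot u v = ∑ i ∈ B, H.co i u * H.co i v := by
  rw [H.dot_eq_sum]
  symm
  exact Finset.sum_subset (Finset.subset_univ _) fun i _ hi => by rw [hu i hi, zero_mul]

theorem dot_eq_zero_of_disjoint {B C : Finset ι} (h : Disjoint B C) {u v : V} (hu : u ∈ H.sub B)
    (hv : v ∈ H.sub C) : H.dot u v = 0 := by
  rw [H.dot_mem_sub hu]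
  exact Finset.sum_eq_zero fun i hi => by rw [hv i (Finset.disjoint_left.1 h hi), mul_zero]

theorem polar_of_dot {u v : V} (h : H.dot u v = 0) : polar Q u v = 0 :=
  (mul_eq_zero.1 h).resolve_left (inv_ne_zero H.two_c)

theorem dot_of_polar {u v : V} (h : polar Q u v = 0) : H.dot u v = 0 := by rw [dot, h, mul_zero]

theorem sub_le_span [DecidableEq V] {B : Finset ι} : H.sub B ≤ Submodule.span F (Finset.image e B : Set V) := by
  intro v hv
  rw [H.eq_sum v, ← Finset.sum_subset (Finset.subset_univ B) fun i _ hi => by rw [hv i hi, zero_smul]]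
  exact Submodule.sum_mem _ fun i hi =>
    Submodule.smul_mem _ _ (Submodule.subset_span (by simpa using ⟨i, hi, rfl⟩))

theorem finrank_sub (B : Finset ι) : finrank F (H.sub B) ≤ B.card := by
  classical
  have := H.finite
  exact (Submodule.finrank_mono H.sub_le_span).trans
    ((finrank_span_finset_le_card _).trans Finset.card_image_le)

/-- Pairwise orthogonal anisotropic vectors supported on `T` number at most `|T|`. -/
theorem card_le_of_orth {κ : Type*} {S : Finset κ} {f : κ → V} {T : Finset ι} (hf : ∀ k ∈ S, Q (f k) ≠ 0)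
    (ho : ∀ k ∈ S, ∀ l ∈ S, k ≠ l → H.dot (f k) (f l) = 0) (hT : ∀ k ∈ S, f k ∈ H.sub T) :
    S.card ≤ T.card := by
  classical
  have := H.finite
  refine le_trans ?_ (H.finrank_sub T)
  have hli : LinearIndependent F (fun k : S => (⟨f k, hT k k.2⟩ : H.sub T)) := by
    rw [Fintype.linearIndependent_iff]
    intro g hg k
    have h : H.dot (f k) (∑ l : S, g l • f l) = 0 := by
      have h0 := congrArg (fun x : H.sub T => H.dot (f k) (x : V)) hg
      simp only [Submodule.coe_sum, SetLike.val_smul, ZeroMemClass.coe_zero, H.dot_zero_right] at h0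
      exact h0
    rw [dot, ← polarBilin_apply' Q, map_sum, Finset.sum_eq_single k, polarBilin_apply', polar_smul_right',
      polar_self', mul_eq_zero, mul_eq_zero] at h
    · rcases h with h | h | h
      · exact absurd h (inv_ne_zero H.two_c)
      · exact h
      · exact absurd h (mul_ne_zero H.two (hf k k.2))
    · intro l _ hl
      rw [polarBilin_apply', polar_smul_right',
        H.polar_of_dot (ho k k.2 l l.2 fun h => hl (Subtype.ext h.symm)), mul_zero]
    · exact fun hn => absurd (Finset.mem_univ k) hn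
  simpa using hli.fintype_card_le_finrank

theorem Supp.app_mem {g : O Q} {A : Finset ι} (h : H.Supp g A) {v : V} (hv : v ∈ H.sub A) :
    (g : V ≃ₗ[F] V) v ∈ H.sub A := fun i hi => by rw [Supp.co H h hi, hv i hi]

theorem Supp.fix {g : O Q} {A : Finset ι} (h : H.Supp g A) {v : V} (hv : ∀ i ∈ A, H.co i v = 0) :
    (g : V ≃ₗ[F] V) v = v := by
  conv_lhs => rw [H.eq_sum v]
  conv_rhs => rw [H.eq_sum v]
  rw [map_sum]
  refine Finset.sum_congr rfl fun i _ => ?_
  rw [map_smul]
  by_cases hi : i ∈ A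
  · rw [hv i hi, zero_smul, zero_smul]
  · rw [h i hi]

theorem Supp.of_mul {g h : O Q} {A : Finset ι} (hh : H.Supp h A) (hgh : H.Supp (g * h) A) : H.Supp g A := by
  have := Supp.mul H hgh (Supp.inv H hh)
  rwa [mul_inv_cancel_right] at this

omit H in
/-- The isometries supported on `A`. -/
def suppG (H : ONB Q e c) (A : Finset ι) : Subgroup (O Q) where
  carrier := {g | H.Supp g A}
  one_mem' := H.supp_one A
  mul_mem' := fun ha hb => Supp.mul H ha hb
  inv_mem' := fun ha => Supp.inv H ha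

theorem mem_suppG {g : O Q} {A : Finset ι} : g ∈ H.suppG A ↔ H.Supp g A := Iff.rfl

theorem rO_supp {v : V} {S : Finset ι} (hv : v ∈ H.sub S) : H.Supp (rO Q v) S := fun i hi =>
  rO_fix (H.polar_of_dot (by rw [H.dot_comm]; exact hv i hi))

theorem app_neg_mem {g : O Q} {B : Finset ι} (hg : H.IsDiag g B) {v : V} (hv : (g : V ≃ₗ[F] V) v = -v) :
    v ∈ H.sub B := fun i hi => by
  have h := H.dot_app g (e i) v
  rw [hg i, if_neg hi, hv, H.dot_neg_right] at h
  have : (2 : F) * H.co i v = 0 := by rw [co]; linear_combination -h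
  exact (mul_eq_zero.1 this).resolve_left H.two

theorem app_fix_mem {g : O Q} {B : Finset ι} (hg : H.IsDiag g B) {v : V} (hv : (g : V ≃ₗ[F] V) v = v) :
    ∀ i ∈ B, H.co i v = 0 := fun i hi => by
  have h := H.dot_app g (e i) v
  rw [hg i, if_pos hi, hv, H.dot_neg_left] at h
  have : (2 : F) * H.co i v = 0 := by rw [co]; linear_combination -h
  exact (mul_eq_zero.1 this).resolve_left H.two

/-- An isometry carrying one sign change to another carries the supports. -/
theorem diag_maps {g d d' : O Q} {B C : Finset ι} (hd : H.IsDiag d B) (hd' : H.IsDiag d' C)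
    (h : g * d * g⁻¹ = d') {b : ι} :
    (b ∈ B → (g : V ≃ₗ[F] V) (e b) ∈ H.sub C) ∧ (b ∉ B → ∀ i ∈ C, H.co i ((g : V ≃ₗ[F] V) (e b)) = 0) := by
  have key : (d' : V ≃ₗ[F] V) ((g : V ≃ₗ[F] V) (e b)) = (g : V ≃ₗ[F] V) ((d : V ≃ₗ[F] V) (e b)) := by
    rw [← mul_app, ← Subgroup.coe_mul, ← h, inv_mul_cancel_right, Subgroup.coe_mul, mul_app]
  constructor
  · intro hb
    rw [hd b, if_pos hb, map_neg] at key
    exact H.app_neg_mem hd' key
  · intro hb
    rw [hd b, if_neg hb] at key
    exact H.app_fix_mem hd' key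

theorem diag_card {g d d' : O Q} {B C : Finset ι} (hd : H.IsDiag d B) (hd' : H.IsDiag d' C)
    (h : g * d * g⁻¹ = d') : B.card = C.card := by
  have key : ∀ {g d d' : O Q} {B C : Finset ι}, H.IsDiag d B → H.IsDiag d' C → g * d * g⁻¹ = d' →
      B.card ≤ C.card := fun {g d d' B C} hd hd' h =>
    H.card_le_of_orth (f := fun b => (g : V ≃ₗ[F] V) (e b)) (fun b _ => by rw [O.map_app, H.val]; exact H.c0)
      (fun k _ l _ hkl => by rw [H.dot_app]; exact H.co_ne hkl) fun b hb => (H.diag_maps hd hd' h).1 hb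
  exact le_antisymm (key hd hd' h) (key (g := g⁻¹) hd' hd (by rw [← h]; group))

/-- Two orthogonal anisotropic vectors of a coordinate plane give the sign change of that plane. -/
theorem isDiag_plane {i j : ι} (hij : i ≠ j) {u v : V} (hu : u ∈ H.sub {i, j}) (hv : v ∈ H.sub {i, j})
    (hu0 : Q u ≠ 0) (hv0 : Q v ≠ 0) (huv : H.dot u v = 0) : H.IsDiag (rO Q u * rO Q v) {i, j} := by
  have hneg : ∀ z ∈ Submodule.span F ({u, v} : Set V),
      ((rO Q u * rO Q v : O Q) : V ≃ₗ[F] V) z = -z := by
    intro z hz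
    obtain ⟨a, b, rfl⟩ := Submodule.mem_span_pair.1 hz
    have f1 : (rO Q v : V ≃ₗ[F] V) u = u := rO_fix (H.polar_of_dot (by rw [H.dot_comm]; exact huv))
    have f2 : (rO Q u : V ≃ₗ[F] V) v = v := rO_fix (H.polar_of_dot huv)
    rw [Subgroup.coe_mul, mul_app, map_add, map_smul, map_smul, f1, rO_self hv0, map_add, map_smul, map_smul,
      map_neg, rO_self hu0, f2]
    module
  have := H.finite
  have htop : H.sub {i, j} ≤ Submodule.span F ({u, v} : Set V) := by
    refine (Submodule.eq_of_le_of_finrank_le (Submodule.span_le.2 ?_) ?_).ge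
    · rintro z (rfl | rfl)
      exacts [hu, hv]
    refine (H.finrank_sub _).trans ?_
    rw [Finset.card_pair hij]
    have hli : LinearIndependent F ![u, v] := by
      rw [LinearIndependent.pair_iff]
      intro a b h
      have h1 := congrArg (H.dot u) h
      have h2 := congrArg (H.dot v) h
      simp only [H.dot_add_right, H.dot_smul_right, huv, H.dot_comm v u, H.dot_zero_right, mul_zero, add_zero,
        zero_add, H.dot_self, mul_eq_zero, inv_eq_zero, H.c0, hu0, hv0, or_false, false_or] at h1 h2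
      exact ⟨h1, h2⟩
    have h := finrank_span_eq_card hli
    rw [Matrix.range_cons, Matrix.range_cons, Matrix.range_empty, Set.union_empty, Set.singleton_union] at h
    simp [h]
  intro k
  by_cases hk : k ∈ ({i, j} : Finset ι)
  · rw [if_pos hk]; exact hneg _ (htop (H.e_mem_sub hk))
  · rw [if_neg hk]; exact Supp.mul H (H.rO_supp hu) (H.rO_supp hv) k hk

/-- A monomial product of two reflections cannot use a vector with three coordinates outside the other. -/
theorem no_three {u v : V} (hv0 : Q v ≠ 0) (hm : rO Q v * rO Q u ∈ H.mono) {i j k : ι} (hu : H.co i u = 0)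
    (hij : i ≠ j) (hik : i ≠ k) (hjk : j ≠ k) (hi : H.co i v ≠ 0) (hj : H.co j v ≠ 0) (hk : H.co k v ≠ 0) :
    False := by
  obtain ⟨l, hl⟩ := hm i
  have hfu : (rO Q u : V ≃ₗ[F] V) (e i) = e i := rO_fix (H.polar_of_dot (by rw [H.dot_comm]; exact hu))
  rw [Subgroup.coe_mul, mul_app, hfu] at hl
  have hpol : polar Q v (e i) ≠ 0 := fun h => hi (by rw [co, H.dot_comm]; exact H.dot_of_polar h)
  obtain ⟨a, ha⟩ := Submodule.mem_span_singleton.1 hl
  have hne : ∀ m, i ≠ m → H.co m v ≠ 0 → l = m := by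
    intro m him hm
    by_contra hlm
    have h := congrArg (H.co m) ha
    rw [rO_app, H.co_sub, H.co_smul, H.co_smul, H.co_ne (Ne.symm him), H.co_ne (Ne.symm hlm), mul_zero,
      zero_sub, eq_comm, neg_eq_zero, mul_eq_zero, mul_eq_zero, inv_eq_zero] at h
    rcases h with (h | h) | h
    exacts [hv0 h, hpol h, hm h]
  exact hjk ((hne j hij hj).symm.trans (hne k hik hk))

/-- In that situation the vector has at most two coordinates outside the other. -/
theorem card_supp_le_two {u v : V} (hv0 : Q v ≠ 0) (hm : rO Q v * rO Q u ∈ H.mono) {S : Finset ι}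
    (hu : ∀ i ∈ S, H.co i u = 0) (hS : ∀ i ∈ S, H.co i v ≠ 0) : S.card ≤ 2 := by
  by_contra h
  obtain ⟨i, hi, j, hj, k, hk, hij, hik, hjk⟩ := Finset.two_lt_card.1 (not_le.1 h)
  exact H.no_three hv0 hm (hu i hi) hij hik hjk (hS i hi) (hS j hj) (hS k hk)

theorem isMono_sub {x y : V} (hx : H.Ax x) (hy : H.Ax y) (hQx : Q x = c) (hQy : Q y = c)
    (hxy : H.dot x y = 0) : rO Q (x - y) ∈ H.mono := fun k => by
  obtain ⟨i, hi⟩ := Ax.eq H hx hQx
  obtain ⟨j, hj⟩ := Ax.eq H hy hQy
  have hQ : Q (x - y) ≠ 0 := by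
    rw [qmap_sub, hQx, hQy, H.polar_of_dot hxy, sub_zero, ← two_mul]; exact H.two_c
  have h1 : (rO Q (x - y) : V ≃ₗ[F] V) x = y := rO_sub_swap (hQx.trans hQy.symm) hQ
  have h2 : (rO Q (x - y) : V ≃ₗ[F] V) y = x := by
    have h := congrArg (fun w => (rO Q (x - y) : V ≃ₗ[F] V) w) h1
    rw [← mul_app, ← Subgroup.coe_mul, rO_mul_self] at h
    simpa using h.symm
  rcases eq_or_ne k i with rfl | hki
  · rcases hi with rfl | rfl
    · rw [h1]; exact hy
    · rw [map_neg, neg_eq_iff_eq_neg] at h1; rw [h1]; exact H.ax_neg hy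
  rcases eq_or_ne k j with rfl | hkj
  · rcases hj with rfl | rfl
    · rw [h2]; exact hx
    · rw [map_neg, neg_eq_iff_eq_neg] at h2; rw [h2]; exact H.ax_neg hx
  rw [rO_fix (H.polar_of_dot ?_)]
  · exact H.ax_e k
  rw [H.dot_sub_left]
  have e1 : H.dot x (e k) = 0 := by
    rcases hi with rfl | rfl
    · exact H.co_ne (Ne.symm hki)
    · rw [H.dot_neg_left, neg_eq_zero]; exact H.co_ne (Ne.symm hki)
  have e2 : H.dot y (e k) = 0 := by
    rcases hj with rfl | rfl
    · exact H.co_ne (Ne.symm hkj)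
    · rw [H.dot_neg_left, neg_eq_zero]; exact H.co_ne (Ne.symm hkj)
  rw [e1, e2, sub_zero]

/-- Reflections of the coordinates of `C` correct an isometry permuting them up to sign. -/
theorem exists_fix {W : Subgroup (O Q)} {C : Finset ι} (h1 : ∀ i ∈ C, rO Q (e i) ∈ W)
    (h2 : ∀ i ∈ C, ∀ j ∈ C, i ≠ j → ∀ ε : F, ε * ε = 1 → rO Q (e i - ε • e j) ∈ W) {g : O Q}
    (hg : ∀ i ∈ C, ∃ j ∈ C, (g : V ≃ₗ[F] V) (e i) = e j ∨ (g : V ≃ₗ[F] V) (e i) = -e j) :
    ∃ z ∈ W, ∀ i ∈ C, ((z * g : O Q) : V ≃ₗ[F] V) (e i) = e i := by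
  suffices key : ∀ D : Finset ι, D ⊆ C → ∃ z ∈ W,
      (∀ i ∈ D, ((z * g : O Q) : V ≃ₗ[F] V) (e i) = e i) ∧
      ∀ i ∈ C, ∃ j ∈ C, ((z * g : O Q) : V ≃ₗ[F] V) (e i) = e j ∨ ((z * g : O Q) : V ≃ₗ[F] V) (e i) = -e j by
    obtain ⟨z, hz, h, -⟩ := key C le_rfl
    exact ⟨z, hz, h⟩
  intro D
  induction D using Finset.induction with
  | empty => exact fun _ => ⟨1, W.one_mem, by simp, by simpa using hg⟩
  | insert i D hiD ih =>
    intro hD
    obtain ⟨z, hz, hfix, hperm⟩ := ih ((Finset.subset_insert i D).trans hD)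
    have hiC := hD (Finset.mem_insert_self i D)
    obtain ⟨j, hj, hij⟩ := hperm i hiC
    obtain ⟨ε, hε, hgi⟩ : ∃ ε : F, ε * ε = 1 ∧ ((z * g : O Q) : V ≃ₗ[F] V) (e i) = ε • e j := by
      rcases hij with h | h
      · exact ⟨1, one_mul 1, by rw [h, one_smul]⟩
      · exact ⟨-1, by norm_num, by rw [h, neg_one_smul]⟩
    have hjD : i ≠ j → j ∉ D := fun hne hjD => by
      have h0 : H.dot (((z * g : O Q) : V ≃ₗ[F] V) (e i)) (((z * g : O Q) : V ≃ₗ[F] V) (e j)) = 0 := by
        rw [H.dot_app]; exact H.co_ne hne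
      rw [hgi, hfix j hjD, H.dot_smul_left, H.dot_self_unit (H.val j), mul_one] at h0
      rw [h0, zero_mul] at hε
      exact zero_ne_one hε
    by_cases hdone : ((z * g : O Q) : V ≃ₗ[F] V) (e i) = e i
    · refine ⟨z, hz, fun k hk => ?_, hperm⟩
      rcases Finset.mem_insert.1 hk with rfl | hk
      exacts [hdone, hfix k hk]
    obtain ⟨r, hr, hri, hrD, hrC⟩ : ∃ r ∈ W, (r : V ≃ₗ[F] V) (ε • e j) = e i ∧
        (∀ k ∈ D, (r : V ≃ₗ[F] V) (e k) = e k) ∧
        ∀ k ∈ C, ∃ l ∈ C, (r : V ≃ₗ[F] V) (e k) = e l ∨ (r : V ≃ₗ[F] V) (e k) = -e l := by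
      rcases eq_or_ne i j with rfl | hne
      · refine ⟨_, h1 i hiC, ?_, fun k hk => rO_fix (H.orth i k fun h => hiD (h ▸ hk)), fun k hk => ⟨k, hk, ?_⟩⟩
        · rcases mul_self_eq_one_iff.1 hε with rfl | rfl
          · exact absurd (by rw [hgi, one_smul]) hdone
          · rw [map_smul, rO_self (by rw [H.val]; exact H.c0)]; simp
        · rcases eq_or_ne k i with rfl | hki
          · exact Or.inr (rO_self (by rw [H.val]; exact H.c0))
          · exact Or.inl (rO_fix (H.orth i k (Ne.symm hki)))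
      · refine ⟨_, h2 i hiC j hj hne ε hε, ?_, fun k hk => H.supp_swp k ?_, fun k hk => ?_⟩
        · rw [map_smul, H.rO_swp_right hne hε, smul_smul, hε, one_smul]
        · simp only [Finset.mem_insert, Finset.mem_singleton, not_or]
          exact ⟨fun h => hiD (h ▸ hk), fun h => hjD hne (h ▸ hk)⟩
        · have hpm : ∀ l, ε • e l = e l ∨ ε • e l = -e l := fun l => by
            rcases mul_self_eq_one_iff.1 hε with rfl | rfl
            exacts [Or.inl (one_smul _ _), Or.inr (neg_one_smul _ _)]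
          rcases eq_or_ne k i with rfl | hki
          · exact ⟨j, hj, by rw [H.rO_swp_left hne hε]; exact hpm j⟩
          rcases eq_or_ne k j with rfl | hkj
          · exact ⟨i, hiC, by rw [H.rO_swp_right hne hε]; exact hpm i⟩
          · exact ⟨k, hk, Or.inl (H.supp_swp k (by simp [hki, hkj]))⟩
    have happ : ∀ v, ((r * z * g : O Q) : V ≃ₗ[F] V) v = (r : V ≃ₗ[F] V) (((z * g : O Q) : V ≃ₗ[F] V) v) :=
      fun v => by rw [mul_assoc, Subgroup.coe_mul, mul_app]
    refine ⟨r * z, W.mul_mem hr hz, fun k hk => ?_, fun k hk => ?_⟩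
    · rw [happ]
      rcases Finset.mem_insert.1 hk with rfl | hk
      · rw [hgi, hri]
      · rw [hfix k hk, hrD k hk]
    · rw [happ]
      obtain ⟨l, hl, hl' | hl'⟩ := hperm k hk <;> obtain ⟨m, hm, hm' | hm'⟩ := hrC l hl <;>
        rw [hl'] <;> refine ⟨m, hm, ?_⟩
      · exact Or.inl hm'
      · exact Or.inr hm'
      · rw [map_neg, hm']; exact Or.inr rfl
      · rw [map_neg, hm', neg_neg]; exact Or.inl rfl

theorem mono_le {W : Subgroup (O Q)} (h1 : ∀ i, rO Q (e i) ∈ W)
    (h2 : ∀ i j, i ≠ j → ∀ ε : F, ε * ε = 1 → rO Q (e i - ε • e j) ∈ W) : H.mono ≤ W := by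
  intro g hg
  obtain ⟨z, hz, h⟩ := H.exists_fix (W := W) (C := Finset.univ) (fun i _ => h1 i)
    (fun i _ j _ => h2 i j) (g := g) fun i _ => by
      obtain ⟨j, hj⟩ := Ax.eq H (hg i) (by rw [O.map_app, H.val])
      exact ⟨j, Finset.mem_univ j, hj⟩
  have : z * g = 1 := H.ext_e fun i => by rw [h i (Finset.mem_univ i)]; simp
  rw [← inv_eq_of_mul_eq_one_right this]
  exact W.inv_mem hz

/-- Monomial isometries are corrected into Ω on any two coordinates. -/
theorem adjust {z : O Q} (hz : z ∈ H.mono) {a b : ι} (hab : a ≠ b) :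
    ∃ k ∈ H.mono, H.Supp k {a, b} ∧ z * k ∈ commutator (O Q) := by
  have := H.finite
  set K : Subgroup (O Q) := H.mono ⊓ H.suppG {a, b} with hK
  have hnorm : (commutator (O Q)).Normal := inferInstance
  have hmem : ∀ {x r : O Q}, x ∈ commutator (O Q) → r ∈ K → x * r ∈ commutator (O Q) ⊔ K := fun hx hr =>
    Subgroup.mul_mem_sup hx hr
  have hle : H.mono ≤ commutator (O Q) ⊔ K := by
    refine H.mono_le (fun i => ?_) fun i j hij ε hε => ?_
    · have h := H98.OrthMax.rO_mul_mem H.nondeg (a := e i) (c := e a) (by rw [H.val]; exact H.c0)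
        (by rw [H.val, H.val])
      have := hmem h (r := rO Q (e a)) ⟨H.isMono_rO a, Supp.anti H H.supp_rO (by simp)⟩
      rwa [mul_assoc, rO_mul_self, mul_one] at this
    · have h := H98.OrthMax.rO_mul_mem H.nondeg (a := e i - ε • e j) (c := e a - (1 : F) • e b)
        (by rw [H.qmap_swp hij hε]; exact H.two_c) (by rw [H.qmap_swp hij hε, H.qmap_swp hab (one_mul 1)])
      have := hmem h (r := rO Q (e a - (1 : F) • e b)) ⟨H.isMono_swp hab (one_mul 1), H.supp_swp⟩
      rwa [mul_assoc, rO_mul_self, mul_one] at this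
  obtain ⟨x, hx, k, hk, hxk⟩ := Subgroup.mem_sup_of_normal_left.1 (hle hz)
  exact ⟨k⁻¹, (K.inv_mem hk).1, (K.inv_mem hk).2, by rw [← hxk, mul_inv_cancel_right]; exact hx⟩

/-- Every permutation of the frame is realised. -/
theorem exists_perm_mono (π : Equiv.Perm ι) : ∃ z ∈ H.mono, ∀ i, (z : V ≃ₗ[F] V) (e i) = e (π i) := by
  induction π using Equiv.Perm.swap_induction_on with
  | one => exact ⟨1, H.mono.one_mem, fun i => by simp⟩
  | swap_mul f x y hxy ih =>
    obtain ⟨z, hz, hz'⟩ := ih
    refine ⟨rO Q (e x - (1 : F) • e y) * z, H.mono.mul_mem (H.isMono_swp hxy (one_mul 1)) hz, fun i => ?_⟩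
    rw [Subgroup.coe_mul, mul_app, hz' i, Equiv.Perm.mul_apply]
    rcases eq_or_ne (f i) x with h | h
    · rw [h, H.rO_swp_left hxy (one_mul 1), Equiv.swap_apply_left, one_smul]
    rcases eq_or_ne (f i) y with h' | h'
    · rw [h', H.rO_swp_right hxy (one_mul 1), Equiv.swap_apply_right, one_smul]
    · rw [Equiv.swap_apply_of_ne_of_ne h h', H.supp_swp _ (by simp [h, h'])]

/-- A monomial element of order three with a two dimensional moved space is a three-cycle. -/
theorem exists_triple {t : O Q} (ht : t ∈ H.mono) (h3 : t ^ 3 = 1) (hne : t ≠ 1) {m₁ m₂ : V}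
    (hmov : ∀ v, v - (t : V ≃ₗ[F] V) v ∈ Submodule.span F ({m₁, m₂} : Set V)) :
    ∃ T : Finset ι, T.card = 3 ∧ (∀ v, v - (t : V ≃ₗ[F] V) v ∈ H.sub T) ∧ (∀ i ∈ T, (t : V ≃ₗ[F] V) (e i) ≠ e i) ∧
      (∀ w, (t : V ≃ₗ[F] V) w = w → ∀ i ∈ T, ∀ j ∈ T, H.co i w * H.co i w = H.co j w * H.co j w) ∧
      ∀ u, (∀ w, (t : V ≃ₗ[F] V) w = w → H.dot w u = 0) → u ∈ H.sub T → ∀ i ∈ T, H.co i u = 0 →
        ∀ j ∈ T, ∀ k ∈ T, j ≠ i → k ≠ i → H.co j u * H.co j u = H.co k u * H.co k u := by
  have := H.finite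
  obtain ⟨σ, hσ⟩ := IsMono.exists_perm H ht
  have hsig : ∀ i, ∃ ε : F, ε * ε = 1 ∧ (t : V ≃ₗ[F] V) (e i) = ε • e (σ i) := fun i => by
    rcases hσ i with h | h
    · exact ⟨1, one_mul 1, by rw [h, one_smul]⟩
    · exact ⟨-1, by norm_num, by rw [h, neg_one_smul]⟩
  choose ε hε hεσ using hsig
  have ht3 : ∀ v, (t : V ≃ₗ[F] V) ((t : V ≃ₗ[F] V) ((t : V ≃ₗ[F] V) v)) = v := fun v => by
    rw [← mul_app, ← mul_app, ← Subgroup.coe_mul, ← Subgroup.coe_mul,
      show t * t * t = 1 by rw [← h3, pow_succ, pow_two]]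
    rfl
  have key : ∀ i, σ (σ (σ i)) = i ∧ ε i * ε (σ i) * ε (σ (σ i)) = 1 := by
    intro i
    have h := ht3 (e i)
    rw [hεσ, map_smul, hεσ, map_smul, map_smul, hεσ, smul_smul, smul_smul] at h
    have h' := congrArg (H.co i) h
    rw [H.co_smul, H.co_self] at h'
    rcases eq_or_ne (σ (σ (σ i))) i with e1 | e1
    · rw [e1, H.co_self, mul_one] at h'; exact ⟨e1, h'⟩
    · rw [H.co_ne (Ne.symm e1), mul_zero] at h'; exact absurd h' zero_ne_one
  have hfixed : ∀ i, σ i = i → (t : V ≃ₗ[F] V) (e i) = e i := by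
    intro i hi
    have h := (key i).2
    rw [hi, hi, hε i, one_mul] at h
    rw [hεσ, hi, h, one_smul]
  obtain ⟨i, hi⟩ : ∃ i, σ i ≠ i := by
    by_contra! hcon
    exact hne (H.ext_e fun i => by rw [hfixed i (hcon i)]; simp)
  set j := σ i with hj
  set k := σ j with hk
  have hki : σ k = i := (key i).1
  have hij : i ≠ j := Ne.symm hi
  have hjk : j ≠ k := fun h => hij (σ.injective h)
  have hik : i ≠ k := fun h => hjk (by
    have h' := congrArg σ h
    rw [hki, ← hj] at h'
    exact h'.trans h)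
  have hout : ∀ l, l ≠ i → l ≠ j → l ≠ k → σ l = l := by
    intro l hli hlj hlk
    by_contra hl
    have hsl : σ l ≠ i ∧ σ l ≠ j ∧ σ l ≠ k :=
      ⟨fun h => hlk (σ.injective (h.trans hki.symm)), fun h => hli (σ.injective h), fun h => hlj (σ.injective h)⟩
    have hcoe : ∀ x y, H.co y (e x - (t : V ≃ₗ[F] V) (e x)) =
        (if y = x then 1 else 0) - (if y = σ x then ε x else 0) := by
      intro x y
      rw [H.co_sub, hεσ, H.co_smul, H.co_e, H.co_e]
      split_ifs <;> simp
    have hli' : LinearIndependent F ![e i - (t : V ≃ₗ[F] V) (e i), e j - (t : V ≃ₗ[F] V) (e j),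
        e l - (t : V ≃ₗ[F] V) (e l)] := by
      rw [Fintype.linearIndependent_iff]
      intro g hg
      have h1 := congrArg (H.co i) hg
      have h2 := congrArg (H.co l) hg
      have h4 := congrArg (H.co k) hg
      simp only [Fin.sum_univ_three, Matrix.cons_val_zero, Matrix.cons_val_one, Matrix.cons_val, H.co_add,
        H.co_smul, hcoe, H.co_zero, ← hj, ← hk] at h1 h2 h4
      simp [hij, hik, hik.symm, hjk.symm, hli, hlj, hlk, hli.symm, hlk.symm, hsl.1.symm, hsl.2.2.symm,
        Ne.symm hl] at h1 h2 h4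
      intro m
      fin_cases m
      · exact h1
      · have hεj : ε j ≠ 0 := fun h0 => by
          have := hε j; rw [h0, zero_mul] at this; exact zero_ne_one this
        simpa [hεj] using h4
      · exact h2
    have hle : Submodule.span F (Set.range ![e i - (t : V ≃ₗ[F] V) (e i), e j - (t : V ≃ₗ[F] V) (e j),
        e l - (t : V ≃ₗ[F] V) (e l)]) ≤ Submodule.span F ({m₁, m₂} : Set V) := by
      rw [Submodule.span_le]
      rintro _ ⟨m, rfl⟩
      fin_cases m <;> exact hmov _
    have hcard := Submodule.finrank_mono hle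
    rw [finrank_span_eq_card hli', Fintype.card_fin] at hcard
    classical
    have h2 : finrank F (Submodule.span F ({m₁, m₂} : Set V)) ≤ 2 := by
      refine (finrank_span_le_card ({m₁, m₂} : Set V)).trans ?_
      simpa using Finset.card_le_two
    omega
  refine ⟨{i, j, k}, by simp [hij, hik, hjk], fun v l hl => ?_, fun l hl h => ?_, fun w hw => ?_, ?_⟩
  · simp only [Finset.mem_insert, Finset.mem_singleton, not_or] at hl
    rw [H.co_sub]
    conv_lhs => arg 2; rw [co, ← hfixed l (hout l hl.1 hl.2.1 hl.2.2), H.dot_app]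
    exact sub_self _
  · have h' := congrArg (H.co l) h
    rw [hεσ, H.co_smul, H.co_self] at h'
    have hsl : σ l ≠ l := by
      simp only [Finset.mem_insert, Finset.mem_singleton] at hl
      rcases hl with rfl | rfl | rfl
      · exact hi
      · exact hjk.symm
      · rw [hki]; exact hik
    rw [H.co_ne (Ne.symm hsl), mul_zero] at h'
    exact zero_ne_one h'
  · have hstep : ∀ x, H.co (σ x) w * H.co (σ x) w = H.co x w * H.co x w := by
      intro x
      have h := H.dot_app t (e x) w
      rw [hw, hεσ, H.dot_smul_left] at h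
      rw [co, co, ← h]
      linear_combination (-(H.dot (e (σ x)) w * H.dot (e (σ x)) w)) * hε x
    have e1 := hstep i
    have e2 := hstep j
    rw [← hj] at e1
    rw [← hk] at e2
    intro a ha b hb
    simp only [Finset.mem_insert, Finset.mem_singleton] at ha hb
    rcases ha with rfl | rfl | rfl <;> rcases hb with rfl | rfl | rfl <;>
      first
        | rfl
        | linear_combination e1
        | linear_combination -e1
        | linear_combination e2
        | linear_combination -e2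
        | linear_combination e1 + e2
        | linear_combination -e1 - e2
  · intro u hu hT a ha ha0 x hx y hy hxa hya
    have hw : (t : V ≃ₗ[F] V) (e i + ε i • e j + (ε i * ε j) • e k) = e i + ε i • e j + (ε i * ε j) • e k := by
      rw [map_add, map_add, map_smul, map_smul, hεσ, hεσ, hεσ, ← hj, ← hk, hki, smul_smul, smul_smul,
        show ε i * ε j * ε k = 1 from (key i).2, one_smul]
      abel
    have h := hu _ hw
    rw [H.dot_add_left, H.dot_add_left, H.dot_smul_left, H.dot_smul_left] at h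
    change H.co i u + ε i * H.co j u + ε i * ε j * H.co k u = 0 at h
    simp only [Finset.mem_insert, Finset.mem_singleton] at ha hx hy
    have hi' := hε i
    have hj' := hε j
    have f1 : H.co i u = 0 → H.co j u * H.co j u = H.co k u * H.co k u := fun h0 => by
      rw [h0] at h
      have e1 : H.co j u = -(ε j * H.co k u) := by
        linear_combination ε i * h - (H.co j u + ε j * H.co k u) * hi'
      rw [e1]; linear_combination (H.co k u * H.co k u) * hj'
    have f2 : H.co j u = 0 → H.co i u * H.co i u = H.co k u * H.co k u := fun h0 => by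
      rw [h0] at h
      have e1 : H.co i u = -(ε i * ε j * H.co k u) := by linear_combination h
      rw [e1]; linear_combination (H.co k u * H.co k u) * (ε j * ε j * hi' + hj')
    have f3 : H.co k u = 0 → H.co i u * H.co i u = H.co j u * H.co j u := fun h0 => by
      rw [h0] at h
      have e1 : H.co i u = -(ε i * H.co j u) := by linear_combination h
      rw [e1]; linear_combination (H.co j u * H.co j u) * hi'
    rcases ha with rfl | rfl | rfl <;> rcases hx with rfl | rfl | rfl <;> rcases hy with rfl | rfl | rfl <;>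
      first
        | exact absurd rfl hxa
        | exact absurd rfl hya
        | rfl
        | exact f1 ha0
        | exact (f1 ha0).symm
        | exact f2 ha0
        | exact (f2 ha0).symm
        | exact f3 ha0
        | exact (f3 ha0).symm

end ONB

end Cfsg.Agent.H97.Frame
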