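import Cfsg.Agent.H97.Frame.Main
import Cfsg.Agent.H98.OrthMax.Roots

/-!
Maximality of the stabiliser of a frame of orthogonal isometric lines in Ω over a prime field.
-/

set_option autoImplicit false

namespace Cfsg.Agent.H97.Frame

open QuadraticMap Module Cfsg.Agent.Orthogonal

variable {F : Type*} [Field F] [Fintype F] {ι : Type} [Fintype ι] [DecidableEq ι]
  {Q : QuadraticForm F (ι → F)} {t : ℕ} {D : Fin t → Submodule F (ι → F)}

omit [Fintype F] [Fintype ι] [DecidableEq ι] in
/-- Basis vectors of equal norm in the lines. -/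
theorem exists_onb (h2 : (2 : F) ≠ 0) (hD : Cfsg.Geo.IsOrthogonalMDecomposition (⇑Q) 1 D) :
    ∃ (e : Fin t → ι → F) (c : F), ONB Q e c ∧ ∀ i, D i = Submodule.span F {e i} := by
  have hM := hD.decomp.decomp
  set i₀ : Fin t := ⟨0, by have := hM.two_le; omega⟩
  obtain ⟨v, hv, hv0⟩ := (Submodule.ne_bot_iff (D i₀)).1 fun h => by
    have := hM.finrank_eq i₀
    rw [h, finrank_bot] at this
    exact zero_ne_one this
  choose f hf using fun i => hD.isometric i₀ i
  have hspan : ∀ i, D i = Submodule.span F {((f i ⟨v, hv⟩ : D i) : ι → F)} := by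
    intro i
    have hne : ((f i ⟨v, hv⟩ : D i) : ι → F) ≠ 0 := fun h => hv0 (by
      have h' : f i ⟨v, hv⟩ = 0 := Subtype.ext h
      rw [LinearEquiv.map_eq_zero_iff] at h'
      exact congrArg Subtype.val h')
    have : FiniteDimensional F (D i) := Module.finite_of_finrank_eq_succ (hM.finrank_eq i)
    exact (Submodule.eq_of_le_of_finrank_le ((Submodule.span_singleton_le_iff_mem _ _).2 (f i ⟨v, hv⟩).2)
      (by rw [hM.finrank_eq, finrank_span_singleton hne])).symm
  have hQv : Q v ≠ 0 := fun h0 => by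
    obtain ⟨x, hx, hxv⟩ := (hD.decomp.nondegenerate i₀ v hv hv0).1
    have : FiniteDimensional F (D i₀) := Module.finite_of_finrank_eq_succ (hM.finrank_eq i₀)
    have hle : Submodule.span F {v} ≤ D i₀ := (Submodule.span_singleton_le_iff_mem _ _).2 hv
    rw [← Submodule.eq_of_le_of_finrank_le hle (by rw [hM.finrank_eq, finrank_span_singleton hv0])] at hx
    obtain ⟨a, rfl⟩ := Submodule.mem_span_singleton.1 hx
    apply hxv
    rw [polar_smul_left', polar_self', h0]
    ring
  refine ⟨fun i => ((f i ⟨v, hv⟩ : D i) : ι → F), Q v, ⟨h2, hQv, fun i => hf i _, fun i j hij =>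
    hD.decomp.orthogonal i j hij _ (f i ⟨v, hv⟩).2 _ (f j ⟨v, hv⟩).2, ?_⟩, hspan⟩
  rw [eq_top_iff, ← hM.iSup_eq_top, iSup_le_iff]
  exact fun i => (hspan i).le.trans (Submodule.span_mono (by simpa using ⟨i, rfl⟩))

variable {e : Fin t → ι → F} {c : F} {H : ONB Q e c}

/-- The stabiliser of the lines is the monomial group. -/
theorem mem_stabilizer_iff (hspan : ∀ i, D i = Submodule.span F {e i}) (x : O Q) :
    H96.om Q x ∈ Cfsg.Geo.decompositionStabilizer D ↔ x ∈ H.mono := by
  constructor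
  · rintro ⟨τ, hτ⟩ i
    refine ⟨τ i, ?_⟩
    rw [← hspan, ← hτ i, H96.om_toLin']
    exact Submodule.mem_map_of_mem (by rw [hspan]; exact Submodule.mem_span_singleton_self _)
  · intro hx
    obtain ⟨σ, hσ⟩ := ONB.IsMono.exists_perm H hx
    refine ⟨σ, fun i => ?_⟩
    rw [H96.om_toLin', hspan, hspan, Submodule.map_span, Set.image_singleton, LinearEquiv.coe_coe]
    rcases hσ i with h | h
    · rw [h]
    · rw [h, ← Set.neg_singleton, Submodule.span_neg]

omit [DecidableEq ι] in
/-- Some Eichler transformation is not monomial. -/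
theorem exists_sie_not_mono (hprime : (Fintype.card F).Prime) (hodd : Odd (Fintype.card F)) (hn : 7 ≤ t) :
    ∃ x ∈ sieGroup Q, x ∉ H.mono := by
  classical
  by_contra! hle
  obtain ⟨a, b, hab⟩ := FiniteField.exists_root_sum_quadratic (R := F)
    (f := (Polynomial.X : Polynomial F) ^ 2) (g := Polynomial.X ^ 2 + Polynomial.C 1) (by simp)
    (by compute_degree!) (Nat.odd_iff.1 hodd)
  simp at hab
  let idx : Fin 7 → Fin t := Fin.castLE hn
  have hne : ∀ {k l : Fin 7}, k ≠ l → idx k ≠ idx l := fun h h' => h (Fin.castLE_injective hn h')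
  have hd : ∀ {k l : Fin 7}, k ≠ l → H.dot (e (idx k)) (e (idx l)) = 0 := fun h => H.co_ne (hne h)
  set u := a • e (idx 0) + b • e (idx 1) + e (idx 2) with hu
  set u' := a • e (idx 0) + b • e (idx 1) + e (idx 2) + (a • e (idx 3) + b • e (idx 4) + e (idx 5)) with hu'
  have hQ : ∀ {z : ι → F}, H.dot z z = 0 → Q z = 0 := fun {z} h => by
    rw [H.dot_self, mul_eq_zero] at h; exact h.resolve_left (inv_ne_zero H.c0)
  have e01 := hd (k := 0) (l := 1) (by decide)
  have hQu : Q u = 0 := hQ (by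
    simp only [hu, H.dot_add_left, H.dot_add_right, H.dot_smul_left, H.dot_smul_right, H.dot_self_unit (H.val _),
      hd (k := 0) (l := 1) (by decide), hd (k := 1) (l := 0) (by decide), hd (k := 0) (l := 2) (by decide),
      hd (k := 2) (l := 0) (by decide), hd (k := 1) (l := 2) (by decide), hd (k := 2) (l := 1) (by decide)]
    linear_combination hab)
  have hQw : Q (a • e (idx 3) + b • e (idx 4) + e (idx 5)) = 0 := hQ (by
    simp only [H.dot_add_left, H.dot_add_right, H.dot_smul_left, H.dot_smul_right, H.dot_self_unit (H.val _),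
      hd (k := 3) (l := 4) (by decide), hd (k := 4) (l := 3) (by decide), hd (k := 3) (l := 5) (by decide),
      hd (k := 5) (l := 3) (by decide), hd (k := 4) (l := 5) (by decide), hd (k := 5) (l := 4) (by decide)]
    linear_combination hab)
  have huw : H.dot u (a • e (idx 3) + b • e (idx 4) + e (idx 5)) = 0 :=
    H.dot_eq_zero_of_disjoint (B := {idx 0, idx 1, idx 2}) (C := {idx 3, idx 4, idx 5})
      (by simp [idx, Fin.ext_iff])
      (add_mem (add_mem (Submodule.smul_mem _ _ (H.e_mem_sub (by simp)))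
        (Submodule.smul_mem _ _ (H.e_mem_sub (by simp)))) (H.e_mem_sub (by simp)))
      (add_mem (add_mem (Submodule.smul_mem _ _ (H.e_mem_sub (by simp)))
        (Submodule.smul_mem _ _ (H.e_mem_sub (by simp)))) (H.e_mem_sub (by simp)))
  have hQu' : Q u' = 0 := by
    rw [hu', ← hu, map_add_polar, hQu, hQw, H.polar_of_dot huw]
    ring
  have hu0 : u ≠ 0 := fun h => by
    have := congrArg (H.co (idx 2)) h
    simp [hu, H.co_add, H.co_smul, H.co_e, idx, Fin.ext_iff, H.co_zero] at this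
  have hu0' : u' ≠ 0 := fun h => by
    have := congrArg (H.co (idx 2)) h
    simp [hu', H.co_add, H.co_smul, H.co_e, idx, Fin.ext_iff, H.co_zero] at this
  obtain ⟨g, hg, s, hs, hgu⟩ := exists_sie_point H.nondeg (by rw [H.finrank_eq, Fintype.card_fin]; omega)
    hu0 hu0' hQu hQu'
  obtain ⟨σ, hσ⟩ := ONB.IsMono.exists_perm H (hle g hg)
  have hmap : ∀ k, (g : (ι → F) ≃ₗ[F] (ι → F)) (e k) ∈ H.sub {σ k} := fun k => by
    rcases hσ k with h | h <;> rw [h]
    · exact H.e_mem_sub (by simp)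
    · exact neg_mem (H.e_mem_sub (by simp))
  have hgs : (g : (ι → F) ≃ₗ[F] (ι → F)) u ∈ H.sub {σ (idx 0), σ (idx 1), σ (idx 2)} := by
    simp only [hu, map_add, map_smul]
    exact add_mem (add_mem (Submodule.smul_mem _ _ (H.sub_mono (by simp) (hmap _)))
      (Submodule.smul_mem _ _ (H.sub_mono (by simp) (hmap _)))) (H.sub_mono (by simp) (hmap _))
  rw [hgu] at hgs
  have hsupp : ∀ k, H.co k u' ≠ 0 → k ∈ ({σ (idx 0), σ (idx 1), σ (idx 2)} : Finset (Fin t)) := fun k hk => by
    by_contra h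
    have := hgs k h
    rw [H.co_smul, mul_eq_zero] at this
    exact hk (this.resolve_left hs)
  have hab0 : a ≠ 0 ∨ b ≠ 0 := by
    by_contra! h
    rw [h.1, h.2] at hab
    simp at hab
  obtain ⟨x, hx0, hxS⟩ : ∃ x : Fin t × Fin t, x.1 ≠ x.2 ∧
      ({idx 2, idx 5, x.1, x.2} : Finset (Fin t)).card = 4 ∧ H.co x.1 u' ≠ 0 ∧ H.co x.2 u' ≠ 0 := by
    rcases hab0 with h | h
    · refine ⟨(idx 0, idx 3), hne (by decide), ?_, ?_, ?_⟩
      · simp [idx, Fin.ext_iff]
      · simp [hu', H.co_add, H.co_smul, H.co_e, idx, Fin.ext_iff, h]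
      · simp [hu', H.co_add, H.co_smul, H.co_e, idx, Fin.ext_iff, h]
    · refine ⟨(idx 1, idx 4), hne (by decide), ?_, ?_, ?_⟩
      · simp [idx, Fin.ext_iff]
      · simp [hu', H.co_add, H.co_smul, H.co_e, idx, Fin.ext_iff, h]
      · simp [hu', H.co_add, H.co_smul, H.co_e, idx, Fin.ext_iff, h]
  obtain ⟨hc4, h1, h2⟩ := hxS
  have hsub : ({idx 2, idx 5, x.1, x.2} : Finset (Fin t)) ⊆ {σ (idx 0), σ (idx 1), σ (idx 2)} := by
    intro k hk
    simp only [Finset.mem_insert, Finset.mem_singleton] at hk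
    rcases hk with rfl | rfl | rfl | rfl
    · exact hsupp _ (by simp [hu', H.co_add, H.co_smul, H.co_e, idx, Fin.ext_iff])
    · exact hsupp _ (by simp [hu', H.co_add, H.co_smul, H.co_e, idx, Fin.ext_iff])
    · exact hsupp _ h1
    · exact hsupp _ h2
  have := (Finset.card_le_card hsub).trans Finset.card_le_three
  omega

/-- The stabiliser in Ω of orthogonal isometric lines over a field of odd prime order is maximal, for seven or at
least nine lines. -/
theorem isMaximalIn_frame (hprime : (Fintype.card F).Prime) (hodd : Odd (Fintype.card F))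
    (hn : t = 7 ∨ 9 ≤ t) (hD : Cfsg.Geo.IsOrthogonalMDecomposition (⇑Q) 1 D) :
    Cfsg.Geo.IsMaximalIn (Cfsg.Geo.omegaGL ⇑Q) (Cfsg.Geo.decompositionStabilizer D ⊓ Cfsg.Geo.omegaGL ⇑Q) := by
  have h2 : (2 : F) ≠ 0 := fun h => by
    have : CharP F 2 := CharTwo.of_one_ne_zero_of_two_eq_zero one_ne_zero h
    have := FiniteField.even_card_iff_char_two.1 (ringChar.eq F 2)
    rw [Nat.odd_iff] at hodd
    omega
  obtain ⟨e, c, H, hspan⟩ := exists_onb h2 hD
  have hfin : finrank F (ι → F) = t := by rw [H.finrank_eq, Fintype.card_fin]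
  refine H98.OrthMax.isMaximalIn_omega H.nondeg (by omega) _ ?_ fun X hXS hX' => ?_
  · obtain ⟨x, hx, hxm⟩ := exists_sie_not_mono (H := H) hprime hodd (by omega)
    exact ⟨x, sieGroup_eq_commutator H.nondeg (by omega) ▸ hx, fun h => hxm ((mem_stabilizer_iff hspan x).1 h)⟩
  · have hX : Over H X := ⟨fun g hg hgc => hXS g hgc ((mem_stabilizer_iff hspan g).2 hg)⟩
    by_contra hns
    obtain ⟨g, hg, hgS⟩ := hX'
    exact hgS ((mem_stabilizer_iff hspan g).2
      (hX.le_mono hprime (by rw [Fintype.card_fin]; omega) hns hg))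

end Cfsg.Agent.H97.Frame
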