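import Cfsg.Agent.H98.SubfieldOrth.Two
import Cfsg.Agent.H98.SubfieldOrth.Invol
import Cfsg.Agent.H98.OrthMax.Roots

/-!
Orthogonal frames of lines of equal norm: coordinates, monomial isometries and elementary monomial elements of Ω.
-/

set_option autoImplicit false

namespace Cfsg.Agent.H97.Frame

open QuadraticMap Module Cfsg.Agent.Orthogonal
open Cfsg.Agent.H98.SubfieldOrth (mov mem_mov mov_le)

variable {F V ι : Type*} [Field F] [AddCommGroup V] [Module F V]

/-- An orthogonal basis of vectors of equal nonzero norm. -/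
structure ONB (Q : QuadraticForm F V) (e : ι → V) (c : F) : Prop where
  two : (2 : F) ≠ 0
  c0 : c ≠ 0
  val : ∀ i, Q (e i) = c
  orth : ∀ i j, i ≠ j → polar Q (e i) (e j) = 0
  top : Submodule.span F (Set.range e) = ⊤

variable {Q : QuadraticForm F V} {e : ι → V} {c : F}

namespace ONB

variable (H : ONB Q e c)
include H

theorem two_c : 2 * c ≠ 0 := mul_ne_zero H.two H.c0

omit H in
/-- The normalised inner product. -/
def dot (_H : ONB Q e c) (u v : V) : F := (2 * c)⁻¹ * polar Q u v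

omit H in
/-- The coordinates. -/
def co (H : ONB Q e c) (i : ι) (v : V) : F := H.dot (e i) v

theorem dot_comm (u v : V) : H.dot u v = H.dot v u := by rw [dot, dot, polar_comm]

theorem dot_add_right (u v w : V) : H.dot u (v + w) = H.dot u v + H.dot u w := by
  rw [dot, dot, dot, polar_add_right, mul_add]

theorem dot_smul_right (u v : V) (a : F) : H.dot u (a • v) = a * H.dot u v := by
  rw [dot, dot, polar_smul_right']; ring

theorem dot_add_left (u v w : V) : H.dot (u + v) w = H.dot u w + H.dot v w := by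
  rw [dot, dot, dot, polar_add_left, mul_add]

theorem dot_smul_left (u v : V) (a : F) : H.dot (a • u) v = a * H.dot u v := by
  rw [dot, dot, polar_smul_left']; ring

theorem dot_zero_right (u : V) : H.dot u 0 = 0 := by
  rw [← zero_smul F (0 : V), H.dot_smul_right, zero_mul]

theorem dot_neg_right (u v : V) : H.dot u (-v) = -H.dot u v := by
  rw [← neg_one_smul F v, H.dot_smul_right, neg_one_mul]

theorem dot_sub_right (u v w : V) : H.dot u (v - w) = H.dot u v - H.dot u w := by
  rw [sub_eq_add_neg, H.dot_add_right, H.dot_neg_right, sub_eq_add_neg]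

theorem dot_neg_left (u v : V) : H.dot (-u) v = -H.dot u v := by
  rw [← neg_one_smul F u, H.dot_smul_left, neg_one_mul]

theorem dot_sub_left (u v w : V) : H.dot (u - v) w = H.dot u w - H.dot v w := by
  rw [sub_eq_add_neg, H.dot_add_left, H.dot_neg_left, sub_eq_add_neg]

theorem dot_app (g : O Q) (u v : V) : H.dot ((g : V ≃ₗ[F] V) u) ((g : V ≃ₗ[F] V) v) = H.dot u v := by
  rw [dot, dot, O.polar_app]

theorem dot_self (u : V) : H.dot u u = c⁻¹ * Q u := by
  rw [dot, polar_self']
  field_simp [H.two, H.c0]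

theorem dot_self_unit {u : V} (hu : Q u = c) : H.dot u u = 1 := by
  rw [H.dot_self, hu, inv_mul_cancel₀ H.c0]

theorem co_add (i : ι) (v w : V) : H.co i (v + w) = H.co i v + H.co i w := H.dot_add_right _ _ _

theorem co_sub (i : ι) (v w : V) : H.co i (v - w) = H.co i v - H.co i w := H.dot_sub_right _ _ _

theorem co_neg (i : ι) (v : V) : H.co i (-v) = -H.co i v := H.dot_neg_right _ _

theorem co_smul (i : ι) (v : V) (a : F) : H.co i (a • v) = a * H.co i v := H.dot_smul_right _ _ _

theorem co_zero (i : ι) : H.co i (0 : V) = 0 := H.dot_zero_right _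

theorem co_self (i : ι) : H.co i (e i) = 1 := H.dot_self_unit (H.val i)

theorem co_ne {i j : ι} (h : i ≠ j) : H.co i (e j) = 0 := by rw [co, dot, H.orth i j h, mul_zero]

theorem co_e [DecidableEq ι] (i j : ι) : H.co i (e j) = if i = j then 1 else 0 := by
  split_ifs with h
  · rw [h, H.co_self]
  · exact H.co_ne h

theorem e_ne_zero (i : ι) : e i ≠ 0 := fun h => H.c0 (by rw [← H.val i, h, QuadraticMap.map_zero])

theorem ext_co {v w : V} [Fintype ι] (h : ∀ i, H.co i v = H.co i w) : v = w := by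
  classical
  have hsum : ∀ v : V, v = ∑ i, H.co i v • e i := by
    intro v
    have hv : v ∈ Submodule.span F (Set.range e) := H.top ▸ Submodule.mem_top
    induction hv using Submodule.span_induction with
    | mem x hx =>
      obtain ⟨j, rfl⟩ := hx
      rw [Finset.sum_eq_single j (fun i _ hij => by rw [H.co_ne hij, zero_smul]) (by simp), H.co_self, one_smul]
    | zero => simp [H.co_zero]
    | add x y _ _ hx hy =>
      simp only [H.co_add, add_smul, Finset.sum_add_distrib]
      rw [← hx, ← hy]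
    | smul a x _ hx =>
      simp only [H.co_smul, ← smul_smul, ← Finset.smul_sum]
      rw [← hx]
  rw [hsum v, hsum w]
  simp only [h]

theorem eq_sum [Fintype ι] (v : V) : v = ∑ i, H.co i v • e i := by
  classical
  refine H.ext_co fun j => ?_
  have : H.co j (∑ i, H.co i v • e i) = ∑ i, H.co i v * H.co j (e i) := by
    rw [co, dot, ← polarBilin_apply' Q, map_sum, Finset.mul_sum]
    exact Finset.sum_congr rfl fun i _ => by
      rw [polarBilin_apply', polar_smul_right']; simp [co, dot]; ring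
  rw [this, Finset.sum_eq_single j (fun i _ hij => by rw [H.co_ne hij.symm, mul_zero]) (by simp),
    H.co_self, mul_one]

theorem dot_eq_sum [Fintype ι] (u v : V) : H.dot u v = ∑ i, H.co i u * H.co i v := by
  conv_lhs => rw [H.eq_sum v]
  rw [dot, ← polarBilin_apply' Q, map_sum, Finset.mul_sum]
  refine Finset.sum_congr rfl fun i _ => ?_
  simp only [polarBilin_apply', polar_smul_right', co, dot]
  rw [polar_comm (⇑Q) (e i) u]
  ring

theorem nondeg [Fintype ι] : Nondeg Q := fun x hx => H.ext_co fun i => by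
  rw [H.co_zero, co, H.dot_comm, dot, hx, mul_zero]

theorem linearIndependent : LinearIndependent F e := by
  rw [linearIndependent_iff']
  intro s a h i hi
  have h' := congrArg (fun x => polar Q (e i) x) h
  simp only [polar_zero_right] at h'
  rw [← polarBilin_apply' Q, map_sum, Finset.sum_eq_single i
    (fun j _ hj => by rw [polarBilin_apply', polar_smul_right', H.orth i j hj.symm, mul_zero])
    (fun hn => absurd hi hn), polarBilin_apply', polar_smul_right', polar_self', H.val] at h'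
  exact (mul_eq_zero.1 h').resolve_right H.two_c

theorem finite [Fintype ι] : FiniteDimensional F V :=
  Module.Finite.of_basis (Basis.mk H.linearIndependent H.top.ge)

theorem finrank_eq [Fintype ι] : finrank F V = Fintype.card ι :=
  finrank_eq_card_basis (Basis.mk H.linearIndependent H.top.ge)

theorem ext_e {g h : O Q} (he : ∀ i, (g : V ≃ₗ[F] V) (e i) = (h : V ≃ₗ[F] V) (e i)) : g = h :=
  O.ext_app fun v => by
    have hv : v ∈ Submodule.span F (Set.range e) := H.top ▸ Submodule.mem_top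
    induction hv using Submodule.span_induction with
    | mem x hx => obtain ⟨j, rfl⟩ := hx; exact he j
    | zero => simp
    | add x y _ _ hx hy => simp [hx, hy]
    | smul a x _ hx => simp [hx]

theorem rO_unit {w : V} (hw : Q w = c) (v : V) : (rO Q w : V ≃ₗ[F] V) v = v - (2 * H.dot w v) • w := by
  rw [rO_app, hw, dot]
  congr 2
  field_simp [H.two, H.c0]

theorem dot_e_rO_unit {w : V} (hw : Q w = c) (i : ι) (v : V) :
    H.co i ((rO Q w : V ≃ₗ[F] V) v) = H.co i v - 2 * H.dot w v * H.co i w := by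
  rw [H.rO_unit hw, H.co_sub, H.co_smul]

omit H in
/-- A multiple of a basis vector. -/
def Ax (_H : ONB Q e c) (v : V) : Prop := ∃ j, v ∈ Submodule.span F {e j}

theorem ax_e (i : ι) : H.Ax (e i) := ⟨i, Submodule.mem_span_singleton_self _⟩

theorem ax_neg {v : V} (h : H.Ax v) : H.Ax (-v) := by
  obtain ⟨j, hj⟩ := h; exact ⟨j, neg_mem hj⟩

theorem Ax.smul {v : V} (h : H.Ax v) (a : F) : H.Ax (a • v) := by
  obtain ⟨j, hj⟩ := h; exact ⟨j, Submodule.smul_mem _ _ hj⟩

theorem Ax.eq {v : V} (h : H.Ax v) (hv : Q v = c) : ∃ j, v = e j ∨ v = -e j := by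
  obtain ⟨j, hj⟩ := h
  obtain ⟨a, rfl⟩ := Submodule.mem_span_singleton.1 hj
  rw [qmap_smul, H.val] at hv
  have ha : a * a = 1 := by
    have : (a * a - 1) * c = 0 := by linear_combination hv
    exact sub_eq_zero.1 ((mul_eq_zero.1 this).resolve_right H.c0)
  refine ⟨j, ?_⟩
  rcases mul_self_eq_one_iff.1 ha with rfl | rfl
  · exact Or.inl (one_smul _ _)
  · exact Or.inr (neg_one_smul _ _)

theorem ax_of_co [Fintype ι] {v : V} {j : ι} (h : ∀ i, i ≠ j → H.co i v = 0) : H.Ax v :=
  ⟨j, Submodule.mem_span_singleton.2 ⟨H.co j v, H.ext_co fun i => by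
    rw [H.co_smul]
    rcases eq_or_ne i j with rfl | hij
    · rw [H.co_self, mul_one]
    · rw [H.co_ne hij, h i hij, mul_zero]⟩⟩

omit H in
/-- Monomial isometries. -/
def IsMono (H : ONB Q e c) (g : O Q) : Prop := ∀ i, H.Ax ((g : V ≃ₗ[F] V) (e i))

theorem IsMono.app {g : O Q} (h : H.IsMono g) {v : V} (hv : H.Ax v) : H.Ax ((g : V ≃ₗ[F] V) v) := by
  obtain ⟨j, hj⟩ := hv
  obtain ⟨a, rfl⟩ := Submodule.mem_span_singleton.1 hj
  rw [map_smul]
  exact ((h j)).smul H a

theorem IsMono.exists_perm [Fintype ι] {g : O Q} (h : H.IsMono g) : ∃ σ : Equiv.Perm ι, ∀ i,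
    (g : V ≃ₗ[F] V) (e i) = e (σ i) ∨ (g : V ≃ₗ[F] V) (e i) = -e (σ i) := by
  classical
  choose σ hσ using fun i => Ax.eq H (h i) (by rw [O.map_app, H.val])
  have hinj : Function.Injective σ := fun i j hij => by
    by_contra hne
    have h0 : H.dot ((g : V ≃ₗ[F] V) (e i)) ((g : V ≃ₗ[F] V) (e j)) = 0 := by
      rw [H.dot_app]; exact H.co_ne hne
    rcases hσ i with ha | ha <;> rcases hσ j with hb | hb <;>
      rw [ha, hb, hij] at h0 <;>
      simp only [H.dot_neg_left, H.dot_neg_right, H.dot_self_unit (H.val _), neg_neg, neg_eq_zero,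
        one_ne_zero] at h0
  exact ⟨Equiv.ofBijective σ (Finite.injective_iff_bijective.1 hinj), hσ⟩

omit H in
/-- The monomial isometries form a subgroup. -/
def mono [Fintype ι] (H : ONB Q e c) : Subgroup (O Q) where
  carrier := {g | H.IsMono g}
  one_mem' := fun i => by simpa using H.ax_e i
  mul_mem' := fun {a b} ha hb i => by
    rw [Subgroup.coe_mul, mul_app]
    exact IsMono.app H ha (hb i)
  inv_mem' := fun {g} hg j => by
    obtain ⟨σ, hσ⟩ := IsMono.exists_perm H hg
    obtain ⟨i, rfl⟩ := σ.surjective j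
    have hinv : ∀ v, ((g⁻¹ : O Q) : V ≃ₗ[F] V) ((g : V ≃ₗ[F] V) v) = v := fun v => by
      rw [← mul_app, ← Subgroup.coe_mul, inv_mul_cancel]; rfl
    rcases hσ i with h | h
    · rw [← h, hinv]; exact H.ax_e i
    · have h' : e (σ i) = -(g : V ≃ₗ[F] V) (e i) := by rw [h, neg_neg]
      rw [h', map_neg, hinv]; exact H.ax_neg (H.ax_e i)

theorem mem_mono [Fintype ι] {g : O Q} : g ∈ H.mono ↔ H.IsMono g := Iff.rfl

omit H in
/-- The isometry fixes the basis vectors outside `A`. -/
def Supp (_H : ONB Q e c) (g : O Q) (A : Finset ι) : Prop := ∀ i, i ∉ A → (g : V ≃ₗ[F] V) (e i) = e i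

theorem Supp.anti {g : O Q} {A B : Finset ι} (h : H.Supp g A) (hAB : A ⊆ B) : H.Supp g B :=
  fun i hi => h i fun hA => hi (hAB hA)

theorem supp_one (A : Finset ι) : H.Supp 1 A := fun i _ => by simp

theorem Supp.mul {g g' : O Q} {A : Finset ι} (h : H.Supp g A) (h' : H.Supp g' A) : H.Supp (g * g') A :=
  fun i hi => by rw [Subgroup.coe_mul, mul_app, h' i hi, h i hi]

theorem Supp.inv {g : O Q} {A : Finset ι} (h : H.Supp g A) : H.Supp g⁻¹ A := fun i hi => by
  conv_lhs => rw [← h i hi]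
  rw [← mul_app, ← Subgroup.coe_mul, inv_mul_cancel]; rfl

theorem Supp.conj {g g' : O Q} {A : Finset ι} (h : H.Supp g A) (h' : H.Supp g' A) :
    H.Supp (g * g' * g⁻¹) A := Supp.mul H (Supp.mul H h h') (Supp.inv H h)

theorem Supp.pow {g : O Q} {A : Finset ι} (h : H.Supp g A) (k : ℕ) : H.Supp (g ^ k) A := by
  induction k with
  | zero => exact H.supp_one A
  | succ k ih => rw [pow_succ]; exact Supp.mul H ih h

theorem Supp.co {g : O Q} {A : Finset ι} (h : H.Supp g A) {i : ι} (hi : i ∉ A) (v : V) :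
    H.co i ((g : V ≃ₗ[F] V) v) = H.co i v := by
  conv_lhs => rw [ONB.co, ← h i hi]
  exact H.dot_app g _ _

theorem Supp.co_app {g : O Q} {A : Finset ι} (h : H.Supp g A) {b i : ι} (hb : b ∈ A) (hi : i ∉ A) :
    H.co i ((g : V ≃ₗ[F] V) (e b)) = 0 := by
  rw [Supp.co H h hi]; exact H.co_ne fun hib => hi (hib ▸ hb)

theorem supp_rO [DecidableEq ι] {i : ι} : H.Supp (rO Q (e i)) {i} := fun j hj =>
  rO_fix (H.orth i j fun h => hj (by simp [h]))

theorem supp_swp [DecidableEq ι] {i j : ι} {ε : F} : H.Supp (rO Q (e i - ε • e j)) {i, j} := fun k hk => by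
  simp only [Finset.mem_insert, Finset.mem_singleton, not_or] at hk
  refine rO_fix ?_
  rw [polar_sub_left, polar_smul_left', H.orth i k (Ne.symm hk.1), H.orth j k (Ne.symm hk.2)]
  ring

theorem qmap_swp {i j : ι} (hij : i ≠ j) {ε : F} (hε : ε * ε = 1) : Q (e i - ε • e j) = 2 * c := by
  rw [qmap_sub, qmap_smul, polar_smul_right', H.orth i j hij, H.val, H.val]
  linear_combination c * hε

theorem rO_swp_left {i j : ι} (hij : i ≠ j) {ε : F} (hε : ε * ε = 1) :
    (rO Q (e i - ε • e j) : V ≃ₗ[F] V) (e i) = ε • e j :=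
  rO_sub_swap (by rw [qmap_smul, H.val, H.val]; linear_combination (-c) * hε) (by rw [H.qmap_swp hij hε]; exact H.two_c)

theorem rO_swp_right {i j : ι} (hij : i ≠ j) {ε : F} (hε : ε * ε = 1) :
    (rO Q (e i - ε • e j) : V ≃ₗ[F] V) (e j) = ε • e i := by
  have h := congrArg (fun x => ε • (rO Q (e i - ε • e j) : V ≃ₗ[F] V) x) (H.rO_swp_left hij hε)
  simp only [map_smul, smul_smul, hε, one_smul] at h
  rw [← mul_app, ← Subgroup.coe_mul, rO_mul_self] at h
  simpa using h.symm

theorem isMono_rO [Fintype ι] (i : ι) : rO Q (e i) ∈ H.mono := fun j => by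
  rcases eq_or_ne j i with rfl | h
  · rw [rO_self (by rw [H.val]; exact H.c0)]; exact H.ax_neg (H.ax_e _)
  · rw [rO_fix (H.orth i j h.symm)]; exact H.ax_e j

theorem isMono_swp [Fintype ι] {i j : ι} (hij : i ≠ j) {ε : F} (hε : ε * ε = 1) :
    rO Q (e i - ε • e j) ∈ H.mono := fun k => by
  classical
  rcases eq_or_ne k i with rfl | h
  · rw [H.rO_swp_left hij hε]; exact (H.ax_e j).smul H ε
  rcases eq_or_ne k j with rfl | h'
  · rw [H.rO_swp_right hij hε]; exact (H.ax_e i).smul H ε
  · rw [H.supp_swp k (by simp [h, h'])]; exact H.ax_e k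

omit H in
/-- Sign changes on a set of coordinates. -/
def IsDiag [DecidableEq ι] (_H : ONB Q e c) (g : O Q) (B : Finset ι) : Prop :=
  ∀ i, (g : V ≃ₗ[F] V) (e i) = if i ∈ B then -e i else e i

theorem IsDiag.mono [DecidableEq ι] [Fintype ι] {g : O Q} {B : Finset ι} (h : H.IsDiag g B) : g ∈ H.mono :=
  fun i => by
    rw [h i]; split_ifs
    · exact H.ax_neg (H.ax_e i)
    · exact H.ax_e i

theorem IsDiag.supp [DecidableEq ι] {g : O Q} {B : Finset ι} (h : H.IsDiag g B) : H.Supp g B :=
  fun i hi => by rw [h i, if_neg hi]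

theorem IsDiag.unique [DecidableEq ι] {g g' : O Q} {B : Finset ι} (h : H.IsDiag g B) (h' : H.IsDiag g' B) :
    g = g' := H.ext_e fun i => by rw [h i, h' i]

theorem IsDiag.mul [DecidableEq ι] {g g' : O Q} {B B' : Finset ι} (h : H.IsDiag g B) (h' : H.IsDiag g' B') :
    H.IsDiag (g * g') (symmDiff B B') := fun i => by
  rw [Subgroup.coe_mul, mul_app, h' i]
  by_cases h1 : i ∈ B <;> by_cases h2 : i ∈ B' <;>
    simp [h1, h2, h i, Finset.mem_symmDiff]

theorem IsDiag.sq [DecidableEq ι] {g : O Q} {B : Finset ι} (h : H.IsDiag g B) : g * g = 1 := H.ext_e fun i => by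
  rw [Subgroup.coe_mul, mul_app, h i]
  split_ifs with hi <;> simp [h i, hi]

/-- The sign change on a pair, as a product of two reflections. -/
theorem isDiag_pair [DecidableEq ι] {i j : ι} (hij : i ≠ j) : H.IsDiag (rO Q (e i) * rO Q (e j)) {i, j} := by
  intro k
  rw [Subgroup.coe_mul, mul_app]
  have hne : ∀ l, Q (e l) ≠ 0 := fun l => by rw [H.val]; exact H.c0
  rcases eq_or_ne k i with rfl | h
  · rw [rO_fix (H.orth j k hij.symm), rO_self (hne k), if_pos (by simp)]
  rcases eq_or_ne k j with rfl | h'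
  · rw [rO_self (hne k), map_neg, rO_fix (H.orth i k hij), if_pos (by simp)]
  · rw [rO_fix (H.orth j k h'.symm), rO_fix (H.orth i k h.symm), if_neg (by simp [h, h'])]

/-- The three-cycle through three signed basis vectors. -/
theorem cyc_app {x y z : V} (hx : Q x = c) (hy : Q y = c) (hz : Q z = c) (hxy : H.dot x y = 0)
    (hxz : H.dot x z = 0) (hyz : H.dot y z = 0) :
    ((rO Q (x - y) * rO Q (y - z) : O Q) : V ≃ₗ[F] V) x = y ∧
      ((rO Q (x - y) * rO Q (y - z) : O Q) : V ≃ₗ[F] V) y = z ∧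
      ((rO Q (x - y) * rO Q (y - z) : O Q) : V ≃ₗ[F] V) z = x ∧
      ∀ v, H.dot x v = 0 → H.dot y v = 0 → H.dot z v = 0 →
        ((rO Q (x - y) * rO Q (y - z) : O Q) : V ≃ₗ[F] V) v = v := by
  have h0 : ∀ {u v : V}, H.dot u v = 0 → polar Q u v = 0 := fun {u v} h =>
    (mul_eq_zero.1 h).resolve_left (inv_ne_zero H.two_c)
  have hn : ∀ {u v : V}, Q u = c → Q v = c → H.dot u v = 0 → Q (u - v) ≠ 0 := fun hu hv huv => by
    rw [qmap_sub, hu, hv, h0 huv, sub_zero, ← two_mul]; exact H.two_c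
  have hsw : ∀ {u v : V}, Q u = c → Q v = c → H.dot u v = 0 → (rO Q (u - v) : V ≃ₗ[F] V) v = u :=
    fun {u v} hu hv huv => by
    have h := congrArg (fun w => (rO Q (u - v) : V ≃ₗ[F] V) w) (rO_sub_swap (hu.trans hv.symm) (hn hu hv huv))
    rw [← mul_app, ← Subgroup.coe_mul, rO_mul_self] at h
    simpa using h.symm
  refine ⟨?_, ?_, ?_, fun v h1 h2 h3 => ?_⟩ <;> rw [Subgroup.coe_mul, mul_app]
  · rw [rO_fix (v := y - z) (x := x) (by
      rw [polar_sub_left, polar_comm (⇑Q) y, polar_comm (⇑Q) z, h0 hxy, h0 hxz, sub_zero]),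
      rO_sub_swap (hx.trans hy.symm) (hn hx hy hxy)]
  · rw [rO_sub_swap (hy.trans hz.symm) (hn hy hz hyz),
      rO_fix (v := x - y) (x := z) (by rw [polar_sub_left, h0 hxz, h0 hyz, sub_zero])]
  · rw [hsw hy hz hyz, hsw hx hy hxy]
  · rw [rO_fix (v := y - z) (x := v) (by rw [polar_sub_left, h0 h2, h0 h3, sub_zero]),
      rO_fix (v := x - y) (x := v) (by rw [polar_sub_left, h0 h1, h0 h2, sub_zero])]

end ONB

/-- The subgroup contains the monomial part of Ω. -/
structure Over [Fintype ι] (H : ONB Q e c) (X : Subgroup (O Q)) : Prop where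
  mem : ∀ g ∈ H.mono, g ∈ commutator (O Q) → g ∈ X

/-- All the elements of `X` supported on `A` are monomial. -/
def Small [Fintype ι] (H : ONB Q e c) (X : Subgroup (O Q)) (A : Finset ι) : Prop :=
  ∀ g ∈ X, H.Supp g A → g ∈ H.mono

/-- All the small sets are monomial. -/
def Below [Fintype ι] (H : ONB Q e c) (X : Subgroup (O Q)) (k : ℕ) : Prop :=
  ∀ A : Finset ι, A.card < k → Small H X A

theorem Below.anti [Fintype ι] {H : ONB Q e c} {X : Subgroup (O Q)} {k l : ℕ} (h : Below H X k) (hl : l ≤ k) :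
    Below H X l := fun A hA => h A (hA.trans_le hl)

theorem Small.anti [Fintype ι] {H : ONB Q e c} {X : Subgroup (O Q)} {A B : Finset ι} (h : Small H X B)
    (hAB : A ⊆ B) : Small H X A := fun g hg hs => h g hg (ONB.Supp.anti H hs hAB)

namespace Over

variable [Fintype ι] {H : ONB Q e c} {X : Subgroup (O Q)} (hX : Over H X)
include hX

theorem rO_mul {a b : V} (ha : Q a ≠ 0) (h : Q b = Q a) (hab : rO Q a * rO Q b ∈ H.mono) :
    rO Q a * rO Q b ∈ X :=
  hX.mem _ hab (by
    have := H.finite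
    exact H98.OrthMax.rO_mul_mem H.nondeg ha h)

theorem pair [DecidableEq ι] {i j : ι} (hij : i ≠ j) : rO Q (e i) * rO Q (e j) ∈ X :=
  hX.rO_mul (by rw [H.val]; exact H.c0) (by rw [H.val, H.val]) (ONB.IsDiag.mono H (H.isDiag_pair hij))

theorem cyc {x y z : V} (hx : Q x = c) (hy : Q y = c) (hz : Q z = c) (hxy : H.dot x y = 0)
    (hyz : H.dot y z = 0) (hm : rO Q (x - y) * rO Q (y - z) ∈ H.mono) :
    rO Q (x - y) * rO Q (y - z) ∈ X := by
  have h0 : ∀ {u v : V}, Q u = c → Q v = c → H.dot u v = 0 → Q (u - v) = 2 * c := fun {u v} hu hv huv => by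
    rw [qmap_sub, hu, hv, (mul_eq_zero.1 huv).resolve_left (inv_ne_zero H.two_c), sub_zero, two_mul]
  exact hX.rO_mul (by rw [h0 hx hy hxy]; exact H.two_c) (by rw [h0 hx hy hxy, h0 hy hz hyz]) hm

/-- Two sign changes on disjoint pairs. -/
theorem quad [DecidableEq ι] {i j k l : ι} (hij : i ≠ j) (hkl : k ≠ l) :
    rO Q (e i) * rO Q (e j) * (rO Q (e k) * rO Q (e l)) ∈ X := X.mul_mem (hX.pair hij) (hX.pair hkl)

omit hX in
theorem conj {g h : O Q} (hg : g ∈ X) (hh : h ∈ X) : g * h * g⁻¹ ∈ X :=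
  X.mul_mem (X.mul_mem hg hh) (X.inv_mem hg)

end Over

end Cfsg.Agent.H97.Frame
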