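import Mathlib

/-!
Finite groups of rotations of a three-dimensional orthogonal space over a prime field: such a group with two
axes of order at least six has order divisible by the characteristic.
-/

set_option autoImplicit false

namespace Cfsg.Agent.H97.Frame.Three

open Module

variable {F : Type*} [Field F]

/-- The ternary form with coefficients `1, 1, q`. -/
def D (q : F) (x y : Fin 3 → F) : F := x 0 * y 0 + x 1 * y 1 + q * (x 2 * y 2)

theorem D_comm (q : F) (x y : Fin 3 → F) : D q x y = D q y x := by unfold D; ring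

theorem D_add_right (q : F) (x y z : Fin 3 → F) : D q x (y + z) = D q x y + D q x z := by
  unfold D; simp only [Pi.add_apply]; ring

theorem D_sub_right (q : F) (x y z : Fin 3 → F) : D q x (y - z) = D q x y - D q x z := by
  unfold D; simp only [Pi.sub_apply]; ring

theorem D_smul_right (q a : F) (x y : Fin 3 → F) : D q x (a • y) = a * D q x y := by
  unfold D; simp only [Pi.smul_apply, smul_eq_mul]; ring

theorem D_add_left (q : F) (x y z : Fin 3 → F) : D q (x + y) z = D q x z + D q y z := by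
  unfold D; simp only [Pi.add_apply]; ring

theorem D_smul_left (q a : F) (x y : Fin 3 → F) : D q (a • x) y = a * D q x y := by
  unfold D; simp only [Pi.smul_apply, smul_eq_mul]; ring

theorem eq_zero_of_D {q : F} (hq : q ≠ 0) {x : Fin 3 → F} (h : ∀ y, D q x y = 0) : x = 0 := by
  have h0 := h ![1, 0, 0]
  have h1 := h ![0, 1, 0]
  have h2 := h ![0, 0, 1]
  simp [D] at h0 h1 h2
  funext i
  fin_cases i <;> simp_all

theorem cross_orth (q : F) (a f : Fin 3 → F) :
    D q a ![q * (a 1 * f 2 - a 2 * f 1), q * (a 2 * f 0 - a 0 * f 2), a 0 * f 1 - a 1 * f 0] = 0 ∧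
      D q f ![q * (a 1 * f 2 - a 2 * f 1), q * (a 2 * f 0 - a 0 * f 2), a 0 * f 1 - a 1 * f 0] = 0 ∧
      D q ![q * (a 1 * f 2 - a 2 * f 1), q * (a 2 * f 0 - a 0 * f 2), a 0 * f 1 - a 1 * f 0]
          ![q * (a 1 * f 2 - a 2 * f 1), q * (a 2 * f 0 - a 0 * f 2), a 0 * f 1 - a 1 * f 0] =
        q * (D q a a * D q f f - D q a f * D q a f) := by
  refine ⟨?_, ?_, ?_⟩ <;> simp [D] <;> ring

/-- The numerical part of the count of axes. -/
theorem count_arith_one {a m o s t : ℕ} (hm : 6 ≤ m) (ha : 2 ≤ a) (ht : 2 ≤ t) (ho : o * s = 2 * m * a)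
    (hs : s = t ∨ s = 2 * t) : o * (t - 1) + 1 ≠ a * (m + 1) := by
  obtain ⟨t, rfl⟩ : ∃ k, t = k + 2 := ⟨t - 2, by omega⟩
  simp only [show t + 2 - 1 = t + 1 by omega]
  intro h
  rcases hs with rfl | rfl
  · rcases Nat.eq_zero_or_pos t with rfl | ht1
    · nlinarith
    · have h3 : 3 * o ≤ 2 * m * a := by nlinarith
      nlinarith
  · nlinarith

theorem count_arith_two {a m o s t o' s' t' : ℕ} (hm : 6 ≤ m) (ha : 2 ≤ a) (ht : 2 ≤ t) (ht' : 2 ≤ t')
    (ho : o * s = 2 * m * a) (hs : s = t ∨ s = 2 * t) (ho' : o' * s' = 2 * m * a) (hs' : s' = t' ∨ s' = 2 * t') :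
    o * (t - 1) + o' * (t' - 1) + 1 ≠ a * (m + 1) := by
  obtain ⟨t, rfl⟩ : ∃ k, t = k + 2 := ⟨t - 2, by omega⟩
  obtain ⟨t', rfl⟩ : ∃ k, t' = k + 2 := ⟨t' - 2, by omega⟩
  simp only [show t + 2 - 1 = t + 1 by omega, show t' + 2 - 1 = t' + 1 by omega]
  intro h
  have h6 : 6 * a ≤ m * a := Nat.mul_le_mul_right _ hm
  rcases hs with rfl | rfl
  · rcases hs' with rfl | rfl <;> nlinarith
  rcases hs' with rfl | rfl
  · nlinarith
  have e : o * (t + 2) = m * a := by linarith
  have e' : o' * (t' + 2) = m * a := by linarith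
  rcases Nat.eq_zero_or_pos t with rfl | h1 <;> rcases Nat.eq_zero_or_pos t' with rfl | h1'
  · nlinarith
  · rcases Nat.lt_or_ge t' 2 with h2 | h2
    · obtain rfl : t' = 1 := by omega
      nlinarith
    · have : 4 * o' ≤ m * a := by nlinarith
      nlinarith
  · rcases Nat.lt_or_ge t 2 with h2 | h2
    · obtain rfl : t = 1 := by omega
      nlinarith
    · have : 4 * o ≤ m * a := by nlinarith
      nlinarith
  · have h3 : 3 * o ≤ m * a := by nlinarith
    have h3' : 3 * o' ≤ m * a := by nlinarith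
    nlinarith

section Group

variable {q : F} {G : Subgroup ((Fin 3 → F) ≃ₗ[F] (Fin 3 → F))}

/-- The fixed space of an element. -/
def fix (g : (Fin 3 → F) ≃ₗ[F] (Fin 3 → F)) : Submodule F (Fin 3 → F) :=
  LinearMap.ker (((g : (Fin 3 → F) →ₗ[F] (Fin 3 → F))) - LinearMap.id)

theorem span_neg' (v : Fin 3 → F) : Submodule.span F {-v} = Submodule.span F {v} := by
  rw [← Set.neg_singleton, Submodule.span_neg]

theorem mem_fix {g : (Fin 3 → F) ≃ₗ[F] (Fin 3 → F)} {v : Fin 3 → F} : v ∈ fix g ↔ g v = v := by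
  simp [fix, sub_eq_zero]

theorem finite_equiv [Finite F] : Finite ((Fin 3 → F) ≃ₗ[F] (Fin 3 → F)) :=
  Finite.of_injective (fun g => (g : (Fin 3 → F) → (Fin 3 → F))) DFunLike.coe_injective

variable (hq : q ≠ 0) (h2 : (2 : F) ≠ 0) (hD : ∀ g ∈ G, ∀ x y, D q (g x) (g y) = D q x y)
  (hdet : ∀ g ∈ G, LinearMap.det ((g : (Fin 3 → F) →ₗ[F] (Fin 3 → F))) = 1)
include hq h2 hD hdet

/-- A nontrivial rotation of order prime to the characteristic has one anisotropic axis. -/
theorem exists_axis {g : (Fin 3 → F) ≃ₗ[F] (Fin 3 → F)} (hg : g ∈ G) (hg1 : g ≠ 1) {m : ℕ} (hm : (m : F) ≠ 0)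
    (hgm : g ^ m = 1) : ∃ v, D q v v ≠ 0 ∧ fix g = Submodule.span F {v} := by
  set N : (Fin 3 → F) →ₗ[F] (Fin 3 → F) := (g : (Fin 3 → F) →ₗ[F] (Fin 3 → F)) - LinearMap.id with hN
  have hNapp : ∀ y, N y = g y - y := fun y => rfl
  -- fixed vectors are not moved vectors
  have hdisj : Disjoint (fix g) (LinearMap.range N) := by
    rw [Submodule.disjoint_def]
    rintro x hx ⟨y, rfl⟩
    have key : ∀ k : ℕ, (g ^ k) y = y + (k : F) • N y := by
      intro k
      induction k with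
      | zero => simp
      | succ k ih =>
        rw [pow_succ', LinearEquiv.mul_apply, ih, map_add, map_smul, mem_fix.1 hx, hNapp]
        push_cast
        module
    have h := key m
    rw [hgm] at h
    simpa [hm] using h
  have hrank : finrank F (LinearMap.range N) + finrank F (fix g) = 3 := by
    rw [show fix g = LinearMap.ker N from rfl, N.finrank_range_add_finrank_ker]; simp
  have hcompl : IsCompl (fix g) (LinearMap.range N) :=
    ⟨hdisj, codisjoint_iff.2 (Submodule.eq_top_of_finrank_eq (by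
      have h := Submodule.finrank_sup_add_finrank_inf_eq (fix g) (LinearMap.range N)
      rw [hdisj.eq_bot, finrank_bot] at h
      simp
      omega))⟩
  have horth : ∀ x ∈ fix g, ∀ y ∈ LinearMap.range N, D q x y = 0 := by
    rintro x hx _ ⟨y, rfl⟩
    rw [hNapp, D_sub_right]
    nth_rw 1 [← mem_fix.1 hx]
    rw [hD g hg, sub_self]
  -- some vector is fixed
  have hker : fix g ≠ ⊥ := by
    intro hbot
    let B : (Fin 3 → F) →ₗ[F] Module.Dual F (Fin 3 → F) := LinearMap.mk₂ F (D q)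
      (fun x y z => D_add_left q x y z) (fun a x y => D_smul_left q a x y) (fun x y z => D_add_right q x y z)
      (fun a x y => D_smul_right q a x y)
    have hB : Function.Injective B := by
      rw [← LinearMap.ker_eq_bot, Submodule.eq_bot_iff]
      exact fun x hx => eq_zero_of_D hq fun y => by
        have := LinearMap.congr_fun (LinearMap.mem_ker.1 hx) y
        exact this
    let e := LinearEquiv.ofInjectiveOfFinrankEq B hB Subspace.dual_finrank_eq.symm
    set N' : (Fin 3 → F) →ₗ[F] (Fin 3 → F) :=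
      ((g⁻¹ : (Fin 3 → F) ≃ₗ[F] (Fin 3 → F)) : (Fin 3 → F) →ₗ[F] (Fin 3 → F)) - LinearMap.id with hN'
    have hinv : ∀ x, g ((g⁻¹ : (Fin 3 → F) ≃ₗ[F] (Fin 3 → F)) x) = x := fun x => by
      rw [← LinearEquiv.mul_apply, mul_inv_cancel]; rfl
    have hconj : N.dualMap = (e : _ →ₗ[F] Module.Dual F (Fin 3 → F)) ∘ₗ N' ∘ₗ (e.symm : _ →ₗ[F] _) := by
      refine LinearMap.ext fun φ => ?_
      obtain ⟨x, rfl⟩ := e.surjective φ
      simp only [LinearMap.comp_apply, LinearEquiv.coe_coe, LinearEquiv.symm_apply_apply]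
      refine LinearMap.ext fun y => ?_
      show D q x (g y - y) = D q ((g⁻¹ : (Fin 3 → F) ≃ₗ[F] (Fin 3 → F)) x - x) y
      rw [D_sub_right, D_comm q (_ - x), D_sub_right, D_comm q y x, D_comm q y]
      nth_rw 1 [← hinv x]
      rw [hD g hg]
    have h1 : LinearMap.det N = LinearMap.det N' := by
      rw [← LinearMap.det_dualMap, hconj, LinearMap.det_conj]
    have h3 : N' = ((-1 : F) • ((g⁻¹ : (Fin 3 → F) ≃ₗ[F] (Fin 3 → F)) : (Fin 3 → F) →ₗ[F] (Fin 3 → F))) ∘ₗ N := by
      refine LinearMap.ext fun y => ?_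
      have hy : (g⁻¹ : (Fin 3 → F) ≃ₗ[F] (Fin 3 → F)) (g y) = y := by
        rw [← LinearEquiv.mul_apply, inv_mul_cancel]; rfl
      simp only [hN', LinearMap.sub_apply, LinearEquiv.coe_coe, LinearMap.id_coe, id_eq, LinearMap.comp_apply,
        LinearMap.smul_apply, hNapp, map_sub, hy]
      module
    have h4 : LinearMap.det N = -LinearMap.det N := by
      conv_lhs => rw [h1, h3, LinearMap.det_comp, LinearMap.det_smul]
      rw [hdet _ (G.inv_mem hg)]
      simp
      ring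
    have h5 : LinearMap.det N = 0 := by
      have : (2 : F) * LinearMap.det N = 0 := by linear_combination h4
      exact (mul_eq_zero.1 this).resolve_left h2
    exact (LinearMap.bot_lt_ker_of_det_eq_zero h5).ne' hbot
  have hone : finrank F (fix g) = 1 := by
    have hpos : finrank F (fix g) ≠ 0 := fun h => hker (Submodule.finrank_eq_zero.1 h)
    by_contra hne
    obtain ⟨r, hr, hr1⟩ : ∃ r, r ≠ 0 ∧ LinearMap.range N ≤ Submodule.span F {r} := by
      have hle : finrank F (LinearMap.range N) ≤ 1 := by omega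
      rcases Nat.eq_zero_or_pos (finrank F (LinearMap.range N)) with h0 | h0
      · refine absurd (LinearEquiv.ext fun y => ?_) hg1
        have : N y = 0 := by
          have hm' := LinearMap.mem_range_self N y
          rwa [Submodule.finrank_eq_zero.1 h0, Submodule.mem_bot] at hm'
        rw [hNapp, sub_eq_zero] at this
        simpa using this
      · obtain ⟨r, hr, hr'⟩ := Submodule.exists_mem_ne_zero_of_ne_bot (p := LinearMap.range N)
          (fun h => by rw [h, finrank_bot] at h0; exact lt_irrefl _ h0)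
        exact ⟨r, hr', (Submodule.eq_of_le_of_finrank_le ((Submodule.span_singleton_le_iff_mem r _).2 hr)
          (by rw [finrank_span_singleton hr']; omega)).ge⟩
    obtain ⟨μ, hμ⟩ := Submodule.mem_span_singleton.1 (hr1 ⟨r, rfl⟩)
    rw [hNapp] at hμ
    -- the determinant is the eigenvalue
    have hgr : g r = (1 + μ) • r := by rw [add_smul, one_smul, hμ]; abel
    set e := Submodule.prodEquivOfIsCompl _ _ hcompl with he
    have hconj : (g : (Fin 3 → F) →ₗ[F] (Fin 3 → F)) = (e : _ →ₗ[F] (Fin 3 → F)) ∘ₗ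
        ((LinearMap.id : fix g →ₗ[F] fix g).prodMap
          ((1 + μ) • (LinearMap.id : LinearMap.range N →ₗ[F] LinearMap.range N))) ∘ₗ (e.symm : _ →ₗ[F] _) := by
      refine LinearMap.ext fun v => ?_
      obtain ⟨⟨x, y⟩, rfl⟩ := e.surjective v
      simp only [LinearMap.comp_apply, LinearEquiv.coe_coe, LinearEquiv.symm_apply_apply]
      rw [he, Submodule.coe_prodEquivOfIsCompl']
      obtain ⟨d, hd⟩ := Submodule.mem_span_singleton.1 (hr1 y.2)
      simp [mem_fix.1 x.2, ← hd, hgr, smul_smul, mul_comm]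
    have hd := hdet g hg
    rw [hconj, LinearMap.det_conj, LinearMap.det_prodMap, LinearMap.det_id, LinearMap.det_smul, LinearMap.det_id,
      one_mul, mul_one, show finrank F (LinearMap.range N) = 1 by
        have : LinearMap.range N ≠ ⊥ := fun h => hg1 (LinearEquiv.ext fun y => by
          have hm' := LinearMap.mem_range_self N y
          rw [h, Submodule.mem_bot, hNapp, sub_eq_zero] at hm'
          simpa using hm')
        have h1 : finrank F (LinearMap.range N) ≠ 0 := fun h => this (Submodule.finrank_eq_zero.1 h)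
        omega, pow_one, add_eq_left] at hd
    have hfix : r ∈ fix g := mem_fix.2 (by rw [hgr, hd, add_zero, one_smul])
    refine hg1 (LinearEquiv.ext fun y => ?_)
    obtain ⟨d, hd'⟩ := Submodule.mem_span_singleton.1 (hr1 ⟨y, rfl⟩)
    have hy : N y ∈ fix g ⊓ LinearMap.range N :=
      ⟨by rw [← hd']; exact Submodule.smul_mem _ _ hfix, LinearMap.mem_range_self _ _⟩
    rw [hdisj.eq_bot, Submodule.mem_bot, hNapp, sub_eq_zero] at hy
    simpa using hy
  obtain ⟨v, hv, hv0⟩ := Submodule.exists_mem_ne_zero_of_ne_bot hker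
  have heq : fix g = Submodule.span F {v} := (Submodule.eq_of_le_of_finrank_le
    ((Submodule.span_singleton_le_iff_mem v _).2 hv) (by rw [finrank_span_singleton hv0, hone])).symm
  refine ⟨v, fun h0 => hv0 (eq_zero_of_D hq fun y => ?_), heq⟩
  obtain ⟨x, hx, z, hz, rfl⟩ := Submodule.mem_sup.1
    (hcompl.sup_eq_top ▸ Submodule.mem_top : y ∈ fix g ⊔ LinearMap.range N)
  rw [heq] at hx
  obtain ⟨d, rfl⟩ := Submodule.mem_span_singleton.1 hx
  rw [D_add_right, D_smul_right, h0, mul_zero, horth v hv z hz, add_zero]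

/-- A group of rotations with an axis of order at least six which is inverted and moved has order divisible by
the characteristic. -/
theorem cast_card_eq_zero [Finite F] {v₁ : Fin 3 → F} (hv₁ : D q v₁ v₁ ≠ 0) {flip : (Fin 3 → F) ≃ₗ[F] (Fin 3 → F)}
    (hflip : flip ∈ G) (hflip' : flip v₁ = -v₁) (hT : ∀ T : Finset ((Fin 3 → F) ≃ₗ[F] (Fin 3 → F)),
      (∀ g, g ∈ T ↔ g ∈ G ∧ g v₁ = v₁) → 6 ≤ T.card)
    {w : (Fin 3 → F) ≃ₗ[F] (Fin 3 → F)} (hw : w ∈ G) (hw' : ∀ a : F, w v₁ ≠ a • v₁) :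
    (Nat.card G : F) = 0 := by
  classical
  by_contra hcast
  have := finite_equiv (F := F)
  have : Fintype ((Fin 3 → F) ≃ₗ[F] (Fin 3 → F)) := Fintype.ofFinite _
  set Gs : Finset ((Fin 3 → F) ≃ₗ[F] (Fin 3 → F)) := Finset.univ.filter (· ∈ G) with hGs
  have mG : ∀ {g}, g ∈ Gs ↔ g ∈ G := fun {g} => by simp [hGs]
  have hN : Gs.card = Nat.card G := by
    rw [Nat.card_eq_fintype_card, Fintype.card_subtype]
  have hax : ∀ g ∈ G, g ≠ 1 → ∃ v, D q v v ≠ 0 ∧ fix g = Submodule.span F {v} := fun g hg hg1 => by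
    refine exists_axis hq h2 hD hdet hg hg1 hcast ?_
    have := congrArg Subtype.val (pow_card_eq_one' (x := (⟨g, hg⟩ : G)))
    rwa [Subgroup.coe_pow, Subgroup.coe_one] at this
  set lines : Finset (Submodule F (Fin 3 → F)) := (Gs.erase 1).image fix with hlines
  let Tf : Submodule F (Fin 3 → F) → Finset ((Fin 3 → F) ≃ₗ[F] (Fin 3 → F)) := fun L => Gs.filter (L ≤ fix ·)
  let act : ((Fin 3 → F) ≃ₗ[F] (Fin 3 → F)) → Submodule F (Fin 3 → F) → Submodule F (Fin 3 → F) :=
    fun g L => L.map (g : (Fin 3 → F) →ₗ[F] (Fin 3 → F))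
  let St : Submodule F (Fin 3 → F) → Finset ((Fin 3 → F) ≃ₗ[F] (Fin 3 → F)) := fun L => Gs.filter (act · L = L)
  let orb : Submodule F (Fin 3 → F) → Finset (Submodule F (Fin 3 → F)) := fun L => Gs.image (act · L)
  have hline : ∀ L ∈ lines, ∃ v, D q v v ≠ 0 ∧ L = Submodule.span F {v} := by
    intro L hL
    obtain ⟨g, hg, rfl⟩ := Finset.mem_image.1 hL
    obtain ⟨hg1, hg⟩ := Finset.mem_erase.1 hg
    exact hax g (mG.1 hg) hg1
  have heq : ∀ g ∈ G, g ≠ 1 → ∀ L ∈ lines, L ≤ fix g → fix g = L := by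
    intro g hg hg1 L hL hle
    obtain ⟨v, hv, rfl⟩ := hline L hL
    obtain ⟨v', -, hv'⟩ := hax g hg hg1
    have hv0 : v ≠ 0 := fun h => hv (by simp [h, D])
    refine (Submodule.eq_of_le_of_finrank_le hle ?_).symm
    rw [hv', finrank_span_singleton hv0]
    exact (finrank_span_le_card ({v'} : Set (Fin 3 → F))).trans (by simp)
  have actmul : ∀ g h L, act (g * h) L = act g (act h L) := fun g h L => by
    simp only [act, ← Submodule.map_comp]; rfl
  have actone : ∀ L, act 1 L = L := fun L => by simp [act]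
  have fixconj : ∀ g h, fix (g * h * g⁻¹) = act g (fix h) := by
    intro g h
    ext v
    simp only [act, Submodule.mem_map, mem_fix, LinearEquiv.coe_coe]
    constructor
    · intro hv
      refine ⟨(g⁻¹ : (Fin 3 → F) ≃ₗ[F] (Fin 3 → F)) v, ?_, ?_⟩
      · have := congrArg (fun x => (g⁻¹ : (Fin 3 → F) ≃ₗ[F] (Fin 3 → F)) x) hv
        simpa using this
      · rw [← LinearEquiv.mul_apply, mul_inv_cancel]; rfl
    · rintro ⟨x, hx, rfl⟩
      simp [hx]
  have hTone : ∀ L, (1 : (Fin 3 → F) ≃ₗ[F] (Fin 3 → F)) ∈ Tf L := fun L =>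
    Finset.mem_filter.2 ⟨mG.2 G.one_mem, fun v _ => mem_fix.2 (by simp)⟩
  have hTtwo : ∀ L ∈ lines, 2 ≤ (Tf L).card := by
    intro L hL
    obtain ⟨g, hg, rfl⟩ := Finset.mem_image.1 hL
    obtain ⟨hg1, hg⟩ := Finset.mem_erase.1 hg
    have : ({1, g} : Finset _) ⊆ Tf (fix g) := by
      intro x hx
      rcases Finset.mem_insert.1 hx with rfl | hx
      · exact hTone _
      · rw [Finset.mem_singleton.1 hx]; exact Finset.mem_filter.2 ⟨hg, le_rfl⟩
    refine le_trans ?_ (Finset.card_le_card this)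
    rw [Finset.card_pair (Ne.symm hg1)]
  -- the class equation
  have hsum : Gs.card - 1 = ∑ L ∈ lines, ((Tf L).card - 1) := by
    rw [← Finset.card_erase_of_mem (mG.2 G.one_mem), Finset.card_eq_sum_card_image fix (Gs.erase 1)]
    refine Finset.sum_congr rfl fun L hL => ?_
    rw [← Finset.card_erase_of_mem (hTone L)]
    congr 1
    ext g
    simp only [Finset.mem_filter, Finset.mem_erase, Tf]
    constructor
    · rintro ⟨⟨h1, h3⟩, rfl⟩; exact ⟨h1, h3, le_rfl⟩
    · rintro ⟨h1, h3, h4⟩; exact ⟨⟨h1, h3⟩, heq g (mG.1 h3) h1 L hL h4⟩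
  have hinv : ∀ L ∈ lines, ∀ g ∈ G, act g L ∈ lines := by
    intro L hL g hg
    obtain ⟨h, hh, rfl⟩ := Finset.mem_image.1 hL
    obtain ⟨hh1, hh⟩ := Finset.mem_erase.1 hh
    rw [← fixconj]
    refine Finset.mem_image.2 ⟨_, Finset.mem_erase.2 ⟨fun h1 => hh1 ?_,
      mG.2 (G.mul_mem (G.mul_mem hg (mG.1 hh)) (G.inv_mem hg))⟩, rfl⟩
    simpa using h1
  have hTconj : ∀ L, ∀ g ∈ G, (Tf (act g L)).card = (Tf L).card := by
    intro L g hg
    symm
    refine Finset.card_bij (fun x _ => g * x * g⁻¹) (fun x hx => ?_) (fun x _ y _ h => by simpa using h)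
      fun y hy => ?_
    · obtain ⟨hx, hle⟩ := Finset.mem_filter.1 hx
      exact Finset.mem_filter.2 ⟨mG.2 (G.mul_mem (G.mul_mem hg (mG.1 hx)) (G.inv_mem hg)),
        fixconj g x ▸ Submodule.map_mono hle⟩
    · obtain ⟨hy, hle⟩ := Finset.mem_filter.1 hy
      refine ⟨g⁻¹ * y * g, Finset.mem_filter.2 ⟨mG.2 (G.mul_mem (G.mul_mem (G.inv_mem hg) (mG.1 hy)) hg), ?_⟩,
        by simp [mul_assoc]⟩
      have h := fixconj g⁻¹ y
      rw [inv_inv] at h
      rw [h, ← actone L, ← inv_mul_cancel g, actmul]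
      exact Submodule.map_mono hle
  have horb : ∀ L, (orb L).card * (St L).card = Gs.card := by
    intro L
    rw [Finset.card_eq_sum_card_image (act · L) Gs]
    rw [Finset.sum_congr rfl (g := fun _ => (St L).card), Finset.sum_const, smul_eq_mul]
    intro M hM
    obtain ⟨g, hg, rfl⟩ := Finset.mem_image.1 hM
    symm
    refine Finset.card_bij (fun x _ => g * x) (fun x hx => ?_) (fun x _ y _ h => mul_left_cancel h) fun y hy => ?_
    · obtain ⟨hx, hfx⟩ := Finset.mem_filter.1 hx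
      exact Finset.mem_filter.2 ⟨mG.2 (G.mul_mem (mG.1 hg) (mG.1 hx)), by rw [actmul, hfx]⟩
    · obtain ⟨hy, hfy⟩ := Finset.mem_filter.1 hy
      refine ⟨g⁻¹ * y, Finset.mem_filter.2 ⟨mG.2 (G.mul_mem (G.inv_mem (mG.1 hg)) (mG.1 hy)), ?_⟩, by simp⟩
      rw [actmul, hfy, ← actmul, inv_mul_cancel, actone]
  have hSt : ∀ L ∈ lines, (St L).card = (Tf L).card ∨ (St L).card = 2 * (Tf L).card := by
    intro L hL
    obtain ⟨v, hv, rfl⟩ := hline L hL
    have hmem : ∀ {g}, g ∈ Tf (Submodule.span F {v}) ↔ g ∈ G ∧ g v = v := fun {g} => by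
      simp [Tf, mG, mem_fix]
    have hsign : ∀ g ∈ St (Submodule.span F {v}), g ∈ G ∧ (g v = v ∨ g v = -v) := by
      intro g hg
      obtain ⟨hg, hgL⟩ := Finset.mem_filter.1 hg
      refine ⟨mG.1 hg, ?_⟩
      have : g v ∈ Submodule.span F {v} :=
        hgL.le (Submodule.mem_map_of_mem (f := (g : (Fin 3 → F) →ₗ[F] (Fin 3 → F)))
          (Submodule.mem_span_singleton_self v))
      obtain ⟨a, ha⟩ := Submodule.mem_span_singleton.1 this
      have hh := hD g (mG.1 hg) v v
      rw [← ha, D_smul_left, D_smul_right] at hh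
      have ha2 : a * a = 1 := by
        have : (a * a - 1) * D q v v = 0 := by linear_combination hh
        exact sub_eq_zero.1 ((mul_eq_zero.1 this).resolve_right hv)
      rcases mul_self_eq_one_iff.1 ha2 with rfl | rfl
      · left; rw [← ha, one_smul]
      · right; rw [← ha, neg_one_smul]
    have hpm : ∀ {g}, g ∈ G → (g v = v ∨ g v = -v) → g ∈ St (Submodule.span F {v}) := by
      intro g hg h
      refine Finset.mem_filter.2 ⟨mG.2 hg, ?_⟩
      simp only [act, Submodule.map_span, Set.image_singleton, LinearEquiv.coe_coe]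
      rcases h with h | h
      · rw [h]
      · rw [h, span_neg']
    by_cases hex : ∃ h ∈ G, h v = -v
    · obtain ⟨h, hh, hhv⟩ := hex
      right
      have hv0 : v ≠ -v := fun e => by
        have : (2 : F) • v = 0 := by rw [two_smul]; nth_rw 1 [e]; exact neg_add_cancel v
        rw [smul_eq_zero] at this
        exact hv (by simp [this.resolve_left h2, D])
      have hsplit : St (Submodule.span F {v}) = Tf (Submodule.span F {v}) ∪
          (Tf (Submodule.span F {v})).image (h * ·) := by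
        ext g
        rw [Finset.mem_union, Finset.mem_image]
        constructor
        · intro hg
          obtain ⟨hgG, hgv | hgv⟩ := hsign g hg
          · exact Or.inl (hmem.2 ⟨hgG, hgv⟩)
          · refine Or.inr ⟨h⁻¹ * g, hmem.2 ⟨G.mul_mem (G.inv_mem hh) hgG, ?_⟩, by simp⟩
            rw [LinearEquiv.mul_apply, hgv, ← hhv, ← LinearEquiv.mul_apply, inv_mul_cancel]
            rfl
        · rintro (hg | ⟨x, hx, rfl⟩)
          · exact hpm (hmem.1 hg).1 (Or.inl (hmem.1 hg).2)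
          · exact hpm (G.mul_mem hh (hmem.1 hx).1) (Or.inr (by rw [LinearEquiv.mul_apply, (hmem.1 hx).2, hhv]))
      rw [hsplit, Finset.card_union_of_disjoint, Finset.card_image_of_injective _ (mul_right_injective h), two_mul]
      refine Finset.disjoint_left.2 fun g hg hg' => ?_
      obtain ⟨x, hx, rfl⟩ := Finset.mem_image.1 hg'
      have h1 := (hmem.1 hg).2
      rw [LinearEquiv.mul_apply, (hmem.1 hx).2, hhv] at h1
      exact hv0 h1.symm
    · left
      congr 1
      refine Finset.Subset.antisymm (fun g hg => ?_) fun g hg => hpm (hmem.1 hg).1 (Or.inl (hmem.1 hg).2)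
      obtain ⟨hgG, hgv | hgv⟩ := hsign g hg
      · exact hmem.2 ⟨hgG, hgv⟩
      · exact absurd ⟨g, hgG, hgv⟩ hex
  -- the orbit of the given axis
  set L₁ := Submodule.span F {v₁} with hL₁
  have hTf₁ : ∀ g, g ∈ Tf L₁ ↔ g ∈ G ∧ g v₁ = v₁ := fun g => by simp [Tf, hL₁, mG, mem_fix]
  have hm6 := hT (Tf L₁) hTf₁
  have hL₁mem : L₁ ∈ lines := by
    obtain ⟨g, hg, hg1⟩ := Finset.exists_mem_ne (show 1 < (Tf L₁).card by omega) 1
    obtain ⟨hgG, hgv⟩ := (hTf₁ g).1 hg
    refine Finset.mem_image.2 ⟨g, Finset.mem_erase.2 ⟨hg1, mG.2 hgG⟩, ?_⟩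
    obtain ⟨v, -, hv⟩ := hax g hgG hg1
    have hv0 : v₁ ≠ 0 := fun h => hv₁ (by simp [h, D])
    refine (Submodule.eq_of_le_of_finrank_le ((Submodule.span_singleton_le_iff_mem _ _).2 (mem_fix.2 hgv)) ?_).symm
    rw [hv, finrank_span_singleton hv0]
    exact (finrank_span_le_card ({v} : Set (Fin 3 → F))).trans (by simp)
  have hst₁ : (St L₁).card = 2 * (Tf L₁).card := by
    rcases hSt L₁ hL₁mem with h | h
    · exfalso
      have hsub : Tf L₁ ⊂ St L₁ := by
        refine Finset.ssubset_iff_subset_ne.2 ⟨fun g hg => Finset.mem_filter.2 ⟨mG.2 ((hTf₁ g).1 hg).1, ?_⟩,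
          fun heq' => ?_⟩
        · simp only [act, hL₁, Submodule.map_span, Set.image_singleton, LinearEquiv.coe_coe, ((hTf₁ g).1 hg).2]
        · have hf : flip ∈ St L₁ := Finset.mem_filter.2 ⟨mG.2 hflip, by
            simp only [act, hL₁, Submodule.map_span, Set.image_singleton, LinearEquiv.coe_coe, hflip',
              span_neg']⟩
          rw [← heq', hTf₁] at hf
          have : (2 : F) • v₁ = 0 := by rw [two_smul]; nth_rw 1 [← hf.2, hflip']; exact neg_add_cancel v₁
          exact hv₁ (by simp [(smul_eq_zero.1 this).resolve_left h2, D])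
      exact (Finset.card_lt_card hsub).ne h.symm
    · exact h
  set m := (Tf L₁).card with hm
  set a := (orb L₁).card with ha
  have hNa : Gs.card = 2 * m * a := by rw [← horb L₁, hst₁]; ring
  have ha2 : 2 ≤ a := by
    refine Finset.one_lt_card.2 ⟨L₁, Finset.mem_image.2 ⟨1, mG.2 G.one_mem, actone _⟩, act w L₁,
      Finset.mem_image.2 ⟨w, mG.2 hw, rfl⟩, fun h => ?_⟩
    have hw1 : w v₁ ∈ act w L₁ :=
      Submodule.mem_map_of_mem (f := (w : (Fin 3 → F) →ₗ[F] (Fin 3 → F))) (Submodule.mem_span_singleton_self v₁)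
    rw [← h] at hw1
    obtain ⟨x, hx⟩ := Submodule.mem_span_singleton.1 hw1
    exact hw' x hx.symm
  have horbsub : ∀ L ∈ lines, orb L ⊆ lines := fun L hL M hM => by
    obtain ⟨g, hg, rfl⟩ := Finset.mem_image.1 hM
    exact hinv L hL g (mG.1 hg)
  have hclosed : ∀ L M, M ∈ orb L → ∀ g ∈ G, act g M ∈ orb L := fun L M hM g hg => by
    obtain ⟨h, hh, rfl⟩ := Finset.mem_image.1 hM
    exact Finset.mem_image.2 ⟨g * h, mG.2 (G.mul_mem hg (mG.1 hh)), actmul _ _ _⟩
  have hsumorb : ∀ L, ∑ M ∈ orb L, ((Tf M).card - 1) = (orb L).card * ((Tf L).card - 1) := fun L => by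
    rw [Finset.sum_congr rfl (g := fun _ => (Tf L).card - 1), Finset.sum_const, smul_eq_mul]
    intro M hM
    obtain ⟨g, hg, rfl⟩ := Finset.mem_image.1 hM
    rw [hTconj L g (mG.1 hg)]
  have hsplit : ∀ (s : Finset (Submodule F (Fin 3 → F))) L, L ∈ lines → (∀ M ∈ s, ∀ g ∈ G, act g M ∈ s) → L ∈ s →
      ∑ M ∈ s, ((Tf M).card - 1) = (orb L).card * ((Tf L).card - 1) + ∑ M ∈ s \ orb L, ((Tf M).card - 1) ∧
        ∀ M ∈ s \ orb L, ∀ g ∈ G, act g M ∈ s \ orb L := by
    intro s L _ hs hLs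
    have hsub : orb L ⊆ s := fun M hM => by
      obtain ⟨g, hg, rfl⟩ := Finset.mem_image.1 hM
      exact hs L hLs g (mG.1 hg)
    refine ⟨by rw [← hsumorb, add_comm, Finset.sum_sdiff hsub], fun M hM g hg => ?_⟩
    obtain ⟨hMs, hMo⟩ := Finset.mem_sdiff.1 hM
    refine Finset.mem_sdiff.2 ⟨hs M hMs g hg, fun h => hMo ?_⟩
    have := hclosed L _ h g⁻¹ (G.inv_mem hg)
    rwa [← actmul, inv_mul_cancel, actone] at this
  have hbound : ∀ L ∈ lines, m * a ≤ 2 * ((orb L).card * ((Tf L).card - 1)) := by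
    intro L hL
    have h1 := horb L
    rw [hNa] at h1
    have h3 := hTtwo L hL
    obtain ⟨t, ht⟩ : ∃ t, (Tf L).card = t + 2 := ⟨(Tf L).card - 2, by omega⟩
    rw [ht, show t + 2 - 1 = t + 1 by omega]
    rcases hSt L hL with h | h <;> rw [h, ht] at h1 <;> nlinarith
  obtain ⟨e1, hs1⟩ := hsplit lines L₁ hL₁mem (fun M hM g hg => hinv M hM g hg) hL₁mem
  rw [← hsum, hNa] at e1
  set s₁ := lines \ orb L₁
  have e1' : ∑ M ∈ s₁, ((Tf M).card - 1) + 1 = a * (m + 1) := by
    replace e1 : 2 * m * a - 1 = a * (m - 1) + ∑ M ∈ s₁, ((Tf M).card - 1) := e1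
    obtain ⟨m', hm'⟩ : ∃ k, m = k + 1 := ⟨m - 1, by omega⟩
    rw [hm', show m' + 1 - 1 = m' by omega] at e1
    rw [hm']
    have h2ma : 1 ≤ 2 * (m' + 1) * a := by nlinarith
    have := Nat.sub_add_cancel h2ma
    nlinarith
  rcases s₁.eq_empty_or_nonempty with h | ⟨L₂, hL₂⟩
  · rw [h, Finset.sum_empty] at e1'
    nlinarith
  have hL₂mem := (Finset.mem_sdiff.1 hL₂).1
  obtain ⟨e2, hs2⟩ := hsplit s₁ L₂ hL₂mem hs1 hL₂
  set s₂ := s₁ \ orb L₂
  rcases s₂.eq_empty_or_nonempty with h | ⟨L₃, hL₃⟩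
  · rw [e2, h, Finset.sum_empty, add_zero] at e1'
    exact count_arith_one hm6 ha2 (hTtwo L₂ hL₂mem) (by rw [horb, hNa]) (hSt L₂ hL₂mem) e1'
  have hL₃mem := (Finset.mem_sdiff.1 (Finset.mem_sdiff.1 hL₃).1).1
  obtain ⟨e3, -⟩ := hsplit s₂ L₃ hL₃mem hs2 hL₃
  set s₃ := s₂ \ orb L₃
  rcases s₃.eq_empty_or_nonempty with h | ⟨L₄, hL₄⟩
  · rw [e2, e3, h, Finset.sum_empty, add_zero] at e1'
    exact count_arith_two hm6 ha2 (hTtwo L₂ hL₂mem) (hTtwo L₃ hL₃mem) (by rw [horb, hNa]) (hSt L₂ hL₂mem)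
      (by rw [horb, hNa]) (hSt L₃ hL₃mem) e1'
  have hs₂sub : ∀ {M}, M ∈ s₂ → M ∈ lines := fun h => (Finset.mem_sdiff.1 (Finset.mem_sdiff.1 h).1).1
  have hL₄mem := hs₂sub (Finset.mem_sdiff.1 hL₄).1
  have hs3 : ∀ M ∈ s₃, ∀ g ∈ G, act g M ∈ s₃ := (hsplit s₂ L₃ hL₃mem hs2 hL₃).2
  obtain ⟨e4, -⟩ := hsplit s₃ L₄ hL₄mem hs3 hL₄
  have b2 := hbound L₂ hL₂mem
  have b3 := hbound L₃ hL₃mem
  have b4 := hbound L₄ hL₄mem
  rw [e2, e3, e4] at e1'
  have h6 : 6 * a ≤ m * a := Nat.mul_le_mul_right _ hm6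
  rw [show a * (m + 1) = m * a + a by ring] at e1'
  omega

end Group

end Cfsg.Agent.H97.Frame.Three
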