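import Cfsg.Agent.H97.Frame.Mono

/-!
Splitting off invariant coordinate subspaces: elements of the subgroup preserving them are monomial on them.
-/

set_option autoImplicit false

namespace Cfsg.Agent.H97.Frame

open QuadraticMap Module Cfsg.Agent.Orthogonal

variable {F V ι : Type*} [Field F] [AddCommGroup V] [Module F V] [Fintype ι] [DecidableEq ι]
variable {Q : QuadraticForm F V} {e : ι → V} {c : F} {H : ONB Q e c} {X : Subgroup (O Q)}

theorem ONB.exists_pre (H : ONB Q e c) {g : O Q} {B : Finset ι}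
    (hpres : ∀ b ∈ B, (g : V ≃ₗ[F] V) (e b) ∈ H.sub B) {v : V} (hv : v ∈ H.sub B) :
    ∃ u ∈ H.sub B, (g : V ≃ₗ[F] V) u = v := by
  classical
  have := H.finite
  have hle : (H.sub B).map ((g : V ≃ₗ[F] V) : V →ₗ[F] V) ≤ H.sub B := by
    refine (Submodule.map_mono H.sub_le_span).trans ?_
    rw [Submodule.map_span, Submodule.span_le]
    rintro _ ⟨x, hx, rfl⟩
    obtain ⟨b, hb, rfl⟩ := Finset.mem_image.1 hx
    exact hpres b hb
  have heq := Submodule.eq_of_le_of_finrank_le hle (by rw [LinearEquiv.finrank_map_eq])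
  rw [← heq] at hv
  exact hv

theorem ONB.compl_mem (H : ONB Q e c) {g : O Q} {A B : Finset ι} (hs : H.Supp g A)
    (hpres : ∀ b ∈ B, (g : V ≃ₗ[F] V) (e b) ∈ H.sub B) {a : ι} (ha : a ∈ A \ B) :
    (g : V ≃ₗ[F] V) (e a) ∈ H.sub (A \ B) := by
  obtain ⟨haA, haB⟩ := Finset.mem_sdiff.1 ha
  intro i hi
  rcases (em (i ∈ B)) with hiB | hiB
  · obtain ⟨u, hu, hgu⟩ := H.exists_pre hpres (H.e_mem_sub hiB)
    rw [ONB.co, ← hgu, H.dot_app, H.dot_comm]
    exact hu a haB
  · exact ONB.Supp.co_app H hs haA fun h => hi (Finset.mem_sdiff.2 ⟨h, hiB⟩)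

variable (hX : Over H X)
include hX

/-- The facts about the conjugate of a three-cycle used below. -/
theorem Over.triple {g : O Q} (hg : g ∈ X) {B : Finset ι} (hB : Small H X B)
    (hpres : ∀ b ∈ B, (g : V ≃ₗ[F] V) (e b) ∈ H.sub B) {b i j : ι} (hb : b ∈ B) (hi : i ∈ B) (hj : j ∈ B)
    (hbi : b ≠ i) (hbj : b ≠ j) (hij : i ≠ j) {s s' : F} (hs : s * s = 1) (hs' : s' * s' = 1) :
    ∃ T : Finset ι, T.card = 3 ∧ T ⊆ B ∧
      (g : V ≃ₗ[F] V) (e b) - s • (g : V ≃ₗ[F] V) (e i) ∈ H.sub T ∧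
      s • (g : V ≃ₗ[F] V) (e i) - s' • (g : V ≃ₗ[F] V) (e j) ∈ H.sub T ∧
      (∀ x ∈ T, ∀ y ∈ T,
        H.co x ((g : V ≃ₗ[F] V) (e b + s • e i + s' • e j)) * H.co x ((g : V ≃ₗ[F] V) (e b + s • e i + s' • e j)) =
        H.co y ((g : V ≃ₗ[F] V) (e b + s • e i + s' • e j)) * H.co y ((g : V ≃ₗ[F] V) (e b + s • e i + s' • e j))) ∧
      ∀ x ∈ T, H.co x ((g : V ≃ₗ[F] V) (e b) - s • (g : V ≃ₗ[F] V) (e i)) = 0 → ∀ y ∈ T, ∀ z ∈ T,
        y ≠ x → z ≠ x →
        H.co y ((g : V ≃ₗ[F] V) (e b) - s • (g : V ≃ₗ[F] V) (e i)) *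
          H.co y ((g : V ≃ₗ[F] V) (e b) - s • (g : V ≃ₗ[F] V) (e i)) =
        H.co z ((g : V ≃ₗ[F] V) (e b) - s • (g : V ≃ₗ[F] V) (e i)) *
          H.co z ((g : V ≃ₗ[F] V) (e b) - s • (g : V ≃ₗ[F] V) (e i)) := by
  have hunit : ∀ {r : F}, r * r = 1 → ∀ k, Q (r • e k) = c := fun hr k => by
    rw [qmap_smul, H.val, pow_two, hr, one_mul]
  have hd : ∀ {r r' : F} {k l : ι}, k ≠ l → H.dot (r • e k) (r' • e l) = 0 := fun {r r' k l} hkl => by
    rw [H.dot_smul_left, H.dot_smul_right, show H.dot (e k) (e l) = 0 from H.co_ne hkl, mul_zero, mul_zero]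
  have d1 : H.dot (e b) (s • e i) = 0 := by
    rw [H.dot_smul_right, show H.dot (e b) (e i) = 0 from H.co_ne hbi, mul_zero]
  have d2 : H.dot (e b) (s' • e j) = 0 := by
    rw [H.dot_smul_right, show H.dot (e b) (e j) = 0 from H.co_ne hbj, mul_zero]
  have d3 : H.dot (s • e i) (s' • e j) = 0 := hd hij
  set x := (g : V ≃ₗ[F] V) (e b) with hx
  set y := (g : V ≃ₗ[F] V) (s • e i) with hy
  set z := (g : V ≃ₗ[F] V) (s' • e j) with hz
  obtain ⟨tx, ty, tz, tfix⟩ := H.cyc_app (x := x) (y := y) (z := z) (by rw [hx, O.map_app, H.val])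
    (by rw [hy, O.map_app, hunit hs]) (by rw [hz, O.map_app, hunit hs']) (by rw [hx, hy, H.dot_app]; exact d1)
    (by rw [hx, hz, H.dot_app]; exact d2) (by rw [hy, hz, H.dot_app]; exact d3)
  set t := rO Q (x - y) * rO Q (y - z) with ht
  have htX : t ∈ X := by
    have hm : rO Q (e b - s • e i) * rO Q (s • e i - s' • e j) ∈ H.mono :=
      H.mono.mul_mem
        (H.isMono_sub (H.ax_e b) ((H.ax_e i).smul H s) (H.val b) (hunit hs i) d1)
        (H.isMono_sub ((H.ax_e i).smul H s) ((H.ax_e j).smul H s') (hunit hs i) (hunit hs' j) d3)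
    have h := Over.conj hg (hX.cyc (H.val b) (hunit hs i) (hunit hs' j) d1 d3 hm)
    rw [show g * (rO Q (e b - s • e i) * rO Q (s • e i - s' • e j)) * g⁻¹ =
      g * rO Q (e b - s • e i) * g⁻¹ * (g * rO Q (s • e i - s' • e j) * g⁻¹) by group, conj_rO, conj_rO,
      map_sub, map_sub, ← hx, ← hy, ← hz] at h
    exact h
  have hxs : x ∈ H.sub B := hpres b hb
  have hys : y ∈ H.sub B := by rw [hy, map_smul]; exact Submodule.smul_mem _ _ (hpres i hi)
  have hzs : z ∈ H.sub B := by rw [hz, map_smul]; exact Submodule.smul_mem _ _ (hpres j hj)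
  have htB : H.Supp t B :=
    ONB.Supp.mul H (H.rO_supp (sub_mem hxs hys)) (H.rO_supp (sub_mem hys hzs))
  have ex : Q x = c := by rw [hx, O.map_app, H.val]
  have ey : Q y = c := by rw [hy, O.map_app, hunit hs]
  have ez : Q z = c := by rw [hz, O.map_app, hunit hs']
  have dxy : H.dot x y = 0 := by rw [hx, hy, H.dot_app]; exact d1
  have dxz : H.dot x z = 0 := by rw [hx, hz, H.dot_app]; exact d2
  have dyz : H.dot y z = 0 := by rw [hy, hz, H.dot_app]; exact d3
  have tdec : ∀ v, (t : V ≃ₗ[F] V) v = v - H.dot x v • (x - y) - H.dot y v • (y - z) - H.dot z v • (z - x) := by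
    intro v
    have h := tfix (v - H.dot x v • x - H.dot y v • y - H.dot z v • z) ?_ ?_ ?_
    · rw [map_sub, map_sub, map_sub, map_smul, map_smul, map_smul, tx, ty, tz, sub_eq_iff_eq_add,
        sub_eq_iff_eq_add, sub_eq_iff_eq_add] at h
      rw [h]; module
    · simp only [H.dot_sub_right, H.dot_smul_right, H.dot_self_unit ex, dxy, dxz]; ring
    · simp only [H.dot_sub_right, H.dot_smul_right, H.dot_self_unit ey, H.dot_comm y x, dxy, dyz]; ring
    · simp only [H.dot_sub_right, H.dot_smul_right, H.dot_self_unit ez, H.dot_comm z x, H.dot_comm z y, dxz, dyz]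
      ring
  have h3 : t ^ 3 = 1 := O.ext_app fun v => by
    have h := tdec v
    rw [pow_succ, pow_two, Subgroup.coe_mul, Subgroup.coe_mul, mul_app, mul_app, h]
    simp only [map_sub, map_smul, tx, ty, tz]
    rw [h]
    simp only [map_sub, map_smul, tx, ty, tz]
    rw [h]
    simp
    module
  have hxy : x ≠ y := fun h => by
    rw [h, H.dot_self_unit ey] at dxy
    exact one_ne_zero dxy
  have hne : t ≠ 1 := fun h => hxy (by rw [← tx, h]; simp)
  obtain ⟨T, hT3, hTmov, hTne, hTfix, hTorth⟩ := H.exists_triple (hB t htX htB) h3 hne (m₁ := x - y) (m₂ := y - z)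
    fun v => Submodule.mem_span_pair.2 ⟨H.dot x v - H.dot z v, H.dot y v - H.dot z v, by rw [tdec]; module⟩
  have hu : x - y ∈ H.sub T := by have h := hTmov x; rwa [tx] at h
  have hu' : y - z ∈ H.sub T := by have h := hTmov y; rwa [ty] at h
  have horth : ∀ w, (t : V ≃ₗ[F] V) w = w → H.dot w (x - y) = 0 := fun w hw => by
    rw [H.dot_sub_right, ← tx]
    conv_lhs => arg 2; rw [← hw, H.dot_app]
    exact sub_self _
  have hTB : T ⊆ B := fun l hl => by
    by_contra hlB
    exact hTne l hl (htB l hlB)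
  have hw : (t : V ≃ₗ[F] V) (x + y + z) = x + y + z := by rw [map_add, map_add, tx, ty, tz]; abel
  have ew : (g : V ≃ₗ[F] V) (e b + s • e i + s' • e j) = x + y + z := by rw [map_add, map_add]
  refine ⟨T, hT3, hTB, ?_, ?_, ?_, ?_⟩
  · rwa [← map_smul, ← hy]
  · rwa [← map_smul, ← hy, ← map_smul, ← hz]
  · intro a ha a' ha'
    rw [ew]
    exact hTfix _ hw a ha a' ha'
  · rw [← map_smul, ← hy]
    exact hTorth (x - y) horth hu

/-- An element preserving a coordinate subspace is monomial on it, apart from two dimensions and four. -/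
theorem Over.proj [Fintype F] (hF : (Fintype.card F).Prime) {g : O Q} (hg : g ∈ X) {B : Finset ι}
    (hB : Small H X B) (h2 : B.card ≠ 2) (h4 : B.card ≠ 4)
    (hpres : ∀ b ∈ B, (g : V ≃ₗ[F] V) (e b) ∈ H.sub B) {b : ι} (hb : b ∈ B) :
    H.Ax ((g : V ≃ₗ[F] V) (e b)) := by
  classical
  set x := (g : V ≃ₗ[F] V) (e b) with hx
  have hx1 : H.dot x x = 1 := H.dot_self_unit (by rw [hx, O.map_app, H.val])
  rcases Nat.lt_or_ge B.card 3 with hlt | hge
  · have h1 : B.card ≤ 1 := by omega
    exact H.ax_of_co (j := b) fun i hi => hpres b hb i fun hiB => hi (Finset.card_le_one.1 h1 i hiB b hb)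
  have h22 : (2 : F) ≠ 0 := H.two
  rcases Nat.eq_or_lt_of_le hge with h3 | h5
  · obtain ⟨i, hi, hib⟩ := Finset.exists_mem_ne (show 1 < B.card by omega) b
    obtain ⟨j, hj, hjb, hji⟩ : ∃ j ∈ B, j ≠ b ∧ j ≠ i := by
      obtain ⟨j, hj⟩ := Finset.exists_mem_notMem_of_card_lt_card (t := B) (s := ({b, i} : Finset ι))
        (by rw [Finset.card_pair hib.symm]; omega)
      exact ⟨j, hj.1, by simpa using hj.2⟩
    have hsq : ∀ {s s' : F}, s * s = 1 → s' * s' = 1 → ∀ l ∈ B,
        H.co l ((g : V ≃ₗ[F] V) (e b + s • e i + s' • e j)) * H.co l ((g : V ≃ₗ[F] V) (e b + s • e i + s' • e j)) = 1 := by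
      intro s s' hs hs' l hl
      obtain ⟨T, hT3, hTB, -, -, hTfix, -⟩ := hX.triple hg hB hpres hb hi hj hib.symm hjb.symm hji.symm hs hs'
      obtain rfl : T = B := Finset.eq_of_subset_of_card_le hTB (by omega)
      set W := (g : V ≃ₗ[F] V) (e b + s • e i + s' • e j) with hW
      have hWs : W ∈ H.sub T := by
        rw [hW, map_add, map_add, map_smul, map_smul]
        exact add_mem (add_mem (hpres b hb) (Submodule.smul_mem _ _ (hpres i hi)))
          (Submodule.smul_mem _ _ (hpres j hj))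
      have e1 : H.dot W W = 3 * (H.co l W * H.co l W) := by
        rw [H.dot_mem_sub hWs, Finset.sum_congr rfl (g := fun _ => H.co l W * H.co l W) fun m hm => hTfix m hm l hl,
          Finset.sum_const, hT3, nsmul_eq_mul]
        norm_num
      have e2 : H.dot W W = 3 := by
        rw [hW, H.dot_app]
        simp only [H.dot_add_left, H.dot_add_right, H.dot_smul_left, H.dot_smul_right, H.dot_self_unit (H.val _),
          show H.dot (e b) (e i) = 0 from H.co_ne hib.symm, show H.dot (e i) (e b) = 0 from H.co_ne hib,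
          show H.dot (e b) (e j) = 0 from H.co_ne hjb.symm, show H.dot (e j) (e b) = 0 from H.co_ne hjb,
          show H.dot (e i) (e j) = 0 from H.co_ne hji.symm, show H.dot (e j) (e i) = 0 from H.co_ne hji]
        linear_combination hs + hs'
      rcases eq_or_ne (3 : F) 0 with h30 | h30
      · have hl0 : H.co l W ≠ 0 := by
          intro h0
          have hW0 : W = 0 := H.ext_co fun m => by
            rw [H.co_zero]
            by_cases hm : m ∈ T
            · have := hTfix m hm l hl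
              rw [h0, mul_zero] at this
              exact mul_self_eq_zero.1 this
            · exact hWs m hm
          rw [hW, LinearEquiv.map_eq_zero_iff] at hW0
          have := congrArg (H.co b) hW0
          rw [H.co_add, H.co_add, H.co_smul, H.co_smul, H.co_self, H.co_ne hib.symm, H.co_ne hjb.symm, H.co_zero]
            at this
          simp at this
        have hchar : CharP F (Fintype.card F) :=
          have := Fact.mk hF
          (CharP.charP_iff_prime_eq_zero hF).2 (FiniteField.cast_card_eq_zero F)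
        have hcard : Fintype.card F = 3 :=
          ((Nat.prime_dvd_prime_iff_eq hF Nat.prime_three).1
            ((CharP.cast_eq_zero_iff F (Fintype.card F) 3).1 (by exact_mod_cast h30)))
        have := FiniteField.pow_card_sub_one_eq_one (H.co l W) hl0
        rwa [hcard, show 3 - 1 = 2 from rfl, pow_two] at this
      · rw [e2] at e1
        exact mul_left_cancel₀ h30 (by rw [← e1, mul_one])
    have hval : ∀ l ∈ B, H.co l x * H.co l x = 0 ∨ H.co l x * H.co l x = 1 := by
      intro l hl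
      have a1 := hsq (one_mul (1 : F)) (one_mul 1) l hl
      have a2 := hsq (s := -1) (s' := -1) (by ring) (by ring) l hl
      have hsum : H.co l ((g : V ≃ₗ[F] V) (e b + (1 : F) • e i + (1 : F) • e j)) +
          H.co l ((g : V ≃ₗ[F] V) (e b + (-1 : F) • e i + (-1 : F) • e j)) = 2 * H.co l x := by
        rw [hx, ← H.co_add, ← map_add, ← H.co_smul, ← map_smul]
        congr 2
        module
      rcases mul_self_eq_one_iff.1 a1 with h | h <;> rcases mul_self_eq_one_iff.1 a2 with h' | h' <;>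
        rw [h, h'] at hsum
      · right
        have : H.co l x = 1 := mul_left_cancel₀ h22 (by linear_combination -hsum)
        rw [this]; ring
      · left; rw [(mul_eq_zero.1 (by linear_combination -hsum : (2 : F) * H.co l x = 0)).resolve_left h22, mul_zero]
      · left; rw [(mul_eq_zero.1 (by linear_combination -hsum : (2 : F) * H.co l x = 0)).resolve_left h22, mul_zero]
      · right
        have : H.co l x = -1 := mul_left_cancel₀ h22 (by linear_combination -hsum)
        rw [this]; ring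
    have hB3 : B = {b, i, j} := (Finset.eq_of_subset_of_card_le (by
      intro l hl
      simp only [Finset.mem_insert, Finset.mem_singleton] at hl
      rcases hl with rfl | rfl | rfl <;> assumption) (by
        rw [Finset.card_insert_of_notMem (by simp [hib.symm, hjb.symm]), Finset.card_pair hji.symm]; omega)).symm
    have hsum := hx1
    rw [H.dot_mem_sub (hpres b hb)] at hsum
    conv at hsum => lhs; arg 1; rw [hB3]
    rw [Finset.sum_insert (by simp [hib.symm, hjb.symm]), Finset.sum_pair hji.symm] at hsum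
    have hax : ∀ k ∈ B, (∀ l ∈ B, l ≠ k → H.co l x * H.co l x = 0) → H.Ax x := fun k _ hzero =>
      H.ax_of_co (j := k) fun l hl => by
        by_cases hlB : l ∈ B
        · exact mul_self_eq_zero.1 (hzero l hlB hl)
        · exact hpres b hb l hlB
    have hmem : ∀ l ∈ B, l = b ∨ l = i ∨ l = j := fun l hl => by rw [hB3] at hl; simpa using hl
    rcases hval b hb with p | p <;> rcases hval i hi with q | q <;> rcases hval j hj with r | r <;>
      rw [p, q, r] at hsum <;>
      first
        | (refine hax b hb fun l hl hne => ?_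
           rcases hmem l hl with rfl | rfl | rfl <;> first | exact absurd rfl hne | assumption)
        | (refine hax i hi fun l hl hne => ?_
           rcases hmem l hl with rfl | rfl | rfl <;> first | exact absurd rfl hne | assumption)
        | (refine hax j hj fun l hl hne => ?_
           rcases hmem l hl with rfl | rfl | rfl <;> first | exact absurd rfl hne | assumption)
        | (exfalso; apply one_ne_zero (α := F); linear_combination hsum)
        | (exfalso; apply one_ne_zero (α := F); linear_combination -hsum)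
        | (exfalso; apply h22; linear_combination hsum)
  have hfive : 5 ≤ B.card := by omega
  -- combinations of two images have two coordinates
  have hpair : ∀ {i : ι}, i ∈ B → i ≠ b → ∀ {s : F}, s * s = 1 → ∃ p q, p ≠ q ∧
      x - s • (g : V ≃ₗ[F] V) (e i) ∈ H.sub {p, q} ∧
      ∀ l ∈ ({p, q} : Finset ι),
        H.co l (x - s • (g : V ≃ₗ[F] V) (e i)) * H.co l (x - s • (g : V ≃ₗ[F] V) (e i)) = 1 := by
    intro i hi hib s hs
    obtain ⟨d, hd, d', hd', hdd⟩ := Finset.one_lt_card.1 (show 1 < (B \ {b, i}).card by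
      have := Finset.le_card_sdiff ({b, i} : Finset ι) B
      rw [Finset.card_pair hib.symm] at this
      omega)
    simp only [Finset.mem_sdiff, Finset.mem_insert, Finset.mem_singleton, not_or] at hd hd'
    obtain ⟨T₁, hT₁, hTB₁, hu₁, hv₁, -, ho₁⟩ :=
      hX.triple hg hB hpres hb hi hd.1 hib.symm (Ne.symm hd.2.1) (Ne.symm hd.2.2) hs (s' := 1) (one_mul 1)
    obtain ⟨T₂, hT₂, -, hu₂, hv₂, -, -⟩ :=
      hX.triple hg hB hpres hb hi hd.1 hib.symm (Ne.symm hd.2.1) (Ne.symm hd.2.2) hs (s' := -1) (by ring)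
    obtain ⟨T₃, hT₃, -, hu₃, hv₃, -, -⟩ :=
      hX.triple hg hB hpres hb hi hd'.1 hib.symm (Ne.symm hd'.2.1) (Ne.symm hd'.2.2) hs (s' := 1) (one_mul 1)
    rw [← hx] at hu₁ hu₂ hu₃ ho₁
    by_cases hz : ∃ l ∈ T₁, H.co l (x - s • (g : V ≃ₗ[F] V) (e i)) = 0
    · obtain ⟨l, hl, hl0⟩ := hz
      obtain ⟨p, q, hpq, hT⟩ := Finset.card_eq_two.1 (by
        rw [Finset.card_erase_of_mem hl, hT₁] : (T₁.erase l).card = 2)
      have hmem : ∀ m, m ∈ ({p, q} : Finset ι) → m ∈ T₁ ∧ m ≠ l := fun m hm => by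
        rw [← hT] at hm; exact ⟨(Finset.mem_erase.1 hm).2, (Finset.mem_erase.1 hm).1⟩
      have hsub : x - s • (g : V ≃ₗ[F] V) (e i) ∈ H.sub {p, q} := fun m hm => by
        rcases eq_or_ne m l with rfl | hml
        · exact hl0
        · exact hu₁ m fun hmT => hm (by rw [← hT]; exact Finset.mem_erase.2 ⟨hml, hmT⟩)
      have hnorm : H.dot (x - s • (g : V ≃ₗ[F] V) (e i)) (x - s • (g : V ≃ₗ[F] V) (e i)) = 2 := by
        rw [hx, H.dot_sub_left, H.dot_sub_right, H.dot_sub_right, H.dot_smul_left, H.dot_smul_left,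
          H.dot_smul_right, H.dot_smul_right, H.dot_app, H.dot_app, H.dot_app, H.dot_app,
          show H.dot (e b) (e i) = 0 from H.co_ne hib.symm, show H.dot (e i) (e b) = 0 from H.co_ne hib,
          H.dot_self_unit (H.val b), H.dot_self_unit (H.val i)]
        linear_combination hs
      refine ⟨p, q, hpq, hsub, fun m hm => ?_⟩
      rw [H.dot_mem_sub hsub, Finset.sum_congr rfl
        (g := fun _ => H.co m (x - s • (g : V ≃ₗ[F] V) (e i)) * H.co m (x - s • (g : V ≃ₗ[F] V) (e i)))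
        (fun k hk => ho₁ l hl hl0 k (hmem k hk).1 m (hmem m hm).1 (hmem k hk).2 (hmem m hm).2),
        Finset.sum_const, Finset.card_pair hpq, nsmul_eq_mul] at hnorm
      exact mul_left_cancel₀ h22 (by rw [mul_one]; simpa using hnorm)
    · exfalso
      push Not at hz
      have hsame : ∀ {T : Finset ι}, T.card = 3 → x - s • (g : V ≃ₗ[F] V) (e i) ∈ H.sub T → T = T₁ :=
        fun {T} hT hu => (Finset.eq_of_subset_of_card_le
          (fun l hl => by_contra fun hlT => hz l hl (hu l hlT)) (by omega)).symm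
      rw [hsame hT₂ hu₂] at hv₂
      rw [hsame hT₃ hu₃] at hv₃
      rw [one_smul] at hv₁ hv₃
      rw [neg_one_smul, sub_neg_eq_add] at hv₂
      have hgi : s • (g : V ≃ₗ[F] V) (e i) ∈ H.sub T₁ := by
        have h := Submodule.smul_mem _ (2 : F)⁻¹ (add_mem hv₁ hv₂)
        rwa [show (2 : F)⁻¹ • (s • (g : V ≃ₗ[F] V) (e i) - (g : V ≃ₗ[F] V) (e d) +
          (s • (g : V ≃ₗ[F] V) (e i) + (g : V ≃ₗ[F] V) (e d))) =
          ((2 : F)⁻¹ * 2) • (s • (g : V ≃ₗ[F] V) (e i)) by module, inv_mul_cancel₀ h22, one_smul] at h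
      have hgd : (g : V ≃ₗ[F] V) (e d) ∈ H.sub T₁ := by
        have h := sub_mem hgi hv₁; rwa [sub_sub_cancel] at h
      have hgd' : (g : V ≃ₗ[F] V) (e d') ∈ H.sub T₁ := by
        have h := sub_mem hgi hv₃; rwa [sub_sub_cancel] at h
      have hgb : x ∈ H.sub T₁ := by have h := add_mem hu₁ hgi; rwa [sub_add_cancel] at h
      have hgi' : (g : V ≃ₗ[F] V) (e i) ∈ H.sub T₁ := by
        have h := Submodule.smul_mem _ s hgi
        rwa [smul_smul, hs, one_smul] at h
      have := H.card_le_of_orth (S := ({b, i, d, d'} : Finset ι)) (f := fun k => (g : V ≃ₗ[F] V) (e k)) (T := T₁)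
        (fun k _ => by rw [O.map_app, H.val]; exact H.c0) (fun k _ l _ hkl => by rw [H.dot_app]; exact H.co_ne hkl)
        (fun k hk => by
          simp only [Finset.mem_insert, Finset.mem_singleton] at hk
          rcases hk with rfl | rfl | rfl | rfl
          exacts [hgb, hgi', hgd, hgd'])
      rw [hT₁, Finset.card_insert_of_notMem (by simp [hib.symm, Ne.symm hd.2.1, Ne.symm hd'.2.1]),
        Finset.card_insert_of_notMem (by simp [Ne.symm hd.2.2, Ne.symm hd'.2.2]), Finset.card_pair hdd] at this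
      omega
  -- the image of `b` with a partner
  have hunion : ∀ {i : ι}, i ∈ B → i ≠ b → H.Ax x ∨ ∃ U : Finset ι, U.card ≤ 4 ∧ x ∈ H.sub U ∧
      (g : V ≃ₗ[F] V) (e i) ∈ H.sub U ∧ ∀ l ∈ U, H.co l x ≠ 0 := by
    intro i hi hib
    obtain ⟨p, q, hpq, hu, hu1⟩ := hpair hi hib (one_mul (1 : F))
    obtain ⟨p', q', hpq', hw, hw1⟩ := hpair hi hib (s := -1) (by ring)
    rw [one_smul] at hu hu1
    rw [neg_one_smul, sub_neg_eq_add] at hw hw1
    set S : Finset ι := {p, q} with hS
    set S' : Finset ι := {p', q'} with hS'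
    have hu' := H.sub_mono (Finset.subset_union_left (s₁ := S) (s₂ := S')) hu
    have hw' := H.sub_mono (Finset.subset_union_right (s₁ := S) (s₂ := S')) hw
    have hxU : x ∈ H.sub (S ∪ S') := by
      have h := Submodule.smul_mem _ (2 : F)⁻¹ (add_mem hu' hw')
      rwa [show (2 : F)⁻¹ • (x - (g : V ≃ₗ[F] V) (e i) + (x + (g : V ≃ₗ[F] V) (e i))) = ((2 : F)⁻¹ * 2) • x by
        module, inv_mul_cancel₀ h22, one_smul] at h
    have hiU : (g : V ≃ₗ[F] V) (e i) ∈ H.sub (S ∪ S') := by
      have h := Submodule.smul_mem _ (2 : F)⁻¹ (sub_mem hw' hu')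
      rwa [show (2 : F)⁻¹ • (x + (g : V ≃ₗ[F] V) (e i) - (x - (g : V ≃ₗ[F] V) (e i))) =
        ((2 : F)⁻¹ * 2) • (g : V ≃ₗ[F] V) (e i) by module, inv_mul_cancel₀ h22, one_smul] at h
    have htwo : ∀ l, 2 * H.co l x =
        H.co l (x - (g : V ≃ₗ[F] V) (e i)) + H.co l (x + (g : V ≃ₗ[F] V) (e i)) := fun l => by
      rw [H.co_sub, H.co_add]; ring
    have honly : ∀ l ∈ S \ S', (2 * H.co l x) * (2 * H.co l x) = 1 := fun l hl => by
      obtain ⟨hl1, hl2⟩ := Finset.mem_sdiff.1 hl
      rw [htwo, hw l hl2, add_zero]; exact hu1 l hl1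
    have honly' : ∀ l ∈ S' \ S, (2 * H.co l x) * (2 * H.co l x) = 1 := fun l hl => by
      obtain ⟨hl1, hl2⟩ := Finset.mem_sdiff.1 hl
      rw [htwo, hu l hl2, zero_add]; exact hw1 l hl1
    have hboth : ∀ l ∈ S, l ∈ S' → H.co l x = 0 ∨ H.co l x * H.co l x = 1 := fun l hl hl' => by
      have h := htwo l
      rcases mul_self_eq_one_iff.1 (hu1 l hl) with e1 | e1 <;> rcases mul_self_eq_one_iff.1 (hw1 l hl') with e2 | e2 <;>
        rw [e1, e2] at h
      · right; rw [mul_left_cancel₀ h22 (show 2 * H.co l x = 2 * 1 by linear_combination h)]; ring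
      · left; exact mul_left_cancel₀ h22 (show 2 * H.co l x = 2 * 0 by linear_combination h)
      · left; exact mul_left_cancel₀ h22 (show 2 * H.co l x = 2 * 0 by linear_combination h)
      · right; rw [mul_left_cancel₀ h22 (show 2 * H.co l x = 2 * (-1) by linear_combination h)]; ring
    by_cases hdis : Disjoint S S'
    · refine Or.inr ⟨S ∪ S', ?_, hxU, hiU, fun l hl h0 => ?_⟩
      · refine (Finset.card_union_le _ _).trans ?_
        rw [hS, hS', Finset.card_pair hpq, Finset.card_pair hpq']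
      · rcases Finset.mem_union.1 hl with h | h
        · have := honly l (Finset.mem_sdiff.2 ⟨h, Finset.disjoint_left.1 hdis h⟩)
          rw [h0, mul_zero, mul_zero] at this; exact zero_ne_one this
        · have := honly' l (Finset.mem_sdiff.2 ⟨h, Finset.disjoint_right.1 hdis h⟩)
          rw [h0, mul_zero, mul_zero] at this; exact zero_ne_one this
    left
    obtain ⟨a, haS, haS'⟩ := Finset.not_disjoint_iff.1 hdis
    obtain ⟨r, har, hSa⟩ : ∃ r, a ≠ r ∧ S = {a, r} := by
      rcases (by simpa [hS] using haS : a = p ∨ a = q) with rfl | rfl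
      · exact ⟨q, hpq, hS⟩
      · exact ⟨p, hpq.symm, by rw [hS, Finset.pair_comm]⟩
    obtain ⟨r', har', hSa'⟩ : ∃ r, a ≠ r ∧ S' = {a, r} := by
      rcases (by simpa [hS'] using haS' : a = p' ∨ a = q') with rfl | rfl
      · exact ⟨q', hpq', hS'⟩
      · exact ⟨p', hpq'.symm, by rw [hS', Finset.pair_comm]⟩
    by_cases hrr : r = r'
    · subst hrr
      have hU : S ∪ S' = {a, r} := by rw [hSa, hSa', Finset.union_self]
      rw [hU] at hxU
      have hsum := hx1
      rw [H.dot_mem_sub hxU, Finset.sum_pair har] at hsum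
      rcases hboth a haS haS' with ha | ha
      · exact H.ax_of_co (j := r) fun l hl => by
          rcases eq_or_ne l a with rfl | hla
          exacts [ha, hxU l (by simp [hla, hl])]
      · refine H.ax_of_co (j := a) fun l hl => ?_
        rcases eq_or_ne l r with rfl | hlr
        · exact mul_self_eq_zero.1 (by linear_combination hsum - ha)
        · exact hxU l (by simp [hl, hlr])
    · exfalso
      have hU : S ∪ S' = {a, r, r'} := by rw [hSa, hSa']; ext; simp only [Finset.mem_union, Finset.mem_insert, Finset.mem_singleton]; tauto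
      rw [hU] at hxU
      have hsum := hx1
      rw [H.dot_mem_sub hxU, Finset.sum_insert (by simp [har, har']), Finset.sum_pair hrr] at hsum
      have er := honly r (by simp [hSa, hSa', Ne.symm har, hrr])
      have er' := honly' r' (by simp [hSa, hSa', Ne.symm har', Ne.symm hrr])
      rcases hboth a haS haS' with ha | ha
      · rw [ha] at hsum
        exact h22 (show (2 : F) = 0 by linear_combination -4 * hsum + er + er')
      · exact h22 (show (2 : F) = 0 by linear_combination 4 * hsum - 4 * ha - er - er')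
  by_contra hax
  obtain ⟨i₀, hi₀, hi₀b⟩ := Finset.exists_mem_ne (show 1 < B.card by omega) b
  obtain ⟨U, hU4, hxU, -, hUne⟩ := (hunion hi₀ hi₀b).resolve_left hax
  have := H.card_le_of_orth (S := B) (f := fun k => (g : V ≃ₗ[F] V) (e k)) (T := U)
    (fun k _ => by rw [O.map_app, H.val]; exact H.c0) (fun k _ l _ hkl => by rw [H.dot_app]; exact H.co_ne hkl)
    (fun k hk => by
      rcases eq_or_ne k b with rfl | hkb
      · exact hxU
      obtain ⟨U', -, -, hkU', hne'⟩ := (hunion hk hkb).resolve_left hax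
      exact H.sub_mono (fun l hl => by_contra fun h => hne' l hl (hxU l h)) hkU')
  omega

/-- An element moving two sets of coordinates to themselves is monomial when the parts are small. -/
theorem Over.split [Fintype F] (hF : (Fintype.card F).Prime) {k : ℕ} (hk : Below H X k) {g : O Q} (hg : g ∈ X)
    {A B : Finset ι} (hs : H.Supp g A) (hBA : B ⊆ A) (hpres : ∀ b ∈ B, (g : V ≃ₗ[F] V) (e b) ∈ H.sub B)
    (hB : B.card < k) (hC : (A \ B).card < k)
    (hex : (B.card = 2 ∨ B.card = 4) → ((A \ B).card = 2 ∨ (A \ B).card = 4) →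
      ∃ i, i ∉ A ∧ B.card + 1 < k) : g ∈ H.mono := by
  have hpresC : ∀ b ∈ A \ B, (g : V ≃ₗ[F] V) (e b) ∈ H.sub (A \ B) := fun b hb => H.compl_mem hs hpres hb
  have hmono : (∀ b ∈ B, H.Ax ((g : V ≃ₗ[F] V) (e b))) → (∀ b ∈ A \ B, H.Ax ((g : V ≃ₗ[F] V) (e b))) →
      g ∈ H.mono := fun h h' i => by
    by_cases hi : i ∈ A
    · by_cases hiB : i ∈ B
      exacts [h i hiB, h' i (Finset.mem_sdiff.2 ⟨hi, hiB⟩)]
    · rw [hs i hi]; exact H.ax_e i
  have hfin : ∀ B C : Finset ι, B ∪ C = A → Disjoint B C → B.card < k →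
      (∀ b ∈ C, (g : V ≃ₗ[F] V) (e b) ∈ H.sub C) → (∀ b ∈ C, H.Ax ((g : V ≃ₗ[F] V) (e b))) → 2 ≤ B.card →
      g ∈ H.mono := by
    intro B C hBC hdis hBk hpC hC h2B
    obtain ⟨a, ha, b, hb, hab⟩ := Finset.one_lt_card.1 (show 1 < B.card by omega)
    obtain ⟨z, hz, hzfix⟩ := H.exists_fix (W := H.mono ⊓ H.suppG C) (C := C)
      (fun i hi => ⟨H.isMono_rO i, ONB.Supp.anti H H.supp_rO (by simpa using hi)⟩)
      (fun i hi j hj hij ε hε => ⟨H.isMono_swp hij hε,
        ONB.Supp.anti H H.supp_swp (by simp [Finset.insert_subset_iff, hi, hj])⟩) (g := g) fun i hi => by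
        obtain ⟨j, hj⟩ := ONB.Ax.eq H (hC i hi) (by rw [O.map_app, H.val])
        refine ⟨j, by_contra fun hjC => ?_, hj⟩
        have h := hpC i hi j hjC
        rcases hj with h' | h' <;> rw [h'] at h <;> simp [H.co_self, H.co_neg] at h
    obtain ⟨k', hk'm, hk's, hzk⟩ := H.adjust hz.1 hab
    have hzkm : z * k' ∈ H.mono := H.mono.mul_mem hz.1 hk'm
    have hzkX : z * k' ∈ X := hX.mem _ hzkm hzk
    have hk'B : H.Supp k' B := ONB.Supp.anti H hk's (by simp [Finset.insert_subset_iff, ha, hb])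
    have hCA : C ⊆ A := hBC ▸ Finset.subset_union_right
    have hgs : H.Supp (z * k' * g) B := by
      intro i hi
      rw [mul_assoc, Subgroup.coe_mul, Subgroup.coe_mul, mul_app, mul_app]
      by_cases hiC : i ∈ C
      · have hfix : (k' : V ≃ₗ[F] V) ((g : V ≃ₗ[F] V) (e i)) = (g : V ≃ₗ[F] V) (e i) :=
          ONB.Supp.fix H hk'B fun l hl => hpC i hiC l (Finset.disjoint_left.1 hdis hl)
        rw [hfix, ← mul_app, ← Subgroup.coe_mul]
        exact hzfix i hiC
      · have hiA : i ∉ A := fun h => by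
          rw [← hBC, Finset.mem_union] at h
          exact h.elim hi hiC
        rw [hs i hiA, hk'B i hi, (show H.Supp z C from hz.2) i hiC]
    have h := hk B hBk _ (X.mul_mem hzkX hg) hgs
    have h' := H.mono.mul_mem (H.mono.inv_mem hzkm) h
    rwa [inv_mul_cancel_left] at h'
  have hCsub : B ∪ (A \ B) = A := Finset.union_sdiff_of_subset hBA
  have hdis : Disjoint B (A \ B) := Finset.disjoint_sdiff
  have hprojB : B.card ≠ 2 → B.card ≠ 4 → ∀ b ∈ B, H.Ax ((g : V ≃ₗ[F] V) (e b)) := fun h2 h4 b hb =>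
    hX.proj hF hg (hk B hB) h2 h4 hpres hb
  have hprojC : (A \ B).card ≠ 2 → (A \ B).card ≠ 4 → ∀ b ∈ A \ B, H.Ax ((g : V ≃ₗ[F] V) (e b)) :=
    fun h2 h4 b hb => hX.proj hF hg (hk _ hC) h2 h4 hpresC hb
  by_cases hCeven : (A \ B).card = 2 ∨ (A \ B).card = 4
  · have h2C : 2 ≤ (A \ B).card := by omega
    have hback : (∀ b ∈ B, H.Ax ((g : V ≃ₗ[F] V) (e b))) → g ∈ H.mono := fun h =>
      hfin (A \ B) B (by rw [Finset.union_comm]; exact hCsub) hdis.symm hC hpres h h2C
    by_cases hBeven : B.card = 2 ∨ B.card = 4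
    · obtain ⟨i, hi, hik⟩ := hex hBeven hCeven
      have hiB : i ∉ B := fun h => hi (hBA h)
      refine hback fun b hb => hX.proj hF hg (hk (insert i B) (by rwa [Finset.card_insert_of_notMem hiB]))
        (by rw [Finset.card_insert_of_notMem hiB]; omega) (by rw [Finset.card_insert_of_notMem hiB]; omega)
        (fun b' hb' => ?_) (Finset.mem_insert_of_mem hb)
      rcases Finset.mem_insert.1 hb' with rfl | hb'
      · rw [hs b' hi]; exact H.e_mem_sub (Finset.mem_insert_self _ _)
      · exact H.sub_mono (Finset.subset_insert _ _) (hpres b' hb')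
    · exact hback (hprojB (fun h => hBeven (Or.inl h)) fun h => hBeven (Or.inr h))
  · have hCax := hprojC (fun h => hCeven (Or.inl h)) fun h => hCeven (Or.inr h)
    by_cases hBeven : B.card = 2 ∨ B.card = 4
    · exact hfin B (A \ B) hCsub hdis hB hpresC hCax (by omega)
    · exact hmono (hprojB (fun h => hBeven (Or.inl h)) fun h => hBeven (Or.inr h)) hCax

/-- Monomial elements of the subgroup carry a set of coordinates to any other of the same size. -/
theorem Over.exists_move {A B B' : Finset ι} (hA : 3 ≤ A.card) (hB : B ⊆ A) (hB' : B' ⊆ A)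
    (hcard : B.card = B'.card) :
    ∃ π ∈ X, π ∈ H.mono ∧ H.Supp π A ∧ ∀ b ∈ B, (π : V ≃ₗ[F] V) (e b) ∈ H.sub B' := by
  induction hn : (B \ B').card using Nat.strong_induction_on generalizing B with
  | _ n ih =>
    subst hn
    rcases (B \ B').eq_empty_or_nonempty with h0 | ⟨b, hb⟩
    · exact ⟨1, X.one_mem, H.mono.one_mem, H.supp_one A, fun b hb => by
        simpa using H.e_mem_sub (Finset.sdiff_eq_empty_iff_subset.1 h0 hb)⟩
    obtain ⟨hbB, hbB'⟩ := Finset.mem_sdiff.1 hb
    obtain ⟨b', hb'B', hb'B⟩ : ∃ b' ∈ B', b' ∉ B := by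
      by_contra! h
      exact hbB' (Finset.eq_of_subset_of_card_le h hcard.le ▸ hbB)
    have hbb' : b ≠ b' := fun h => hb'B (h ▸ hbB)
    obtain ⟨x, hxA, hx⟩ := Finset.exists_mem_notMem_of_card_lt_card (s := ({b, b'} : Finset ι)) (t := A)
      (by rw [Finset.card_pair hbb']; omega)
    simp only [Finset.mem_insert, Finset.mem_singleton, not_or] at hx
    set B₁ := insert b' (B.erase b) with hB₁
    have hcard₁ : B₁.card = B'.card := by
      rw [hB₁, Finset.card_insert_of_notMem (fun h => hb'B (Finset.mem_of_mem_erase h)),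
        Finset.card_erase_add_one hbB, hcard]
    have hlt : (B₁ \ B').card < (B \ B').card := by
      refine Finset.card_lt_card (Finset.ssubset_iff_subset_ne.2 ⟨fun l hl => ?_, fun h => ?_⟩)
      · obtain ⟨hl1, hl2⟩ := Finset.mem_sdiff.1 hl
        rcases Finset.mem_insert.1 hl1 with rfl | hl1
        · exact absurd hb'B' hl2
        · exact Finset.mem_sdiff.2 ⟨Finset.mem_of_mem_erase hl1, hl2⟩
      · rw [← h] at hb
        rcases Finset.mem_insert.1 (Finset.mem_sdiff.1 hb).1 with h' | h'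
        exacts [hbb' h', (Finset.mem_erase.1 h').1 rfl]
    obtain ⟨π, hπX, hπm, hπs, hπ⟩ := ih _ hlt (B := B₁) (Finset.insert_subset (hB' hb'B')
      ((Finset.erase_subset b B).trans hB)) hcard₁ rfl
    obtain ⟨y, z, hyA, hzA, hby, hbz, hyz, hmap⟩ : ∃ y z, y ∈ A ∧ z ∈ A ∧ b ≠ y ∧ b ≠ z ∧ y ≠ z ∧
        ∀ l ∈ B, (l = b → y ∈ B₁) ∧ (l = y → z ∈ B₁) ∧ (l = z → b ∈ B₁) ∧ (l ≠ b → l ∈ B₁) := by
      have hmem : ∀ l ∈ B, l ≠ b → l ∈ B₁ := fun l hl h => Finset.mem_insert_of_mem (Finset.mem_erase.2 ⟨h, hl⟩)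
      by_cases hxB : x ∈ B
      · exact ⟨x, b', hxA, hB' hb'B', Ne.symm hx.1, hbb', hx.2, fun l hl => ⟨fun _ => hmem x hxB hx.1,
          fun _ => Finset.mem_insert_self _ _, fun h => absurd (h ▸ hl) hb'B, hmem l hl⟩⟩
      · exact ⟨b', x, hB' hb'B', hxA, hbb', Ne.symm hx.1, Ne.symm hx.2, fun l hl => ⟨fun _ =>
          Finset.mem_insert_self _ _, fun h => absurd (h ▸ hl) hb'B, fun h => absurd (h ▸ hl) hxB, hmem l hl⟩⟩
    obtain ⟨cb, cy, cz, cfix⟩ := H.cyc_app (H.val b) (H.val y) (H.val z) (H.co_ne hby) (H.co_ne hbz) (H.co_ne hyz)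
    have hcm : rO Q (e b - e y) * rO Q (e y - e z) ∈ H.mono := H.mono.mul_mem
      (H.isMono_sub (H.ax_e b) (H.ax_e y) (H.val b) (H.val y) (H.co_ne hby))
      (H.isMono_sub (H.ax_e y) (H.ax_e z) (H.val y) (H.val z) (H.co_ne hyz))
    have hcX := hX.cyc (H.val b) (H.val y) (H.val z) (H.co_ne hby) (H.co_ne hyz) hcm
    set σ := rO Q (e b - e y) * rO Q (e y - e z) with hσ
    have hσs : H.Supp σ A := ONB.Supp.mul H
      (H.rO_supp (sub_mem (H.e_mem_sub (hB hbB)) (H.e_mem_sub hyA)))
      (H.rO_supp (sub_mem (H.e_mem_sub hyA) (H.e_mem_sub hzA)))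
    have hσB : ∀ l ∈ B, (σ : V ≃ₗ[F] V) (e l) ∈ H.sub B₁ := fun l hl => by
      obtain ⟨m1, m2, m3, m4⟩ := hmap l hl
      rcases eq_or_ne l b with rfl | h1
      · rw [cb]; exact H.e_mem_sub (m1 rfl)
      rcases eq_or_ne l y with rfl | h2
      · rw [cy]; exact H.e_mem_sub (m2 rfl)
      rcases eq_or_ne l z with rfl | h3
      · rw [cz]; exact H.e_mem_sub (m3 rfl)
      · rw [cfix _ (H.co_ne (Ne.symm h1)) (H.co_ne (Ne.symm h2)) (H.co_ne (Ne.symm h3))]
        exact H.e_mem_sub (m4 h1)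
    refine ⟨π * σ, X.mul_mem hπX hcX, H.mono.mul_mem hπm hcm, ONB.Supp.mul H hπs hσs, fun l hl => ?_⟩
    rw [Subgroup.coe_mul, mul_app]
    classical
    have hle : (H.sub B₁).map ((π : V ≃ₗ[F] V) : V →ₗ[F] V) ≤ H.sub B' := by
      refine (Submodule.map_mono H.sub_le_span).trans ?_
      rw [Submodule.map_span, Submodule.span_le]
      rintro _ ⟨w, hw, rfl⟩
      obtain ⟨m, hm, rfl⟩ := Finset.mem_image.1 hw
      exact hπ m hm
    exact hle ⟨_, hσB l hl, rfl⟩

end Cfsg.Agent.H97.Frame
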