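import Cfsg.Agent.H97.Frame.Count

/-!
A set of unit vectors of a ternary form over a prime field which is closed under its reflections and contains
enough vectors consists of all the unit vectors.
-/

set_option autoImplicit false

namespace Cfsg.Agent.H97.Frame.Three

open Module

variable {F : Type*} [Field F]

/-- The half turn about a unit vector, that is, the negative of its reflection. -/
def half (q : F) (w : Fin 3 → F) (hw : D q w w = 1) : (Fin 3 → F) ≃ₗ[F] (Fin 3 → F) :=
  LinearEquiv.ofInvolutive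
    { toFun := fun x => (2 * D q w x) • w - x
      map_add' := fun x y => by rw [D_add_right]; module
      map_smul' := fun a x => by rw [D_smul_right]; simp only [RingHom.id_apply]; module }
    fun x => by
      show (2 * D q w ((2 * D q w x) • w - x)) • w - ((2 * D q w x) • w - x) = x
      rw [D_sub_right, D_smul_right, hw]
      module

theorem half_apply (q : F) (w : Fin 3 → F) (hw : D q w w = 1) (x : Fin 3 → F) :
    half q w hw x = (2 * D q w x) • w - x := rfl

theorem half_isom (q : F) (w : Fin 3 → F) (hw : D q w w = 1) (x y : Fin 3 → F) :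
    D q (half q w hw x) (half q w hw y) = D q x y := by
  simp only [half_apply]
  simp only [D, Pi.sub_apply, Pi.smul_apply, smul_eq_mul] at hw ⊢
  linear_combination (4 * (w 0 * x 0 + w 1 * x 1 + q * (w 2 * x 2)) * (w 0 * y 0 + w 1 * y 1 + q * (w 2 * y 2))) * hw

theorem det_half (q : F) (w : Fin 3 → F) (hw : D q w w = 1) :
    LinearMap.det ((half q w hw : (Fin 3 → F) →ₗ[F] (Fin 3 → F))) = 1 := by
  rw [← LinearMap.det_toMatrix', Matrix.det_fin_three]
  simp [LinearMap.toMatrix'_apply, half_apply, D]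
  simp [D] at hw
  linear_combination 2 * hw

variable {q : F}

theorem neg_mem {S : (Fin 3 → F) → Prop} (hSu : ∀ v, S v → D q v v = 1)
    (hcl : ∀ w v, S w → S v → S (v - (2 * D q w v) • w)) {v : Fin 3 → F} (h : S v) : S (-v) := by
  have h' := hcl v v h h
  rwa [hSu v h, mul_one, show v - (2 : F) • v = -v by module] at h'

theorem half_mem {S : (Fin 3 → F) → Prop} (hSu : ∀ v, S v → D q v v = 1)
    (hcl : ∀ w v, S w → S v → S (v - (2 * D q w v) • w)) {w v : Fin 3 → F} (hw : S w) (h : S v) :
    S (half q w (hSu w hw) v) := by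
  have := neg_mem hSu hcl (hcl w v hw h)
  rwa [neg_sub] at this

variable [Fintype F]

/-- An element of order the characteristic, inverted axes and all. -/
theorem exists_unipotent (hq : q ≠ 0) {p : ℕ} [Fact p.Prime] [CharP F p] (h5 : 5 ≤ p) {S : (Fin 3 → F) → Prop}
    (hSu : ∀ v, S v → D q v v = 1) (hcl : ∀ w v, S w → S v → S (v - (2 * D q w v) • w))
    (h0 : S ![1, 0, 0]) (h1 : S ![0, 1, 0]) {d x : F} (hv : S ![d, 0, x]) (hd : d ≠ 0) (hd1 : d * d ≠ 1)
    (hd2 : 2 * (d * d) ≠ 1) {w : Fin 3 → F} (hw : S w) (hw1 : w 1 ≠ 0) (hw2 : w 0 ≠ 0 ∨ w 2 ≠ 0) :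
    ∃ u : (Fin 3 → F) ≃ₗ[F] (Fin 3 → F), u ≠ 1 ∧ u ^ p = 1 ∧ (∀ y z, D q (u y) (u z) = D q y z) ∧
      ∀ v, S (u v) ↔ S v := by
  classical
  have h2 : (2 : F) ≠ 0 := Ring.two_ne_zero (by rw [ringChar.eq F p]; omega)
  have := finite_equiv (F := F)
  set G : Subgroup ((Fin 3 → F) ≃ₗ[F] (Fin 3 → F)) :=
    Subgroup.closure {g | ∃ v hv, S v ∧ g = half q v hv} with hG
  have hgen : ∀ {v : Fin 3 → F} (h : S v), half q v (hSu v h) ∈ G := fun {v} h =>
    Subgroup.subset_closure ⟨v, hSu v h, h, rfl⟩
  have hall : ∀ g ∈ G, (∀ y z, D q (g y) (g z) = D q y z) ∧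
      LinearMap.det ((g : (Fin 3 → F) →ₗ[F] (Fin 3 → F))) = 1 ∧ ∀ v, S (g v) ↔ S v := by
    intro g hg
    induction hg using Subgroup.closure_induction with
    | mem g hg =>
      obtain ⟨v, hv', hS, rfl⟩ := hg
      refine ⟨half_isom q v hv', det_half q v hv', fun y => ⟨fun h => ?_, half_mem hSu hcl hS⟩⟩
      have h' := half_mem hSu hcl hS h
      rwa [half_apply, half_apply, D_sub_right, D_smul_right, hv',
        show (2 * (2 * D q v y * 1 - D q v y)) • v - ((2 * D q v y) • v - y) = y by module] at h'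
    | one => exact ⟨fun y z => rfl, LinearMap.det_id, fun v => Iff.rfl⟩
    | mul g h _ _ ihg ihh =>
      refine ⟨fun y z => by rw [LinearEquiv.mul_apply, LinearEquiv.mul_apply, ihg.1, ihh.1], ?_,
        fun v => by rw [LinearEquiv.mul_apply, ihg.2.2, ihh.2.2]⟩
      rw [LinearEquiv.coe_toLinearMap_mul, map_mul, ihg.2.1, ihh.2.1, one_mul]
    | inv g _ ih =>
      have hi : ∀ y, g ((g⁻¹ : (Fin 3 → F) ≃ₗ[F] (Fin 3 → F)) y) = y := fun y => by
        rw [← LinearEquiv.mul_apply, mul_inv_cancel]; rfl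
      refine ⟨fun y z => by rw [← ih.1, hi, hi], ?_, fun v => by rw [← ih.2.2, hi]⟩
      have h := congrArg LinearMap.det (LinearEquiv.coe_toLinearMap_mul (e₁ := g⁻¹) (e₂ := g))
      rw [inv_mul_cancel, map_mul, ih.2.1, mul_one, LinearEquiv.coe_toLinearMap_one, LinearMap.det_id] at h
      exact h.symm
  have hx : x ≠ 0 := by
    rintro rfl
    have := hSu _ hv
    simp [D] at this
    exact hd1 this
  have hn := hSu _ hv
  simp [D] at hn
  have hflip : half q ![1, 0, 0] (hSu _ h0) ![0, 1, 0] = -![0, 1, 0] := by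
    rw [half_apply]; funext i; fin_cases i <;> simp [D]
  have hcard := cast_card_eq_zero (G := G) hq h2 (fun g hg => (hall g hg).1) (fun g hg => (hall g hg).2.1)
    (v₁ := ![0, 1, 0]) (by simp [D]) (hgen h0) hflip (fun T hT => ?_) (hgen hw) (fun a ha => ?_)
  · obtain ⟨u, hu⟩ := exists_prime_orderOf_dvd_card' (G := G) p ((CharP.cast_eq_zero_iff F p _).1 hcard)
    refine ⟨u, fun h => ?_, ?_, (hall _ u.2).1, (hall _ u.2).2.2⟩
    · have : u = 1 := Subtype.ext h
      rw [this, orderOf_one] at hu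
      omega
    · rw [← Subgroup.coe_pow, ← hu, pow_orderOf_eq_one, Subgroup.coe_one]
  · set r := half q ![d, 0, x] (hSu _ hv) * half q ![1, 0, 0] (hSu _ h0) with hr
    have hrG : r ∈ G := G.mul_mem (hgen hv) (hgen h0)
    have hr' : half q ![1, 0, 0] (hSu _ h0) * half q ![d, 0, x] (hSu _ hv) ∈ G := G.mul_mem (hgen h0) (hgen hv)
    have hne : ∀ g, g ∈ G → g ![0, 1, 0] = ![0, 1, 0] → ∀ y, g ![1, 0, 0] = y →
        y ∈ T.image (fun g => g ![1, 0, 0]) := fun g hg hg' y hy =>
      Finset.mem_image.2 ⟨g, (hT g).2 ⟨hg, hg'⟩, hy⟩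
    have hsub : ({![1, 0, 0], ![-1, 0, 0], ![2 * d * d - 1, 0, 2 * d * x], ![2 * d * d - 1, 0, -(2 * d * x)],
        ![-(2 * d * d - 1), 0, -(2 * d * x)], ![-(2 * d * d - 1), 0, 2 * d * x]} : Finset (Fin 3 → F)) ⊆
        T.image (fun g => g ![1, 0, 0]) := by
      intro y hy
      simp only [Finset.mem_insert, Finset.mem_singleton] at hy
      rcases hy with rfl | rfl | rfl | rfl | rfl | rfl
      · exact hne 1 G.one_mem rfl _ rfl
      · refine hne _ (hgen h1) ?_ _ ?_ <;> rw [half_apply] <;> funext i <;> fin_cases i <;> simp [D] <;> first | ring1 | (ring_nf; simp)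
      · refine hne _ hrG ?_ _ ?_ <;> rw [hr, LinearEquiv.mul_apply, half_apply, half_apply] <;> funext i <;>
          fin_cases i <;> simp [D] <;> first | ring1 | (ring_nf; simp)
      · refine hne _ hr' ?_ _ ?_ <;> rw [LinearEquiv.mul_apply, half_apply, half_apply] <;> funext i <;>
          fin_cases i <;> simp [D] <;> first | ring1 | (ring_nf; simp)
      · refine hne _ (G.mul_mem (hgen h1) hrG) ?_ _ ?_ <;>
          rw [hr, LinearEquiv.mul_apply, LinearEquiv.mul_apply, half_apply, half_apply, half_apply] <;> funext i <;>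
          fin_cases i <;> simp [D] <;> first | ring1 | (ring_nf; simp)
      · refine hne _ (G.mul_mem (hgen h1) hr') ?_ _ ?_ <;>
          rw [LinearEquiv.mul_apply, LinearEquiv.mul_apply, half_apply, half_apply, half_apply] <;> funext i <;>
          fin_cases i <;> simp [D] <;> first | ring1 | (ring_nf; simp)
    refine le_trans ?_ ((Finset.card_le_card hsub).trans Finset.card_image_le)
    have hc : 2 * d * d - 1 ≠ 0 := fun h => hd2 (by linear_combination h)
    have hs : 2 * d * x ≠ 0 := by simp [h2, hd, hx]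
    have hneg : ∀ {a : F}, a ≠ 0 → a ≠ -a := fun {a} ha h => ha (by
      have : (2 : F) * a = 0 := by linear_combination h
      exact (mul_eq_zero.1 this).resolve_left h2)
    have h1' := hneg (one_ne_zero (α := F))
    have hc' := hneg hc
    have hs' := hneg hs
    generalize 2 * d * d - 1 = c at hc hc' ⊢
    generalize 2 * d * x = e at hs hs' ⊢
    simp [Finset.card_insert_of_notMem, Matrix.vecCons_inj, h1', h1'.symm, hc', hc'.symm, hs', hs'.symm, hs, hs.symm]
  · have e0 := congrFun ha 0
    have e2 := congrFun ha 2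
    simp [half_apply, D] at e0 e2
    rcases e0 with e0 | e0
    · exact hw1 (e0.resolve_left h2)
    rcases e2 with e2 | e2
    · exact hw1 (e2.resolve_left h2)
    · rcases hw2 with h | h
      · exact h e0
      · exact h e2

/-- The sum of the squares is zero when four is not one. -/
theorem sum_squares [DecidableEq F] (h2 : (2 : F) ≠ 0) (h3 : (3 : F) ≠ 0) :
    ∑ y ∈ Finset.univ.image (fun t : F => t * t), y = 0 := by
  set Q := Finset.univ.image (fun t : F => t * t) with hQ
  have h4 : (4 : F) ≠ 0 := by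
    rw [show (4 : F) = 2 * 2 by norm_num]; exact mul_ne_zero h2 h2
  have h : ∑ y ∈ Q, y = ∑ y ∈ Q, 4 * y := by
    refine Finset.sum_nbij' (fun y => y / 4) (fun y => 4 * y) (fun y hy => ?_) (fun y hy => ?_)
      (fun y _ => by field_simp) (fun y _ => by field_simp) (fun y _ => by field_simp)
    all_goals obtain ⟨t, -, rfl⟩ := Finset.mem_image.1 hy
    · exact Finset.mem_image.2 ⟨t / 2, Finset.mem_univ _, by field_simp; ring⟩
    · exact Finset.mem_image.2 ⟨2 * t, Finset.mem_univ _, by ring⟩
  rw [← Finset.mul_sum] at h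
  have : (3 : F) * ∑ y ∈ Q, y = 0 := by linear_combination -h
  exact (mul_eq_zero.1 this).resolve_left h3

/-- A multiplicative group containing `-1` and the nonzero values of `1 + q t²` is the full group. -/
theorem units_eq_top (hq : q ≠ 0) {p : ℕ} [Fact p.Prime] [CharP F p] (h5 : 5 ≤ p)
    (hF : Fintype.card F = p) (M : Subgroup Fˣ) (hneg : -1 ∈ M) (hval : ∀ m : Fˣ, ∀ t : F, (m : F) = 1 + q * (t * t) → m ∈ M) :
    M = ⊤ := by
  classical
  by_contra hM
  have h2 : (2 : F) ≠ 0 := Ring.two_ne_zero (by rw [ringChar.eq F p]; omega)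
  have h3 : (3 : F) ≠ 0 := by
    intro h
    have : ((3 : ℕ) : F) = 0 := by simpa using h
    have := Nat.le_of_dvd (by norm_num) ((CharP.cast_eq_zero_iff F p 3).1 this)
    omega
  set Q := Finset.univ.image (fun t : F => t * t) with hQ
  set Ms : Finset F := (Finset.univ.filter (· ∈ M)).image (fun m : Fˣ => (m : F)) with hMs
  have hMcard : Ms.card = Nat.card M := by
    rw [hMs, Finset.card_image_of_injective _ Units.val_injective, Nat.card_eq_fintype_card, Fintype.card_subtype]
  have h0 : (0 : F) ∉ Ms := by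
    simp [hMs]
  have hhalf : 2 * Nat.card M ≤ p - 1 := by
    obtain ⟨k, hk⟩ := M.card_subgroup_dvd_card
    rw [Nat.card_units, Nat.card_eq_fintype_card (α := F), hF] at hk
    rcases Nat.lt_or_ge k 2 with hk2 | hk2
    · interval_cases k
      · omega
      · refine absurd (Subgroup.eq_top_of_card_eq M ?_) hM
        rw [Nat.card_units, Nat.card_eq_fintype_card (α := F), hF]; omega
    · rw [hk]; calc 2 * Nat.card M = Nat.card M * 2 := mul_comm _ _
        _ ≤ Nat.card M * k := Nat.mul_le_mul_left _ hk2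
  have hQcard : p ≤ 2 * Q.card := by
    rw [← hF, ← Finset.card_univ]
    refine Finset.card_le_mul_card_image _ 2 fun y hy => ?_
    obtain ⟨t, -, rfl⟩ := Finset.mem_image.1 hy
    refine (Finset.card_le_card (t := {t, -t}) fun z hz => ?_).trans Finset.card_le_two
    rcases mul_self_eq_mul_self_iff.1 (Finset.mem_filter.1 hz).2 with h | h <;> simp [h]
  have hinj : Function.Injective (fun y : F => 1 + q * y) := fun y z h => mul_left_cancel₀ hq (add_left_cancel h)
  have hsub : Q.image (fun y => 1 + q * y) ⊆ insert 0 Ms := by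
    intro z hz
    obtain ⟨y, hy, rfl⟩ := Finset.mem_image.1 hz
    obtain ⟨t, -, rfl⟩ := Finset.mem_image.1 hy
    rcases eq_or_ne (1 + q * (t * t)) 0 with h | h
    · simp [h]
    · refine Finset.mem_insert_of_mem (Finset.mem_image.2 ⟨Units.mk0 _ h, ?_, rfl⟩)
      exact Finset.mem_filter.2 ⟨Finset.mem_univ _, hval _ t rfl⟩
  have hodd : p % 2 = 1 := Nat.odd_iff.1 ((Fact.out : p.Prime).odd_of_ne_two (by omega))
  have hle := Finset.card_le_card hsub
  rw [Finset.card_image_of_injective _ hinj, Finset.card_insert_of_notMem h0, hMcard] at hle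
  have heq : Q.image (fun y => 1 + q * y) = insert 0 Ms := Finset.eq_of_subset_of_card_le hsub (by
    rw [Finset.card_image_of_injective _ hinj, Finset.card_insert_of_notMem h0, hMcard]
    omega)
  have hsum := congrArg (fun s : Finset F => ∑ y ∈ s, y) heq
  simp only [Finset.sum_insert h0] at hsum
  have hMsum : ∑ y ∈ Ms, y = 0 := by
    have hneg' : ∀ y ∈ Ms, -y ∈ Ms := fun y hy => by
      obtain ⟨m, hm, rfl⟩ := Finset.mem_image.1 hy
      exact Finset.mem_image.2 ⟨-1 * m,
        Finset.mem_filter.2 ⟨Finset.mem_univ _, M.mul_mem hneg (Finset.mem_filter.1 hm).2⟩, by simp⟩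
    have h : ∑ y ∈ Ms, y = ∑ y ∈ Ms, -y :=
      Finset.sum_nbij' (fun y => -y) (fun y => -y) hneg' hneg' (fun y _ => neg_neg y) (fun y _ => neg_neg y)
        (fun y _ => (neg_neg y).symm)
    rw [Finset.sum_neg_distrib] at h
    have : (2 : F) * ∑ y ∈ Ms, y = 0 := by linear_combination h
    exact (mul_eq_zero.1 this).resolve_left h2
  rw [hMsum, add_zero, Finset.sum_image (fun a _ b _ h => hinj h), Finset.sum_add_distrib, ← Finset.mul_sum,
    sum_squares h2 h3, mul_zero, add_zero, Finset.sum_const, nsmul_one] at hsum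
  have hc : 2 * Q.card = p + 1 := by omega
  have := congrArg (fun n : ℕ => (n : F)) hc
  simp [hsum, CharP.cast_eq_zero] at this

/-- A set of unit vectors closed under its reflections and containing enough vectors is full. -/
theorem mem_of_unit (hq : q ≠ 0) (hF : (Fintype.card F).Prime) (h5 : 5 ≤ Fintype.card F)
    {S : (Fin 3 → F) → Prop} (hSu : ∀ v, S v → D q v v = 1)
    (hcl : ∀ w v, S w → S v → S (v - (2 * D q w v) • w))
    (h0 : S ![1, 0, 0]) (h1 : S ![0, 1, 0]) {d x : F} (hv : S ![d, 0, x]) (hd : d ≠ 0) (hd1 : d * d ≠ 1)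
    (hd2 : 2 * (d * d) ≠ 1) {w : Fin 3 → F} (hw : S w) (hw1 : w 1 ≠ 0) (hw2 : w 0 ≠ 0 ∨ w 2 ≠ 0)
    {v₀ : Fin 3 → F} (hv₀ : D q v₀ v₀ = 1) : S v₀ := by
  classical
  set p := Fintype.card F with hp
  have := Fact.mk hF
  have : CharP F p := (CharP.charP_iff_prime_eq_zero hF).2 (FiniteField.cast_card_eq_zero F)
  have h2 : (2 : F) ≠ 0 := Ring.two_ne_zero (by rw [ringChar.eq F p]; omega)
  obtain ⟨u, hu1, hup, hiso, huS⟩ := exists_unipotent hq h5 hSu hcl h0 h1 hv hd hd1 hd2 hw hw1 hw2
  -- a fixed singular vector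
  set N : Module.End F (Fin 3 → F) := (u : (Fin 3 → F) →ₗ[F] (Fin 3 → F)) - 1 with hN
  have hNapp : ∀ y, N y = u y - y := fun y => rfl
  have hNp : N ^ p = 0 := by
    have : CharP (Module.End F (Fin 3 → F)) p :=
      charP_of_injective_algebraMap (FaithfulSMul.algebraMap_injective F (Module.End F (Fin 3 → F))) p
    have hpow : ((u : (Fin 3 → F) →ₗ[F] (Fin 3 → F)) : Module.End F (Fin 3 → F)) ^ p =
        ((u ^ p : (Fin 3 → F) ≃ₗ[F] (Fin 3 → F)) : (Fin 3 → F) →ₗ[F] (Fin 3 → F)) :=
      (map_pow LinearEquiv.automorphismGroup.toLinearMapMonoidHom u p).symm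
    rw [hN, sub_pow_char_of_commute _ (Commute.one_right _), one_pow, hpow, hup]
    exact sub_self _
  obtain ⟨k, hk, hk1⟩ : ∃ k, N ^ k ≠ 0 ∧ N ^ (k + 1) = 0 := by
    by_contra! hcon
    exact (Nat.rec (motive := fun k => N ^ k ≠ 0) (by rw [pow_zero]; exact one_ne_zero)
      (fun k ih => hcon k ih) p) hNp
  have hk0 : k ≠ 0 := by
    rintro rfl
    rw [zero_add, pow_one] at hk1
    exact hu1 (LinearEquiv.ext fun y => by
      have := LinearMap.congr_fun hk1 y
      rw [hNapp, LinearMap.zero_apply, sub_eq_zero] at this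
      simpa using this)
  obtain ⟨y, hy⟩ : ∃ y, (N ^ k) y ≠ 0 := by
    by_contra! h
    exact hk (LinearMap.ext h)
  set a := (N ^ k) y with ha
  have hua : u a = a := by
    have : N a = 0 := by rw [ha, ← Module.End.mul_apply, ← pow_succ', hk1]; rfl
    rwa [hNapp, sub_eq_zero] at this
  have haorth : ∀ z, D q a (u z) = D q a z := fun z => by
    conv_lhs => rw [← hua]
    exact hiso _ _
  have haa : D q a a = 0 := by
    obtain ⟨k', rfl⟩ : ∃ k', k = k' + 1 := ⟨k - 1, by omega⟩
    conv_lhs => arg 3; rw [ha, pow_succ', Module.End.mul_apply]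
    rw [hNapp, D_sub_right, haorth, sub_self]
  obtain ⟨f₀, hf₀⟩ : ∃ f, D q a f ≠ 0 := by
    by_contra! h
    exact hy (eq_zero_of_D hq h)
  obtain ⟨f, haf, hff⟩ : ∃ f, D q a f = 1 ∧ D q f f = 0 := by
    set f₁ := (D q a f₀)⁻¹ • f₀ with hf₁
    have h1' : D q a f₁ = 1 := by rw [hf₁, D_smul_right, inv_mul_cancel₀ hf₀]
    clear_value f₁
    refine ⟨f₁ - (D q f₁ f₁ / 2) • a, by rw [D_sub_right, D_smul_right, h1', haa, mul_zero, sub_zero], ?_⟩
    have hsym := D_comm q f₁ a
    rw [D_sub_right, D_smul_right, sub_eq_add_neg f₁, ← neg_smul, D_add_left, D_smul_left, D_add_left, D_smul_left,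
      haa, h1', hsym, h1']
    field_simp
    ring
  obtain ⟨hab, hfb, hbb⟩ := cross_orth q a f
  set b := ![q * (a 1 * f 2 - a 2 * f 1), q * (a 2 * f 0 - a 0 * f 2), a 0 * f 1 - a 1 * f 0] with hb
  rw [haa, haf, zero_mul, zero_sub, one_mul, mul_neg, mul_one] at hbb
  have hli : LinearIndependent F ![a, f, b] := by
    rw [Fintype.linearIndependent_iff]
    intro g hg
    simp only [Fin.sum_univ_three, Matrix.cons_val_zero, Matrix.cons_val_one, Matrix.cons_val] at hg
    have ea := congrArg (D q a) hg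
    have ef := congrArg (D q f) hg
    have eb := congrArg (D q b) hg
    simp only [D_add_right, D_smul_right, haa, haf, hff, hab, hfb, hbb, D_comm q f a, D_comm q b a, D_comm q b f,
      show ∀ z, D q z 0 = 0 from fun z => by simp [D], mul_zero, mul_one, add_zero, zero_add, mul_neg,
      neg_eq_zero, mul_eq_zero, hq, or_false] at ea ef eb
    intro i
    fin_cases i
    exacts [ef, ea, eb]
  have hspan := hli.span_eq_top_of_card_eq_finrank' (by simp)
  have hexp : ∀ z, z = D q f z • a + D q a z • f - (D q b z / q) • b := by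
    intro z
    refine sub_eq_zero.1 (eq_zero_of_D hq fun z' => ?_)
    set e := z - (D q f z • a + D q a z • f - (D q b z / q) • b) with he
    have hz' : z' ∈ Submodule.span F (Set.range ![a, f, b]) := hspan ▸ Submodule.mem_top
    induction hz' using Submodule.span_induction with
    | mem t ht =>
      obtain ⟨i, rfl⟩ := ht
      rw [D_comm, he]
      fin_cases i <;>
        simp [D_sub_right, D_add_right, D_smul_right, haa, haf, hff, hab, hfb, hbb, D_comm q f a, D_comm q b a,
          D_comm q b f, hq]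
    | zero => simp [D]
    | add s t _ _ hs ht => rw [D_add_right, hs, ht, add_zero]
    | smul c t _ ht => rw [D_smul_right, ht, mul_zero]
  have hnorm : ∀ z, D q z z = 2 * (D q a z * D q f z) - D q b z * D q b z / q := by
    intro z
    conv_lhs => arg 3; rw [hexp z]
    rw [D_sub_right, D_add_right, D_smul_right, D_smul_right, D_smul_right, D_comm q z a, D_comm q z f,
      D_comm q z b]
    ring
  -- the unipotent element moves the middle coordinate
  obtain ⟨β, γ, hub⟩ : ∃ β γ : F, u b = β • a + γ • b := by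
    refine ⟨D q f (u b), -(D q b (u b) / q), ?_⟩
    conv_lhs => rw [hexp (u b), haorth, hab, zero_smul, add_zero]
    rw [neg_smul, sub_eq_add_neg]
  have hγ : γ = 1 := by
    have key : ∀ j : ℕ, ∃ s : F, (N ^ j) b = s • a + (γ - 1) ^ j • b := by
      intro j
      induction j with
      | zero => exact ⟨0, by simp⟩
      | succ j ih =>
        obtain ⟨s, hs⟩ := ih
        refine ⟨(γ - 1) ^ j * β, ?_⟩
        rw [pow_succ', Module.End.mul_apply, hs, map_add, map_smul, map_smul, hNapp, hNapp, hua, hub, sub_self,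
          smul_zero, zero_add, pow_succ']
        module
    obtain ⟨s, hs⟩ := key p
    rw [hNp, LinearMap.zero_apply] at hs
    have h := congrArg (D q b) hs
    rw [D_add_right, D_smul_right, D_smul_right, hbb, D_comm q b a, hab, show D q b 0 = 0 by simp [D]] at h
    simp [hq, sub_eq_zero] at h
    exact h.1
  subst hγ
  rw [one_smul] at hub
  have hβ : β ≠ 0 := by
    rintro rfl
    rw [zero_smul, zero_add] at hub
    have huf : u f = f := by
      have e1 : D q b (u f) = 0 := by conv_lhs => rw [← hub, hiso, D_comm, hfb]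
      have e2 : D q a (u f) = 1 := by rw [haorth, haf]
      have e3 := hnorm (u f)
      rw [hiso, hff, e1, e2] at e3
      have e4 : D q f (u f) = 0 := by
        have : (2 : F) * D q f (u f) = 0 := by linear_combination -e3
        exact (mul_eq_zero.1 this).resolve_left h2
      rw [hexp (u f), e1, e2, e4]
      simp
    refine hu1 (LinearEquiv.toLinearMap_injective (LinearMap.ext_on hspan ?_))
    rintro _ ⟨i, rfl⟩
    fin_cases i <;> simp [hua, huf, hub]
  have hbu : ∀ z (j : ℕ), D q a ((u ^ j) z) = D q a z ∧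
      D q b ((u ^ j) z) = D q b z - (j : F) * β * D q a z := by
    intro z j
    induction j with
    | zero => simp
    | succ j ih =>
      rw [pow_succ', LinearEquiv.mul_apply, haorth]
      refine ⟨ih.1, ?_⟩
      have h := hiso b ((u ^ j) z)
      rw [hub, D_add_left, D_smul_left, haorth, ih.1, ih.2] at h
      push_cast
      linear_combination h
  have hclass : ∀ {s t}, S s → D q t t = 1 → D q a s ≠ 0 → D q a t = D q a s → S t := by
    intro s t hs ht hl heq
    obtain ⟨⟨j, hj⟩, hj'⟩ : ∃ j : Fin p, ((j : ℕ) : F) = (D q b s - D q b t) / (β * D q a s) := by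
      have hinj : Function.Injective (fun j : Fin p => ((j : ℕ) : F)) := fun i j h => by
        have h' := (CharP.natCast_eq_natCast F p).1 h
        rw [Nat.ModEq, Nat.mod_eq_of_lt i.2, Nat.mod_eq_of_lt j.2] at h'
        exact Fin.ext h'
      exact ((Fintype.bijective_iff_injective_and_card _).2 ⟨hinj, by simp [hp]⟩).2 _
    have hmem : S ((u ^ j) s) := by
      clear hj hj'
      induction j with
      | zero => simpa using hs
      | succ j ih => rw [pow_succ', LinearEquiv.mul_apply, huS]; exact ih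
    obtain ⟨e1, e2⟩ := hbu s j
    have e2' : D q b ((u ^ j) s) = D q b t := by
      rw [e2, show ((j : ℕ) : F) = _ from hj']
      field_simp
      ring
    have hu' : D q ((u ^ j) s) ((u ^ j) s) = 1 := hSu _ hmem
    have e3 : D q f ((u ^ j) s) = D q f t := by
      have h := (hnorm ((u ^ j) s)).symm.trans (hu'.trans (ht.symm.trans (hnorm t)))
      rw [e1, e2', heq] at h
      have : (2 * D q a s) * (D q f ((u ^ j) s) - D q f t) = 0 := by linear_combination h
      exact sub_eq_zero.1 ((mul_eq_zero.1 this).resolve_left (mul_ne_zero h2 hl))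
    have : (u ^ j) s = t := by rw [hexp ((u ^ j) s), hexp t, e1, e2', e3, heq]
    rwa [this] at hmem
  -- a vector with given coordinates
  have hpt : ∀ l t : F, l ≠ 0 → ∃ z, D q a z = l ∧ D q b z = q * t ∧ D q z z = 1 := by
    intro l t hl
    refine ⟨((1 + q * (t * t)) / (2 * l)) • a + l • f - t • b, ?_, ?_, ?_⟩
    · simp [D_sub_right, D_add_right, D_smul_right, haa, haf, hab]
    · simp [D_sub_right, D_add_right, D_smul_right, D_comm q b a, D_comm q b f, hab, hfb, hbb]
      ring
    · rw [hnorm]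
      simp [D_sub_right, D_add_right, D_smul_right, haa, haf, hab, hff, hfb, D_comm q b a, D_comm q b f, hbb,
        D_comm q f a]
      field_simp
      ring
  -- the classes met
  let Cl : F → Prop := fun l => l ≠ 0 ∧ ∃ s, S s ∧ D q a s = l
  have hClneg : ∀ l, Cl l → Cl (-1 * l) := by
    rintro l ⟨hl, s, hs, rfl⟩
    exact ⟨by simpa using hl, -s, neg_mem hSu hcl hs, by simp [D]; ring⟩
  have hClval : ∀ l t, Cl l → 1 + q * (t * t) ≠ 0 → Cl ((1 + q * (t * t)) * l) := by
    rintro l t ⟨hl, s, hs, rfl⟩ hne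
    obtain ⟨z, hz1, hz2, hz3⟩ := hpt (D q a s) t hl
    obtain ⟨z₀, hy1, hy2, hy3⟩ := hpt (D q a s) 0 hl
    have hS : S (-(z₀ - (2 * D q z z₀) • z)) :=
      neg_mem hSu hcl (hcl z z₀ (hclass hs hz3 hl hz1) (hclass hs hy3 hl hy1))
    refine ⟨mul_ne_zero hne hl, _, hS, ?_⟩
    have e : D q z z₀ = D q a z * D q f z₀ + D q f z * D q a z₀ - D q b z * D q b z₀ / q := by
      conv_lhs => arg 3; rw [hexp z₀]
      rw [D_sub_right, D_add_right, D_smul_right, D_smul_right, D_smul_right, D_comm q z a, D_comm q z f,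
        D_comm q z b]
      ring
    have f1 := hnorm z
    have f0 := hnorm z₀
    rw [hz3, hz1, hz2] at f1
    rw [hy3, hy1, hy2, mul_zero, mul_zero, zero_div, sub_zero] at f0
    rw [hz1, hy1, hy2, mul_zero, mul_zero, zero_div, sub_zero] at e
    have hqq : q * t * (q * t) / q = q * (t * t) := by field_simp
    rw [hqq] at f1
    rw [← neg_one_smul F (z₀ - _), D_smul_right, D_sub_right, D_smul_right, hy1, hz1, e]
    linear_combination -(D q a s) * f1 - (D q a s) * f0
  have hiff : ∀ m : F, m ≠ 0 → (∀ l, Cl l → Cl (m * l)) → ∀ l, Cl (m * l) ↔ Cl l := by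
    intro m hm h l
    have hpow : ∀ (j : ℕ) l, Cl l → Cl (m ^ j * l) := by
      intro j
      induction j with
      | zero => intro l hl; rwa [pow_zero, one_mul]
      | succ j ih => intro l hl; rw [pow_succ', mul_assoc]; exact h _ (ih l hl)
    refine ⟨fun hl => ?_, h l⟩
    have h' := hpow (p - 2) _ hl
    rwa [← mul_assoc, ← pow_succ, show p - 2 + 1 = p - 1 by omega, FiniteField.pow_card_sub_one_eq_one m hm,
      one_mul] at h'
  let M : Subgroup Fˣ :=
    { carrier := {m | ∀ l, Cl ((m : F) * l) ↔ Cl l}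
      one_mem' := fun l => by simp
      mul_mem' := fun {m n} hm hn l => by rw [Units.val_mul, mul_assoc, hm, hn]
      inv_mem' := fun {m} hm l => by rw [← hm]; simp }
  have htop : M = ⊤ := units_eq_top hq h5 hp.symm M
    (fun l => by simpa using hiff (-1) (by simp) hClneg l)
    (fun m t hmt => fun l => by
      rw [hmt]; exact hiff _ (hmt ▸ m.ne_zero) (fun l hl => hClval l t hl (hmt ▸ m.ne_zero)) l)
  obtain ⟨l₀, hl₀⟩ : ∃ l, Cl l := by
    by_contra! hcon
    have hz : ∀ s, S s → D q a s = 0 := fun s hs => by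
      by_contra hne
      exact hcon _ ⟨hne, s, hs, rfl⟩
    have e0 := hz _ h0
    have e1 := hz _ h1
    have e2 := hz _ hv
    simp [D] at e0 e1 e2
    have hxne : x ≠ 0 := by
      rintro rfl
      have := hSu _ hv
      simp [D] at this
      exact hd1 this
    simp [e0, e1, hq, hxne] at e2
    exact hy (funext fun i => by fin_cases i <;> simp [e0, e1, e2])
  have hall : ∀ {t}, D q t t = 1 → D q a t ≠ 0 → S t := by
    intro t ht hne
    have hm : Units.mk0 (D q a t / l₀) (div_ne_zero hne hl₀.1) ∈ M := htop ▸ Subgroup.mem_top _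
    obtain ⟨-, s, hs, hs'⟩ := (hm l₀).2 hl₀
    rw [Units.val_mk0, div_mul_cancel₀ _ hl₀.1] at hs'
    exact hclass hs ht (hs' ▸ hne) hs'.symm
  rcases ne_or_eq (D q a v₀) 0 with hne | he
  · exact hall hv₀ hne
  obtain ⟨z, hz1, hz3, hz4⟩ : ∃ z, D q a z ≠ 0 ∧ D q z z = 1 ∧ D q z v₀ ≠ 0 := by
    have hb0 : D q b v₀ ≠ 0 := fun h => by
      have := hnorm v₀
      rw [hv₀, he, h] at this
      simp at this
    have hd' : ∀ z, D q z v₀ = D q a z * D q f v₀ - D q b z * D q b v₀ / q := fun z => by
      conv_lhs => arg 3; rw [hexp v₀, he, zero_smul, add_zero]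
      rw [D_sub_right, D_smul_right, D_smul_right, D_comm q z a, D_comm q z b]
      ring
    obtain ⟨z, hz1, hz2, hz3⟩ := hpt 1 0 one_ne_zero
    rcases ne_or_eq (D q f v₀) 0 with hf | hf
    · refine ⟨z, by simp [hz1], hz3, ?_⟩
      rw [hd', hz1, hz2]
      simpa using hf
    · obtain ⟨z, hz1, hz2, hz3⟩ := hpt 1 1 one_ne_zero
      refine ⟨z, by simp [hz1], hz3, ?_⟩
      rw [hd', hz1, hz2, hf]
      simp [hb0, hq]
  have hw' : S z := hall hz3 hz1
  set t := v₀ - (2 * D q z v₀) • z with ht
  have ht1 : D q t t = 1 := by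
    rw [← half_isom q z hz3] at hv₀
    have : half q z hz3 v₀ = -t := by rw [half_apply, ht, neg_sub]
    rw [this] at hv₀
    rw [← hv₀]
    simp [D]
  have hta : D q a t ≠ 0 := by
    rw [ht, D_sub_right, D_smul_right, he, zero_sub, neg_ne_zero]
    exact mul_ne_zero (mul_ne_zero h2 hz4) hz1
  have := hcl z t hw' (hall ht1 hta)
  rwa [ht, D_sub_right, D_smul_right, hz3,
    show v₀ - (2 * D q z v₀) • z - (2 * (D q z v₀ - 2 * D q z v₀ * 1)) • z = v₀ by module] at this

end Cfsg.Agent.H97.Frame.Three
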