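import Cfsg.Agent.H97.Frame.Pts
import Cfsg.Agent.H97.Frame.Three

/-!
Vectors supported on seven chosen coordinates, and the computations for the primes five and seven.
-/

set_option autoImplicit false

namespace Cfsg.Agent.H97.Frame

open QuadraticMap Module Cfsg.Agent.Orthogonal

variable {F V ι : Type*} [Field F] [AddCommGroup V] [Module F V] [Fintype ι] [DecidableEq ι]
variable {Q : QuadraticForm F V} {e : ι → V} {c : F} {H : ONB Q e c} {X : Subgroup (O Q)}

/-- The vector with the given coordinates at the chosen places. -/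
def vec (e : ι → V) {m : ℕ} (idx : Fin m ↪ ι) (t : Fin m → F) : V := ∑ l, t l • e (idx l)

theorem co_vec {m : ℕ} (idx : Fin m ↪ ι) (t : Fin m → F) (i : ι) :
    H.co i (vec e idx t) = ∑ l, if i = idx l then t l else 0 := by
  classical
  unfold vec
  induction (Finset.univ : Finset (Fin m)) using Finset.induction with
  | empty => simp [H.co_zero]
  | insert a s ha ih =>
    rw [Finset.sum_insert ha, Finset.sum_insert ha, H.co_add, ih, H.co_smul, H.co_e]
    split_ifs <;> simp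

theorem co_vec_self {m : ℕ} (idx : Fin m ↪ ι) (t : Fin m → F) (l : Fin m) : H.co (idx l) (vec e idx t) = t l := by
  rw [co_vec (H := H), Finset.sum_eq_single l (fun k _ hk => if_neg fun h => hk (idx.injective h).symm) (by simp),
    if_pos rfl]

theorem co_vec_ne {m : ℕ} (idx : Fin m ↪ ι) (t : Fin m → F) {i : ι} (h : ∀ l, idx l ≠ i) :
    H.co i (vec e idx t) = 0 := by
  rw [co_vec (H := H)]
  exact Finset.sum_eq_zero fun l _ => if_neg (h l).symm

theorem dot_vec {m : ℕ} (idx : Fin m ↪ ι) (s t : Fin m → F) :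
    H.dot (vec e idx s) (vec e idx t) = ∑ l, s l * t l := by
  rw [H.dot_eq_sum]
  symm
  refine (Finset.sum_congr rfl (g := fun l => H.co (idx l) (vec e idx s) * H.co (idx l) (vec e idx t))
    fun l _ => by rw [co_vec_self (H := H), co_vec_self (H := H)]).trans ?_
  rw [← Finset.sum_map Finset.univ idx (fun i => H.co i (vec e idx s) * H.co i (vec e idx t))]
  exact Finset.sum_subset (Finset.subset_univ _) fun i _ hi => by
    rw [co_vec_ne (H := H) idx s fun l hl => hi (Finset.mem_map.2 ⟨l, Finset.mem_univ l, hl⟩), zero_mul]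

variable (hX : Over H X)
include hX

/-- Permuting and changing signs inside the chosen places. -/
theorem Over.vec_perm {m : ℕ} (idx : Fin m ↪ ι) {s t : Fin m → F} (ht : Pt H X (vec e idx t)) (σ : Equiv.Perm (Fin m))
    (h : ∀ l, s (σ l) * s (σ l) = t l * t l) {l l' : Fin m} (hll : l ≠ l') (hl : t l = 0) (hl' : t l' = 0) :
    Pt H X (vec e idx s) := by
  refine hX.pt_perm ht (a := idx l) (b := idx l') (fun h' => hll (idx.injective h'))
    (by rw [co_vec_self (H := H), hl]) (by rw [co_vec_self (H := H), hl']) (σ.viaFintypeEmbedding idx) fun i => ?_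
  by_cases hi : i ∈ Set.range idx
  · obtain ⟨k, rfl⟩ := hi
    rw [Equiv.Perm.viaFintypeEmbedding_apply_image, co_vec_self (H := H), co_vec_self (H := H)]
    exact h k
  · rw [Equiv.Perm.viaFintypeEmbedding_apply_notMem_range _ _ hi, co_vec_ne (H := H) idx s fun k hk => hi ⟨k, hk⟩,
      co_vec_ne (H := H) idx t fun k hk => hi ⟨k, hk⟩]

theorem Over.vec_refl {m : ℕ} (idx : Fin m ↪ ι) {A B : Fin m → F} (hA : Pt H X (vec e idx A))
    (hB : Pt H X (vec e idx B)) (i : ι) :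
    Pt H X (vec e idx fun l => A l - 2 * (∑ k, B k * A k) * B l) := by
  have h := hX.pt_refl hB hA i
  rw [H.rO_unit hB.norm, dot_vec (H := H)] at h
  convert h using 1
  simp [vec, sub_smul, mul_smul, Finset.smul_sum]

/-- Any vector with at most four coordinates is moved to the first four places. -/
theorem Over.to_window (idx : Fin 7 ↪ ι) {v : V} (hv : Q v = c) {A : Finset ι} (hA : A.card = 4)
    (hsupp : v ∈ H.sub A) :
    ∃ t : Fin 4 → F, (∑ l, t l * t l) = 1 ∧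
      (∀ a, H.co a v ≠ 0 → ∃ l, t l = H.co a v) ∧ (∀ a ∈ A, ∃ l, t l = H.co a v) ∧
      (Pt H X v ↔ Pt H X (vec e idx fun l => if h : (l : ℕ) < 4 then t ⟨l, h⟩ else 0)) := by
  classical
  set T : Finset ι := Finset.univ.map ((Fin.castLEEmb (show 4 ≤ 7 by norm_num)).trans idx) with hT
  have hTcard : A.card = T.card := by rw [hA, hT, Finset.card_map, Finset.card_univ, Fintype.card_fin]
  set π : Equiv.Perm ι := (Finset.equivOfCardEq hTcard).extendSubtype with hπ
  set u : Fin 7 → F := fun l => H.co (π.symm (idx l)) v with hu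
  have hout : ∀ i, i ∉ A → π i ∉ T := fun i hi => Equiv.extendSubtype_not_mem _ i hi
  have hin : ∀ i, i ∈ A → π i ∈ T := fun i hi => Equiv.extendSubtype_mem _ i hi
  have hzero : ∀ l : Fin 7, ¬ (l : ℕ) < 4 → u l = 0 := by
    intro l hl
    refine hsupp _ fun hmem => hl ?_
    have := hin _ hmem
    rw [Equiv.apply_symm_apply, hT, Finset.mem_map] at this
    obtain ⟨k, -, hk⟩ := this
    have hkl : Fin.castLE (by norm_num) k = l := idx.injective hk
    rw [← hkl]
    exact k.2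
  have hco : ∀ i, H.co (π i) (vec e idx u) = H.co i v := by
    intro i
    by_cases hi : π i ∈ Set.range idx
    · obtain ⟨l, hl⟩ := hi
      rw [← hl, co_vec_self (H := H), hu]
      simp [hl]
    · rw [co_vec_ne (H := H) idx u fun l hl => hi ⟨l, hl⟩]
      refine (hsupp i fun hA' => hi ?_).symm
      obtain ⟨k, -, hk⟩ := Finset.mem_map.1 (hin i hA')
      exact ⟨_, hk⟩
  have huv : (fun l : Fin 7 => if h : (l : ℕ) < 4 then u (Fin.castLE (by norm_num) (⟨l, h⟩ : Fin 4)) else 0) = u := by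
    funext l
    split_ifs with h
    · rfl
    · exact (hzero l h).symm
  refine ⟨fun l => u (Fin.castLE (by norm_num) l), ?_, ?_, ?_, ?_⟩
  · have h1 := dot_vec (H := H) idx u u
    rw [H.dot_eq_sum, ← Equiv.sum_comp π] at h1
    simp only [hco] at h1
    rw [← H.dot_eq_sum, H.dot_self_unit hv, Fin.sum_univ_seven] at h1
    rw [Fin.sum_univ_four, h1, hzero 4 (by decide), hzero 5 (by decide), hzero 6 (by decide)]
    simp
  · intro a ha
    have hmem : π a ∈ T := hin a (by_contra fun h => ha (hsupp a h))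
    obtain ⟨k, -, hk⟩ := Finset.mem_map.1 hmem
    refine ⟨k, ?_⟩
    show H.co (π.symm (idx (Fin.castLE _ k))) v = _
    rw [show idx (Fin.castLE _ k) = π a from hk, Equiv.symm_apply_apply]
  · intro a ha
    obtain ⟨k, -, hk⟩ := Finset.mem_map.1 (hin a ha)
    refine ⟨k, ?_⟩
    show H.co (π.symm (idx (Fin.castLE _ k))) v = _
    rw [show idx (Fin.castLE _ k) = π a from hk, Equiv.symm_apply_apply]
  · rw [huv]
    constructor
    · intro h
      obtain ⟨a, b, hab, ha, hb⟩ : ∃ a b, a ≠ b ∧ a ∉ A ∧ b ∉ A := by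
        have hc : A.card + 2 ≤ Fintype.card ι := by
          have := Fintype.card_le_of_injective idx idx.injective
          rw [Fintype.card_fin] at this
          omega
        obtain ⟨a, ha, b, hb, hab⟩ := Finset.one_lt_card.1 (show 1 < Aᶜ.card by rw [Finset.card_compl]; omega)
        exact ⟨a, b, hab, Finset.mem_compl.1 ha, Finset.mem_compl.1 hb⟩
      exact hX.pt_perm h hab (hsupp a ha) (hsupp b hb) π fun i => by rw [hco]
    · intro h
      refine hX.pt_perm h (a := idx 4) (b := idx 5) (fun h' => absurd (idx.injective h') (by decide))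
        (by rw [co_vec_self (H := H)]; exact hzero 4 (by decide))
        (by rw [co_vec_self (H := H)]; exact hzero 5 (by decide)) π.symm fun j => ?_
      rw [← hco, Equiv.apply_symm_apply]

/-- Padding commutes with a permutation of the first four places. -/
theorem Over.window_perm (idx : Fin 7 ↪ ι) {t s : Fin 4 → F}
    (ht : Pt H X (vec e idx fun l => if h : (l : ℕ) < 4 then t ⟨l, h⟩ else 0)) (σ : Equiv.Perm (Fin 4))
    (h : ∀ l, s (σ l) * s (σ l) = t l * t l) :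
    Pt H X (vec e idx fun l => if h : (l : ℕ) < 4 then s ⟨l, h⟩ else 0) := by
  refine hX.vec_perm idx ht (σ.viaFintypeEmbedding (Fin.castLEEmb (show 4 ≤ 7 by norm_num))) (fun l => ?_)
    (l := 4) (l' := 5) (by decide) (by simp) (by simp)
  by_cases hl : (l : ℕ) < 4
  · obtain ⟨k, rfl⟩ : ∃ k : Fin 4, Fin.castLEEmb (show 4 ≤ 7 by norm_num) k = l := ⟨⟨l, hl⟩, rfl⟩
    rw [Equiv.Perm.viaFintypeEmbedding_apply_image]
    simpa using h k
  · rw [Equiv.Perm.viaFintypeEmbedding_apply_notMem_range]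
    · simp [hl]
    · rintro ⟨k, rfl⟩
      exact hl k.2

theorem Over.window_axis (idx : Fin 7 ↪ ι) :
    Pt H X (vec e idx fun l => if h : (l : ℕ) < 4 then (![1, 0, 0, 0] : Fin 4 → F) ⟨l, h⟩ else 0) := by
  convert hX.pt_e (idx 0) using 1
  rw [vec, Finset.sum_eq_single 0 (fun l _ hl => ?_) (by simp)]
  · simp
  · fin_cases l <;> first | exact absurd rfl hl | simp

omit hX

/-- Padding by zeros to seven places. -/
def pad {α : Type*} [Zero α] (t : Fin 4 → α) : Fin 7 → α := fun l => if h : (l : ℕ) < 4 then t ⟨l, h⟩ else 0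

theorem map_pad {p : ℕ} [CharP F p] (t : Fin 4 → ZMod p) (l : Fin 7) :
    ZMod.castHom (dvd_refl p) F (pad t l) =
      if h : (l : ℕ) < 4 then ZMod.castHom (dvd_refl p) F (t ⟨l, h⟩) else 0 := by
  unfold pad
  split_ifs
  · rfl
  · exact map_zero _

/-- The rules for vectors at seven places with coordinates in the prime field. -/
structure Rules {p : ℕ} (P : (Fin 7 → ZMod p) → Prop) : Prop where
  perm : ∀ {t : Fin 7 → ZMod p} (s : Fin 7 → ZMod p) (f : Fin 7 → Fin 7), P t → Function.Bijective f →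
    (∀ l, s (f l) * s (f l) = t l * t l) → ∀ {l l' : Fin 7}, l ≠ l' → t l = 0 → t l' = 0 → P s
  refl : ∀ {A B : Fin 7 → ZMod p}, P A → P B → P (fun l => A l - 2 * (∑ k, B k * A k) * B l)

theorem Rules.chain_five {P : (Fin 7 → ZMod 5) → Prop} (R : Rules P) (h : P (pad ![2, 2, 2, 2])) :
    P (pad ![1, 1, 2, 0]) := by
  have a1 : P ![0, 0, 0, 2, 2, 2, 2] := R.perm _ ![3, 4, 5, 6, 0, 1, 2] h (by decide) (by decide) (l := 4) (l' := 5)
    (by decide) (by decide) (by decide)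
  have b1 : P ![0, 2, 0, 2, 2, 0, 2] := R.perm _ ![0, 2, 5, 1, 3, 4, 6] a1 (by decide) (by decide) (l := 0) (l' := 1)
    (by decide) (by decide) (by decide)
  have y1 := R.refl a1 b1
  have b2 : P ![1, 0, 0, 1, 2, 4, 2] := R.perm _ ![1, 4, 2, 0, 3, 6, 5] y1 (by decide) (by decide) (l := 0) (l' := 2)
    (by decide) (by decide) (by decide)
  have y2 := R.refl a1 b2
  exact R.perm _ ![0, 3, 4, 1, 5, 2, 6] y2 (by decide) (by decide) (l := 1) (l' := 2) (by decide) (by decide)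
    (by decide)

theorem Rules.chain_seven_one {P : (Fin 7 → ZMod 7) → Prop} (R : Rules P) (h : P (pad ![3, 3, 3, 3])) :
    P (pad ![2, 3, 3, 0]) := by
  have a1 : P ![0, 0, 0, 3, 3, 3, 3] := R.perm _ ![3, 4, 5, 6, 0, 1, 2] h (by decide) (by decide) (l := 4) (l' := 5)
    (by decide) (by decide) (by decide)
  have b1 : P ![0, 0, 3, 0, 3, 3, 3] := R.perm _ ![0, 1, 3, 2, 4, 5, 6] a1 (by decide) (by decide) (l := 0) (l' := 1)
    (by decide) (by decide) (by decide)
  have y1 := R.refl a1 b1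
  have b2 : P ![0, 0, 2, 2, 1, 4, 2] := R.perm _ ![0, 1, 4, 5, 2, 3, 6] y1 (by decide) (by decide) (l := 0) (l' := 1)
    (by decide) (by decide) (by decide)
  have y2 := R.refl a1 b2
  exact R.perm _ ![3, 4, 1, 5, 0, 2, 6] y2 (by decide) (by decide) (l := 0) (l' := 1) (by decide) (by decide)
    (by decide)

theorem Rules.chain_seven_two {P : (Fin 7 → ZMod 7) → Prop} (R : Rules P) (h : P (pad ![1, 1, 2, 3])) :
    P (pad ![2, 3, 3, 0]) := by
  have a1 : P ![0, 0, 0, 1, 1, 2, 3] := R.perm _ ![3, 4, 5, 6, 0, 1, 2] h (by decide) (by decide) (l := 4) (l' := 5)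
    (by decide) (by decide) (by decide)
  have b1 : P ![0, 0, 0, 3, 6, 1, 2] := R.perm _ ![0, 1, 2, 4, 5, 6, 3] a1 (by decide) (by decide) (l := 0) (l' := 1)
    (by decide) (by decide) (by decide)
  have y2 := R.refl a1 b1
  exact R.perm _ ![4, 5, 6, 1, 3, 2, 0] y2 (by decide) (by decide) (l := 0) (l' := 1) (by decide) (by decide)
    (by decide)

theorem Rules.chain_seven_three {P : (Fin 7 → ZMod 7) → Prop} (R : Rules P) (h : P (pad ![2, 3, 3, 0])) :
    P (pad ![2, 2, 0, 0]) := by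
  have a1 : P ![0, 0, 0, 0, 2, 3, 3] := R.perm _ ![4, 5, 6, 3, 0, 1, 2] h (by decide) (by decide) (l := 4) (l' := 5)
    (by decide) (by decide) (by decide)
  have b1 : P ![0, 0, 0, 2, 0, 3, 3] := R.perm _ ![0, 1, 2, 4, 3, 5, 6] a1 (by decide) (by decide) (l := 0) (l' := 1)
    (by decide) (by decide) (by decide)
  have y2 := R.refl a1 b1
  exact R.perm _ ![4, 5, 6, 0, 1, 2, 3] y2 (by decide) (by decide) (l := 0) (l' := 1) (by decide) (by decide)
    (by decide)

theorem class_five : ∀ q : Fin 4 → ZMod 5, (∀ l, q l = 0 ∨ q l = 1 ∨ q l = 4) → q 0 + q 1 + q 2 + q 3 = 1 →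
    ∃ σ : Equiv.Perm (Fin 4), (∀ l, q (σ l) = (![1, 0, 0, 0] : Fin 4 → ZMod 5) l) ∨
      (∀ l, q (σ l) = (![4, 4, 4, 4] : Fin 4 → ZMod 5) l) ∨ (∀ l, q (σ l) = (![1, 1, 4, 0] : Fin 4 → ZMod 5) l) := by
  decide +kernel

theorem class_seven : ∀ q : Fin 4 → ZMod 7, (∀ l, q l = 0 ∨ q l = 1 ∨ q l = 2 ∨ q l = 4) →
    q 0 + q 1 + q 2 + q 3 = 1 →
    ∃ σ : Equiv.Perm (Fin 4), (∀ l, q (σ l) = (![1, 0, 0, 0] : Fin 4 → ZMod 7) l) ∨
      (∀ l, q (σ l) = (![4, 4, 0, 0] : Fin 4 → ZMod 7) l) ∨ (∀ l, q (σ l) = (![4, 2, 2, 0] : Fin 4 → ZMod 7) l) ∨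
      (∀ l, q (σ l) = (![2, 2, 2, 2] : Fin 4 → ZMod 7) l) ∨
      (∀ l, q (σ l) = (![1, 1, 4, 2] : Fin 4 → ZMod 7) l) := by
  decide +kernel

theorem sq_five : ∀ x : ZMod 5, x * x = 0 ∨ x * x = 1 ∨ x * x = 4 := by decide

theorem sq_seven : ∀ x : ZMod 7, x * x = 0 ∨ x * x = 1 ∨ x * x = 2 ∨ x * x = 4 := by decide

theorem std_five : (∀ l, (![1, 0, 0, 0] : Fin 4 → ZMod 5) l = ![1, 0, 0, 0] l * ![1, 0, 0, 0] l) ∧
    (∀ l, (![4, 4, 4, 4] : Fin 4 → ZMod 5) l = ![2, 2, 2, 2] l * ![2, 2, 2, 2] l) ∧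
    (∀ l, (![1, 1, 4, 0] : Fin 4 → ZMod 5) l = ![1, 1, 2, 0] l * ![1, 1, 2, 0] l) ∧
    (∀ l, (![1, 0, 0, 0] : Fin 4 → ZMod 5) l = 0 ∨ (![1, 0, 0, 0] : Fin 4 → ZMod 5) l = 1) ∧
    ∀ l, (![4, 4, 4, 4] : Fin 4 → ZMod 5) l ≠ 0 := by decide

theorem std_seven : (∀ l, (![1, 0, 0, 0] : Fin 4 → ZMod 7) l = ![1, 0, 0, 0] l * ![1, 0, 0, 0] l) ∧
    (∀ l, (![4, 4, 0, 0] : Fin 4 → ZMod 7) l = ![2, 2, 0, 0] l * ![2, 2, 0, 0] l) ∧
    (∀ l, (![4, 2, 2, 0] : Fin 4 → ZMod 7) l = ![2, 3, 3, 0] l * ![2, 3, 3, 0] l) ∧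
    (∀ l, (![2, 2, 2, 2] : Fin 4 → ZMod 7) l = ![3, 3, 3, 3] l * ![3, 3, 3, 3] l) ∧
    (∀ l, (![1, 1, 4, 2] : Fin 4 → ZMod 7) l = ![1, 1, 2, 3] l * ![1, 1, 2, 3] l) ∧
    (∀ l, (![1, 0, 0, 0] : Fin 4 → ZMod 7) l = 0 ∨ (![1, 0, 0, 0] : Fin 4 → ZMod 7) l = 1) ∧
    (∀ l, (![4, 4, 0, 0] : Fin 4 → ZMod 7) l = 0 ∨ 2 * (![4, 4, 0, 0] : Fin 4 → ZMod 7) l = 1) ∧
    (∀ l, (![2, 2, 2, 2] : Fin 4 → ZMod 7) l ≠ 0) ∧ ∀ l, (![1, 1, 4, 2] : Fin 4 → ZMod 7) l ≠ 0 := by decide

variable [Fintype F]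

/-- Membership at the seven places for coordinates in the prime field. -/
def Pw (H : ONB Q e c) (X : Subgroup (O Q)) (idx : Fin 7 ↪ ι) (p : ℕ) [CharP F p] (t : Fin 7 → ZMod p) : Prop :=
  Pt H X (vec e idx fun l => ZMod.castHom (dvd_refl p) F (t l))

variable {p : ℕ} [CharP F p]

include hX

theorem Over.rules (idx : Fin 7 ↪ ι) : Rules (Pw H X idx p) where
  perm := fun {_} s f ht hf h {_ _} hll hl hl' => hX.vec_perm idx ht (Equiv.ofBijective f hf)
    (fun k => by simp only [Equiv.ofBijective_apply]; rw [← map_mul, ← map_mul, h k]) hll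
    (by simp [hl]) (by simp [hl'])
  refl := fun hA hB => by
    simp only [Pw] at hA hB ⊢
    simpa [map_sum, map_mul, map_sub, map_ofNat] using hX.vec_refl idx hA hB (idx 0)

theorem Over.pw_std (idx : Fin 7 ↪ ι) {u s : Fin 4 → ZMod p} (σ : Equiv.Perm (Fin 4))
    (h : ∀ l, u (σ l) * u (σ l) = s l * s l) : Pw H X idx p (pad s) ↔ Pw H X idx p (pad u) := by
  simp only [Pw, map_pad]
  exact ⟨fun h' => hX.window_perm idx (t := fun l => ZMod.castHom (dvd_refl p) F (s l))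
      (s := fun l => ZMod.castHom (dvd_refl p) F (u l)) h' σ fun l => by rw [← map_mul, ← map_mul, h l],
    fun h' => hX.window_perm idx (t := fun l => ZMod.castHom (dvd_refl p) F (u l))
      (s := fun l => ZMod.castHom (dvd_refl p) F (s l)) h' σ.symm fun l => by
        rw [← map_mul, ← map_mul, ← h, Equiv.apply_symm_apply]⟩

theorem Over.pw_axis (idx : Fin 7 ↪ ι) : Pw H X idx p (pad ![1, 0, 0, 0]) := by
  simp only [Pw, map_pad]
  convert hX.window_axis idx using 3 with l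
  split_ifs with h
  · generalize (⟨(l : ℕ), h⟩ : Fin 4) = k
    fin_cases k <;> simp
  · rfl

theorem Over.pw_of_vector [Fact p.Prime] (hF : Fintype.card F = p) (idx : Fin 7 ↪ ι) {v : V} (hv : Q v = c)
    {A : Finset ι} (hA : A.card = 4) (hs : v ∈ H.sub A) :
    ∃ u : Fin 4 → ZMod p, u 0 * u 0 + u 1 * u 1 + u 2 * u 2 + u 3 * u 3 = 1 ∧
      (∀ a ∈ A, ∃ l, ZMod.castHom (dvd_refl p) F (u l) = H.co a v) ∧ (Pt H X v ↔ Pw H X idx p (pad u)) := by
  obtain ⟨t, ht1, -, hta, htP⟩ := hX.to_window idx hv hA hs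
  have hsur : ∀ x : F, ∃ y, ZMod.castHom (dvd_refl p) F y = x := fun x => by
    obtain ⟨k, rfl⟩ := exists_natCast (hF ▸ (Fact.out : p.Prime)) x
    exact ⟨k, map_natCast _ k⟩
  choose u hu using fun l => hsur (t l)
  refine ⟨u, (ZMod.castHom (dvd_refl p) F).injective ?_, fun a ha => (hta a ha).imp fun l hl => (hu l).trans hl, ?_⟩
  · rw [map_one, map_add, map_add, map_add, map_mul, map_mul, map_mul, map_mul, hu, hu, hu, hu, ← ht1,
      Fin.sum_univ_four]
  · rw [htP]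
    simp only [Pw, map_pad, hu]

omit [CharP F p]

/-- All the unit vectors with at most three coordinates, from one with a good coordinate, for the prime five. -/
theorem Over.three_five (hF : Fintype.card F = 5) (idx : Fin 7 ↪ ι) {v₀ : V} (hv₀ : Pt H X v₀) {A₀ : Finset ι}
    (hA₀ : A₀.card = 4) (hs₀ : v₀ ∈ H.sub A₀) {a₀ : ι} (hd : H.co a₀ v₀ ≠ 0)
    (hd1 : H.co a₀ v₀ * H.co a₀ v₀ ≠ 1)
    {v : V} (hv : Q v = c) {A : Finset ι} (hA : A.card = 4) (hs : v ∈ H.sub A) {a : ι} (ha : a ∈ A)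
    (hav : H.co a v = 0) : Pt H X v := by
  obtain ⟨e1, e2, e3, e4, e5⟩ := std_five
  have R₀ := class_five
  have R₁ := sq_five
  have : Fact (Nat.Prime 5) := ⟨by norm_num⟩
  have : CharP F 5 := (CharP.charP_iff_prime_eq_zero (Fact.out : Nat.Prime 5)).2
    (hF ▸ FiniteField.cast_card_eq_zero F)
  have hR : Pw H X idx 5 (pad ![1, 1, 2, 0]) := by
    obtain ⟨u, hsum, hua, huP⟩ := hX.pw_of_vector hF idx hv₀.norm hA₀ hs₀
    obtain ⟨σ, h | h | h⟩ := R₀ (fun l => u l * u l) (fun l => R₁ _) hsum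
    · exfalso
      obtain ⟨l, hl⟩ := hua a₀ (by_contra fun hh => hd (hs₀ a₀ hh))
      obtain ⟨k, rfl⟩ := σ.surjective l
      rcases e4 k with h' | h' <;> have hk := (congrArg (ZMod.castHom (dvd_refl 5) F) ((h k).trans h')) <;>
        rw [map_mul, hl] at hk
      · rw [map_zero, mul_self_eq_zero] at hk; exact hd hk
      · rw [map_one] at hk; exact hd1 hk
    · exact (hX.rules idx).chain_five ((hX.pw_std idx σ fun l => (h l).trans (e2 l)).2 (huP.1 hv₀))
    · exact (hX.pw_std idx σ fun l => (h l).trans (e3 l)).2 (huP.1 hv₀)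
  obtain ⟨u, hsum, hua, huP⟩ := hX.pw_of_vector hF idx hv hA hs
  obtain ⟨σ, h | h | h⟩ := R₀ (fun l => u l * u l) (fun l => R₁ _) hsum
  · exact huP.2 ((hX.pw_std idx σ fun l => (h l).trans (e1 l)).1 (hX.pw_axis idx))
  · exfalso
    obtain ⟨l, hl⟩ := hua a ha
    obtain ⟨k, rfl⟩ := σ.surjective l
    rw [hav, ← map_zero (ZMod.castHom (dvd_refl 5) F)] at hl
    exact e5 k ((h k).symm.trans (by rw [(ZMod.castHom (dvd_refl 5) F).injective hl, mul_zero]))
  · exact huP.2 ((hX.pw_std idx σ fun l => (h l).trans (e3 l)).1 hR)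

/-- All the unit vectors with at most three coordinates, from one with a good coordinate, for the prime seven. -/
theorem Over.three_seven (hF : Fintype.card F = 7) (idx : Fin 7 ↪ ι) {v₀ : V} (hv₀ : Pt H X v₀) {A₀ : Finset ι}
    (hA₀ : A₀.card = 4) (hs₀ : v₀ ∈ H.sub A₀) {a₀ : ι} (hd : H.co a₀ v₀ ≠ 0)
    (hd1 : H.co a₀ v₀ * H.co a₀ v₀ ≠ 1) (hd2 : 2 * (H.co a₀ v₀ * H.co a₀ v₀) ≠ 1)
    {v : V} (hv : Q v = c) {A : Finset ι} (hA : A.card = 4) (hs : v ∈ H.sub A) {a : ι} (ha : a ∈ A)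
    (hav : H.co a v = 0) : Pt H X v := by
  obtain ⟨e1, e2, e3, e4, e5, e6, e7, e8, e9⟩ := std_seven
  have R₀ := class_seven
  have R₁ := sq_seven
  have : Fact (Nat.Prime 7) := ⟨by norm_num⟩
  have : CharP F 7 := (CharP.charP_iff_prime_eq_zero (Fact.out : Nat.Prime 7)).2
    (hF ▸ FiniteField.cast_card_eq_zero F)
  have hC3 : Pw H X idx 7 (pad ![2, 3, 3, 0]) := by
    obtain ⟨u, hsum, hua, huP⟩ := hX.pw_of_vector hF idx hv₀.norm hA₀ hs₀
    obtain ⟨l, hl⟩ := hua a₀ (by_contra fun hh => hd (hs₀ a₀ hh))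
    obtain ⟨σ, hall⟩ := R₀ (fun l => u l * u l) (fun l => R₁ _) hsum
    obtain ⟨k, rfl⟩ := σ.surjective l
    rcases hall with h | h | h | h | h
    · exfalso
      rcases e6 k with h' | h' <;> have hk := (congrArg (ZMod.castHom (dvd_refl 7) F) ((h k).trans h')) <;>
        rw [map_mul, hl] at hk
      · rw [map_zero, mul_self_eq_zero] at hk; exact hd hk
      · rw [map_one] at hk; exact hd1 hk
    · exfalso
      rcases e7 k with h' | h'
      · have hk := congrArg (ZMod.castHom (dvd_refl 7) F) ((h k).trans h')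
        rw [map_mul, hl, map_zero, mul_self_eq_zero] at hk
        exact hd hk
      · have hk := congrArg (ZMod.castHom (dvd_refl 7) F) ((congrArg (2 * ·) (h k)).trans h')
        rw [map_mul, map_mul, map_ofNat, hl, map_one] at hk
        exact hd2 hk
    · exact (hX.pw_std idx σ fun l => (h l).trans (e3 l)).2 (huP.1 hv₀)
    · exact (hX.rules idx).chain_seven_one ((hX.pw_std idx σ fun l => (h l).trans (e4 l)).2 (huP.1 hv₀))
    · exact (hX.rules idx).chain_seven_two ((hX.pw_std idx σ fun l => (h l).trans (e5 l)).2 (huP.1 hv₀))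
  obtain ⟨u, hsum, hua, huP⟩ := hX.pw_of_vector hF idx hv hA hs
  obtain ⟨σ, hall⟩ := R₀ (fun l => u l * u l) (fun l => R₁ _) hsum
  obtain ⟨l, hl⟩ := hua a ha
  obtain ⟨k, rfl⟩ := σ.surjective l
  rw [hav, ← map_zero (ZMod.castHom (dvd_refl 7) F)] at hl
  have hk : u (σ k) * u (σ k) = 0 := by rw [(ZMod.castHom (dvd_refl 7) F).injective hl, mul_zero]
  rcases hall with h | h | h | h | h
  · exact huP.2 ((hX.pw_std idx σ fun l => (h l).trans (e1 l)).1 (hX.pw_axis idx))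
  · exact huP.2 ((hX.pw_std idx σ fun l => (h l).trans (e2 l)).1 ((hX.rules idx).chain_seven_three hC3))
  · exact huP.2 ((hX.pw_std idx σ fun l => (h l).trans (e3 l)).1 hC3)
  · exact absurd ((h k).symm.trans hk) (e8 k)
  · exact absurd ((h k).symm.trans hk) (e9 k)

end Cfsg.Agent.H97.Frame
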